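import Groth.Agent.LCI19.Presentation
import Mathlib.RingTheory.Localization.Away.AdjoinRoot
import Mathlib.RingTheory.RingHom.FiniteType

/-! Complete intersection maps are local on the target. -/

universe u

open MvPolynomial

namespace Groth.Agent.LCI19

open Koszul19

variable {A : Type u} [CommRing A]

lemma krAt_of_away {f : A} {B : Type u} [CommRing B] [Algebra A B] [IsLocalization.Away f B]
    {I : Ideal A} (h : LCI.IsKoszulRegularIdeal (I.map (algebraMap A B))) (p : PrimeSpectrum A)
    (hp : I ≤ p.asIdeal) (hf : f ∉ p.asIdeal) : KRAt I p.asIdeal := by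
  have hdisj : Disjoint (Submonoid.powers f : Set A) (p.asIdeal : Set A) := by
    rw [Set.disjoint_left]
    rintro _ ⟨n, rfl⟩ hn
    exact hf (p.isPrime.mem_of_pow_mem _ hn)
  have hprime : (p.asIdeal.map (algebraMap A B)).IsPrime :=
    IsLocalization.isPrime_of_isPrime_disjoint (Submonoid.powers f) B _ p.isPrime hdisj
  obtain ⟨b, hb, l, hl, hkr, hI⟩ := (isKoszulRegularIdeal_iff _).1 h ⟨_, hprime⟩ (Ideal.map_mono hp)
  obtain ⟨k, a, hka⟩ := IsLocalization.Away.surj f b
  have ha : a ∉ p.asIdeal := by
    intro ha
    apply hb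
    have h1 : b * algebraMap A B f ^ k ∈ p.asIdeal.map (algebraMap A B) :=
      hka ▸ Ideal.mem_map_of_mem _ ha
    obtain ⟨u, hu⟩ := ((IsLocalization.Away.algebraMap_isUnit (S := B) f).pow k)
    have := Ideal.mul_mem_right (↑u⁻¹ : B) _ h1
    rwa [← hu, mul_assoc, Units.mul_inv, mul_one] at this
  refine ⟨f * a, fun hh => (p.isPrime.mem_or_mem hh).elim hf ha, ?_⟩
  let C := Localization.Away (f * a)
  have hfu : IsUnit (algebraMap A C f) :=
    isUnit_of_dvd_unit (map_dvd _ (dvd_mul_right f a)) (IsLocalization.Away.algebraMap_isUnit (f * a))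
  let : Algebra B C := (IsLocalization.Away.lift f hfu).toAlgebra
  have : IsScalarTower A B C :=
    IsScalarTower.of_algebraMap_eq fun x => (IsLocalization.Away.lift_eq f hfu x).symm
  have := flat_over_localization (Submonoid.powers f) B C
  have hbu : IsUnit (algebraMap B C b) := by
    have h1 := congrArg (algebraMap B C) hka
    rw [map_mul, map_pow, ← IsScalarTower.algebraMap_apply, ← IsScalarTower.algebraMap_apply] at h1
    have h2 : IsUnit (algebraMap A C a) :=
      isUnit_of_dvd_unit (map_dvd _ (dvd_mul_left a f)) (IsLocalization.Away.algebraMap_isUnit (f * a))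
    rw [← h1] at h2
    exact isUnit_of_mul_isUnit_left h2
  obtain ⟨l', -, hkr', hI'⟩ :=
    (show KRGen (Localization.Away b) (I.map (algebraMap A B)) from ⟨l, hl, hkr, hI⟩).of_isUnit
      (C := C) hbu
  rw [Ideal.map_map, ← IsScalarTower.algebraMap_eq] at hI'
  exact KRGen.of_list (g := f * a) _ hkr' hI'

lemma kr_of_target {B : Type u} [CommRing B] [Algebra A B] {n : ℕ}
    (α : MvPolynomial (Fin n) A →ₐ[A] B) (hα : Function.Surjective α) (p : MvPolynomial (Fin n) A)
    (C : Type u) [CommRing C] [Algebra A C] [Algebra B C] [IsScalarTower A B C]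
    [IsLocalization.Away (α p) C] (hC : LCI.IsLCI A C)
    (P' : Type u) [CommRing P'] [Algebra (MvPolynomial (Fin n) A) P']
    [IsLocalization.Away p P'] :
    LCI.IsKoszulRegularIdeal ((RingHom.ker α.toRingHom).map (algebraMap (MvPolynomial (Fin n) A) P')) := by
  classical
  let P := MvPolynomial (Fin n) A
  let : Algebra A P' := ((algebraMap P P').comp (algebraMap A P)).toAlgebra
  have : IsScalarTower A P P' := IsScalarTower.of_algebraMap_eq fun _ => rfl
  let y : Polynomial P := Polynomial.C p * Polynomial.X - 1
  let ρ : Polynomial P →ₐ[P] P' := Polynomial.aeval (IsLocalization.Away.invSelf (S := P') p)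
  let e : AdjoinRoot y ≃ₐ[P] P' :=
    (Localization.awayEquivAdjoin p).symm.trans (IsLocalization.algEquiv (Submonoid.powers p) _ _)
  have hρe : ∀ q, ρ q = e (AdjoinRoot.mk y q) := by
    intro q
    refine AlgHom.congr_fun (?_ : ρ = e.toAlgHom.comp (AdjoinRoot.mkₐ y)) q
    apply Polynomial.algHom_ext
    simp only [ρ, Polynomial.aeval_X, AlgHom.comp_apply]
    -- both are inverse to `p`
    have h1 : algebraMap P P' p * IsLocalization.Away.invSelf (S := P') p = 1 :=
      IsLocalization.Away.mul_invSelf p
    have h2 : algebraMap P P' p * e.toAlgHom (AdjoinRoot.mkₐ y Polynomial.X) = 1 := by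
      have h3 : AdjoinRoot.of y p * AdjoinRoot.root y = 1 := AdjoinRoot.root_isInv p
      have := congrArg e h3
      rw [map_mul, map_one] at this
      rw [← this]
      congr 1
      exact (e.commutes p).symm
    calc _ = IsLocalization.Away.invSelf (S := P') p *
        (algebraMap P P' p * e.toAlgHom (AdjoinRoot.mkₐ y Polynomial.X)) := by rw [h2, mul_one]
      _ = _ := by rw [← mul_assoc, mul_comm (IsLocalization.Away.invSelf p), h1, one_mul]
  have hρs : Function.Surjective ρ := by
    intro z
    obtain ⟨q, hq⟩ := AdjoinRoot.mk_surjective (e.symm z)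
    exact ⟨q, by rw [hρe, hq, AlgEquiv.apply_symm_apply]⟩
  let : Algebra (Polynomial P) P' := ρ.toRingHom.toAlgebra
  have hker : RingHom.ker (algebraMap (Polynomial P) P') = Ideal.span {y} := by
    ext q
    rw [RingHom.mem_ker, RingHom.algebraMap_toAlgebra, AlgHom.toRingHom_eq_coe, RingHom.coe_coe,
      hρe, map_eq_zero_iff e e.injective, AdjoinRoot.mk_eq_zero, Ideal.mem_span_singleton]
  have hy : y ∈ nonZeroDivisors (Polynomial P) := by
    rw [mem_nonZeroDivisors_iff_right]
    intro x hx
    refine Polynomial.ext fun k => ?_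
    induction k with
    | zero =>
      have := congrArg (fun r => Polynomial.coeff r 0) hx
      simp [y, mul_sub, Polynomial.mul_coeff_zero] at this
      simp [this]
    | succ k ih =>
      have := congrArg (fun r => Polynomial.coeff r (k + 1)) hx
      simp only [y, mul_sub, mul_one, Polynomial.coeff_sub, Polynomial.coeff_zero] at this
      rw [← mul_assoc, Polynomial.coeff_mul_X, Polynomial.coeff_mul_C, ih] at this
      simpa using this
  -- the presentation of `C`
  let αC : P →+* C := (algebraMap B C).comp α.toRingHom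
  have hT : Submonoid.map α.toRingHom (Submonoid.powers p) = Submonoid.powers (α p) :=
    Submonoid.map_powers _ _
  let ψ : P' →+* C := IsLocalization.map C α.toRingHom (hT ▸ (Submonoid.powers p).le_comap_map)
  have hψker : RingHom.ker ψ = (RingHom.ker α.toRingHom).map (algebraMap P P') :=
    IsLocalization.ker_map (S := P') C α.toRingHom hT
  let w : Option (Fin n) → C := fun o =>
    o.elim (ψ (IsLocalization.Away.invSelf (S := P') p)) (fun i => algebraMap B C (α (X i)))
  let E : MvPolynomial (Option (Fin n)) A ≃ₐ[A] Polynomial P := optionEquivLeft A (Fin n)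
  have hw : ∀ q, MvPolynomial.aeval w q = ψ (ρ (E q)) := by
    intro q
    have : ((MvPolynomial.aeval w : MvPolynomial (Option (Fin n)) A →ₐ[A] C) :
        MvPolynomial (Option (Fin n)) A →+* C) = (ψ.comp ρ.toRingHom).comp E.toRingEquiv.toRingHom := by
      apply MvPolynomial.ringHom_ext
      · intro r
        show MvPolynomial.aeval w (MvPolynomial.C r) = ψ (ρ (E (MvPolynomial.C r)))
        rw [MvPolynomial.aeval_C,
          show E (MvPolynomial.C r) = Polynomial.C (MvPolynomial.C r) from optionEquivLeft_C A (Fin n) r,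
          Polynomial.aeval_C, IsLocalization.map_eq]
        show algebraMap A C r = algebraMap B C (α (algebraMap A P r))
        rw [α.commutes, ← IsScalarTower.algebraMap_apply]
      · rintro (_ | i)
        · show MvPolynomial.aeval w (X none) = ψ (ρ (E (X none)))
          rw [MvPolynomial.aeval_X, show E (X none) = Polynomial.X from optionEquivLeft_X_none A (Fin n),
            Polynomial.aeval_X]
          rfl
        · show MvPolynomial.aeval w (X (some i)) = ψ (ρ (E (X (some i))))
          rw [MvPolynomial.aeval_X,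
            show E (X (some i)) = Polynomial.C (X i) from optionEquivLeft_X_some A (Fin n) i,
            Polynomial.aeval_C, IsLocalization.map_eq]
          rfl
    exact RingHom.congr_fun this q
  have hψs : Function.Surjective ψ := by
    intro z
    obtain ⟨k, b, hb⟩ := IsLocalization.Away.surj (α p) z
    obtain ⟨a, rfl⟩ := hα b
    refine ⟨algebraMap P P' a * IsLocalization.Away.invSelf (S := P') p ^ k, ?_⟩
    have h1 : algebraMap B C (α p) * ψ (IsLocalization.Away.invSelf (S := P') p) = 1 := by
      have := congrArg ψ (IsLocalization.Away.mul_invSelf (S := P') p)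
      rwa [map_mul, map_one, IsLocalization.map_eq] at this
    rw [map_mul, map_pow, IsLocalization.map_eq]
    show algebraMap B C (α a) * _ = z
    rw [← hb, mul_assoc, ← mul_pow, h1, one_pow, mul_one]
  have hws : Function.Surjective (MvPolynomial.aeval w : MvPolynomial (Option (Fin n)) A →ₐ[A] C) := by
    intro z
    obtain ⟨v, rfl⟩ := hψs z
    obtain ⟨q, rfl⟩ := hρs v
    exact ⟨E.symm q, by rw [hw, AlgEquiv.apply_symm_apply]⟩
  obtain ⟨-, m, β, hβ, hk⟩ := hC
  have hk' : KRPres (A := A) w := by
    rw [MvPolynomial.aeval_unique β] at hk hβ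
    exact (kRPres_indep _ w hβ hws).1 hk
  refine isKoszulRegularIdeal_of_comap (Q := Polynomial P) hρs hy hker
    (Polynomial.derivative'.restrictScalars ℤ) ?_ ?_
  · intro q hq
    have hmem : y ∈ q.asIdeal := by
      apply hq
      rw [Ideal.mem_comap]
      have : algebraMap (Polynomial P) P' y = 0 := by
        rw [← RingHom.mem_ker, hker]
        exact Ideal.mem_span_singleton_self y
      simp [this]
    show Polynomial.derivative y ∉ q.asIdeal
    simp only [y, map_sub, Polynomial.derivative_C_mul, Polynomial.derivative_X, mul_one,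
      Polynomial.derivative_one, sub_zero]
    intro h1
    apply q.isPrime.ne_top
    rw [Ideal.eq_top_iff_one]
    have := q.asIdeal.sub_mem (q.asIdeal.mul_mem_right Polynomial.X h1) hmem
    simpa [y] using this
  · rw [← hψker, ← isKoszulRegularIdeal_comap_equiv E.toRingEquiv]
    rw [KRPres] at hk'
    convert hk' using 1
    ext q
    simp only [Ideal.mem_comap, RingHom.mem_ker]
    exact (Eq.congr_left (hw q)).symm

lemma isLCI_of_span {B : Type u} [CommRing B] [Algebra A B] (m : ℕ) (g : Fin m → B)
    (hg : Ideal.span (Set.range g) = ⊤) (h : ∀ j, LCI.IsLCI A (Localization.Away (g j))) :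
    LCI.IsLCI A B := by
  have hft : Algebra.FiniteType A B := by
    classical
    refine Algebra.FiniteType.of_span_eq_top_target (Set.range g).toFinset
      (by rwa [Set.coe_toFinset]) ?_
    intro x hx
    obtain ⟨j, rfl⟩ := Set.mem_range.1 (Set.mem_toFinset.1 hx)
    exact (h j).1
  obtain ⟨n, α, hα⟩ := Algebra.FiniteType.iff_quotient_mvPolynomial''.1 hft
  refine ⟨hft, n, α, hα, (isKoszulRegularIdeal_iff _).2 fun p hp => ?_⟩
  choose gl hgl using fun j => hα (g j)
  have : ∃ j, gl j ∉ p.asIdeal := by
    by_contra hall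
    push Not at hall
    have hprime : (p.asIdeal.map α.toRingHom).IsPrime := Ideal.map_isPrime_of_surjective hα hp
    apply hprime.ne_top
    rw [eq_top_iff, ← hg, Ideal.span_le]
    rintro _ ⟨j, rfl⟩
    exact hgl j ▸ Ideal.mem_map_of_mem _ (hall j)
  obtain ⟨j, hj⟩ := this
  have : IsLocalization.Away (α (gl j)) (Localization.Away (g j)) := by
    rw [hgl]
    infer_instance
  exact krAt_of_away (f := gl j) (B := Localization.Away (gl j))
    (kr_of_target α hα (gl j) (Localization.Away (g j)) (h j) _) p hp hj

end Groth.Agent.LCI19
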