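import Groth.Agent.Koszul19.Reduce
import Groth.Prelude.Def_LCI2
import Mathlib.RingTheory.Flat.Localization
import Mathlib.RingTheory.Localization.Algebra
import Mathlib.RingTheory.Localization.Away.Basic

/-! Koszul-regular ideals: local generators inside the ideal, flat maps. -/

universe u

namespace Groth.Agent.LCI19

open Koszul19

variable {A : Type u} [CommRing A]

lemma map_ofList {B : Type u} [CommRing B] (φ : A →+* B) (l : List A) :
    (Ideal.ofList l).map φ = Ideal.ofList (l.map φ) :=
  Ideal.map_ofList φ l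

/-- `I B` has a regular system of generators coming from `I` -/
def KRGen (B : Type u) [CommRing B] [Algebra A B] (I : Ideal A) : Prop :=
  ∃ l : List A, (∀ x ∈ l, x ∈ I) ∧ KR (l.map (algebraMap A B)) ∧
    I.map (algebraMap A B) = Ideal.ofList (l.map (algebraMap A B))

lemma KRGen.of_flat {B C : Type u} [CommRing B] [CommRing C] [Algebra A B] [Algebra A C]
    [Algebra B C] [IsScalarTower A B C] [Module.Flat B C] {I : Ideal A} (h : KRGen B I) :
    KRGen C I := by
  obtain ⟨l, hl, hkr, hI⟩ := h
  refine ⟨l, hl, ?_, ?_⟩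
  · have := KR.map (B := C) hkr
    rwa [List.map_map, ← RingHom.coe_comp, ← IsScalarTower.algebraMap_eq] at this
  · rw [IsScalarTower.algebraMap_eq A B C, ← Ideal.map_map, hI, map_ofList, List.map_map,
      ← RingHom.coe_comp]

lemma flat_over_localization (M : Submonoid A) (B : Type u) [CommRing B] [Algebra A B]
    [IsLocalization M B] (C : Type u) [CommRing C] [Algebra A C] [Algebra B C]
    [IsScalarTower A B C] [Module.Flat A C] : Module.Flat B C :=
  (Module.flat_iff_of_isLocalization B M C).2 inferInstance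

lemma KRGen.of_isUnit {g : A} {B C : Type u} [CommRing B] [CommRing C] [Algebra A B] [Algebra A C]
    [IsLocalization.Away g B] [Module.Flat A C] (hg : IsUnit (algebraMap A C g)) {I : Ideal A}
    (h : KRGen B I) : KRGen C I := by
  let := (IsLocalization.Away.lift g hg : B →+* C).toAlgebra
  have : IsScalarTower A B C :=
    IsScalarTower.of_algebraMap_eq fun a => (IsLocalization.Away.lift_eq g hg a).symm
  have := flat_over_localization (Submonoid.powers g) B C
  exact h.of_flat

lemma KRGen.of_list {g : A} {B : Type u} [CommRing B] [Algebra A B] [IsLocalization.Away g B]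
    {I : Ideal A} (l : List B) (hl : KR l) (hI : I.map (algebraMap A B) = Ideal.ofList l) :
    KRGen B I := by
  have hmem : ∀ x ∈ l, ∃ a : A, a ∈ I ∧ ∃ u : B, IsUnit u ∧ x * u = algebraMap A B a := by
    intro x hx
    have : x ∈ I.map (algebraMap A B) := hI ▸ Ideal.subset_span hx
    obtain ⟨⟨⟨a, ha⟩, s⟩, e⟩ :=
      (IsLocalization.mem_map_algebraMap_iff (Submonoid.powers g) B).1 this
    exact ⟨a, ha, _, IsLocalization.map_units B s, e⟩
  choose a ha u hu e using hmem
  let l' : List A := l.attach.map fun x => a x.1 x.2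
  have hl' : ∀ y ∈ l', y ∈ I := by
    intro y hy
    obtain ⟨x, -, rfl⟩ := List.mem_map.1 hy
    exact ha _ _
  have heq : Ideal.ofList (l'.map (algebraMap A B)) = Ideal.ofList l := by
    refine le_antisymm (Ideal.span_le.2 fun y hy => ?_) (Ideal.span_le.2 fun y hy => ?_)
    · obtain ⟨z, hz, rfl⟩ := List.mem_map.1 hy
      rw [← hI]
      exact Ideal.mem_map_of_mem _ (hl' z hz)
    · obtain ⟨v, hv⟩ := (hu y hy).exists_right_inv
      have : y = v * algebraMap A B (a y hy) := by
        rw [← e y hy, ← mul_assoc, mul_comm v, mul_assoc, mul_comm v, hv, mul_one]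
      rw [this]
      exact Ideal.mul_mem_left _ _ (Ideal.subset_span
        (List.mem_map.2 ⟨_, List.mem_map.2 ⟨⟨y, hy⟩, List.mem_attach _ _, rfl⟩, rfl⟩))
  exact ⟨l', hl', kR_of_length_le hl heq (by simp [l']), hI.trans heq.symm⟩

/-- regular generation near a prime -/
def KRAt (I p : Ideal A) : Prop :=
  ∃ g : A, g ∉ p ∧ KRGen (Localization.Away g) I

lemma isKoszulRegularIdeal_iff (I : Ideal A) :
    LCI.IsKoszulRegularIdeal I ↔ ∀ p : PrimeSpectrum A, I ≤ p.asIdeal → KRAt I p.asIdeal := by
  constructor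
  · intro h p hp
    obtain ⟨g, hg, l, hl, hI⟩ := h p hp
    exact ⟨g, hg, KRGen.of_list (g := g) l ((kR_iff l).2 hl) hI⟩
  · intro h p hp
    obtain ⟨g, hg, l, -, hl, hI⟩ := h p hp
    exact ⟨g, hg, l.map _, (kR_iff _).1 hl, hI⟩

lemma KRAt.map {B : Type u} [CommRing B] [Algebra A B] [Module.Flat A B] {I : Ideal A} {q : Ideal B}
    (h : KRAt I (q.comap (algebraMap A B))) : KRAt (I.map (algebraMap A B)) q := by
  obtain ⟨g, hg, hgen⟩ := h
  refine ⟨algebraMap A B g, hg, ?_⟩
  let C := Localization.Away (algebraMap A B g)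
  have : Module.Flat A C := Module.Flat.trans A B C
  have hu : IsUnit (algebraMap A C g) := by
    rw [IsScalarTower.algebraMap_apply A B C]
    exact IsLocalization.Away.algebraMap_isUnit _
  obtain ⟨l, hl, hkr, hI⟩ := hgen.of_isUnit (C := C) hu
  refine ⟨l.map (algebraMap A B), ?_, ?_, ?_⟩
  · intro x hx
    obtain ⟨a, ha, rfl⟩ := List.mem_map.1 hx
    exact Ideal.mem_map_of_mem _ (hl a ha)
  · rwa [List.map_map, ← RingHom.coe_comp, ← IsScalarTower.algebraMap_eq]
  · rw [Ideal.map_map, List.map_map, ← RingHom.coe_comp, ← IsScalarTower.algebraMap_eq, hI]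

lemma isKoszulRegularIdeal_map {B : Type u} [CommRing B] [Algebra A B] [Module.Flat A B]
    {I : Ideal A} (h : LCI.IsKoszulRegularIdeal I) :
    LCI.IsKoszulRegularIdeal (I.map (algebraMap A B)) := by
  rw [isKoszulRegularIdeal_iff] at *
  intro q hq
  exact KRAt.map (h (PrimeSpectrum.comap (algebraMap A B) q) (Ideal.map_le_iff_le_comap.1 hq))

lemma isKoszulRegularIdeal_map_equiv {B : Type u} [CommRing B] (e : A ≃+* B) {I : Ideal A}
    (h : LCI.IsKoszulRegularIdeal I) : LCI.IsKoszulRegularIdeal (I.map e.toRingHom) := by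
  let := e.toRingHom.toAlgebra
  have hsmul : ∀ (a x : A), e (a • x) = a • e x := fun a x => map_mul e a x
  have : Module.Flat A B := Module.Flat.of_linearEquiv
    (LinearEquiv.symm (AddEquiv.toLinearEquiv e.toAddEquiv hsmul))
  exact isKoszulRegularIdeal_map h

lemma isKoszulRegularIdeal_comap_equiv {B : Type u} [CommRing B] (e : A ≃+* B) {I : Ideal B} :
    LCI.IsKoszulRegularIdeal (I.comap e.toRingHom) ↔ LCI.IsKoszulRegularIdeal I := by
  constructor
  · intro h
    have := isKoszulRegularIdeal_map_equiv e h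
    rwa [Ideal.map_comap_of_surjective e.toRingHom e.surjective] at this
  · intro h
    have := isKoszulRegularIdeal_map_equiv e.symm h
    rwa [show I.map e.symm.toRingHom = I.comap e.toRingHom from Ideal.map_symm e] at this

end Groth.Agent.LCI19
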