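import Groth.Agent.LCI19.Local
import Groth.Agent.Koszul19.Conormal
import Mathlib.RingTheory.LocalProperties.FinitePresentation
import Mathlib.RingTheory.Flat.Localization
import Mathlib.RingTheory.Flat.EquationalCriterion
import Mathlib.RingTheory.Localization.Finiteness

/-! The conormal module of a Koszul-regular ideal is finite projective. -/

universe u

namespace Groth.Agent.LCI19

open Koszul19

variable {A : Type u} [CommRing A]

lemma isKoszulRegularIdeal_fg {I : Ideal A} (h : LCI.IsKoszulRegularIdeal I) : I.FG := by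
  rw [isKoszulRegularIdeal_iff] at h
  refine Ideal.fg_of_localizationSpan {g | (I.map (algebraMap A (Localization.Away g))).FG} ?_ fun g => g.2
  by_contra hne
  obtain ⟨m, hm, hle⟩ := Ideal.exists_le_maximal _ hne
  by_cases hIm : I ≤ m
  · obtain ⟨g, hg, l, -, -, hI⟩ := h ⟨m, hm.isPrime⟩ hIm
    refine hg (hle (Ideal.subset_span ?_))
    show (I.map (algebraMap A (Localization.Away g))).FG
    rw [hI]
    exact Submodule.fg_span (List.finite_toSet _)
  · obtain ⟨g, hgI, hgm⟩ := SetLike.not_le_iff_exists.1 hIm
    refine hgm (hle (Ideal.subset_span ?_))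
    show (I.map (algebraMap A (Localization.Away g))).FG
    rw [Ideal.eq_top_of_isUnit_mem _ (Ideal.mem_map_of_mem _ hgI) (IsLocalization.Away.algebraMap_isUnit g)]
    exact ⟨{1}, by simp⟩

/-- the conormal module becomes free where the ideal has regular generators -/
lemma free_localizedModule_cotangent {I : Ideal A} {g : A} (h : KRGen (Localization.Away g) I) :
    Module.Free (Localization.Away (Ideal.Quotient.mk I g)) (LocalizedModule.Away (Ideal.Quotient.mk I g) I.Cotangent) ∧
    Module.Finite (Localization.Away (Ideal.Quotient.mk I g)) (LocalizedModule.Away (Ideal.Quotient.mk I g) I.Cotangent) := by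
  classical
  obtain ⟨l, hl, hkr, hI⟩ := h
  let C := Localization.Away g
  let al := algebraMap A C
  let J := I.map al
  let r := l.length
  let f : Fin r → I := fun i => ⟨l[i], hl _ (List.getElem_mem _)⟩
  have hfC : List.ofFn (fun i => al (f i)) = l.map al :=
    List.ext_getElem (by simp [r]) (fun n h₁ h₂ => by simp [f])
  have hJ : Ideal.span (Set.range fun i => al (f i)) = J := by
    rw [← ofList_ofFn, hfC]
    exact hI.symm
  let F : Fin r → J := fun i => ⟨al (f i), Ideal.mem_map_of_mem _ (f i).2⟩
  obtain ⟨bC, hbC⟩ := exists_basis F (show KR (List.ofFn fun i => al (f i)) from hfC.symm ▸ hkr) hJ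
  -- relations vanish up to powers of `g`
  have hind : ∀ c : Fin r → A, ∑ i, c i * (f i : A) ∈ I * I → ∀ i, ∃ k : ℕ, g ^ k * c i ∈ I := by
    intro c hc i
    have h0 : ∑ j, Ideal.Quotient.mk J (al (c j)) • J.toCotangent (F j) = 0 := by
      have : J.toCotangent (∑ j, al (c j) • F j) = 0 := by
        rw [Ideal.toCotangent_eq_zero, pow_two, ← Ideal.map_mul]
        have := Ideal.mem_map_of_mem al hc
        simpa [F, map_sum] using this
      rw [map_sum] at this
      rw [← this]
      refine Finset.sum_congr rfl fun j _ => ?_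
      rw [map_smul, ← Ideal.Quotient.algebraMap_eq, algebraMap_smul]
    have := Fintype.linearIndependent_iff.1 bC.linearIndependent _ (by simpa only [hbC] using h0) i
    obtain ⟨m, ⟨k, rfl⟩, hk⟩ := (IsLocalization.algebraMap_mem_map_algebraMap_iff (Submonoid.powers g) C I (c i)).1
      (Ideal.Quotient.eq_zero_iff_mem.1 this)
    exact ⟨k, hk⟩
  have hgen : ∀ y ∈ I, ∃ k : ℕ, g ^ k * y ∈ Ideal.span (Set.range fun i => (f i : A)) := by
    intro y hy
    have : al y ∈ (Ideal.span (Set.range fun i => (f i : A))).map al := by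
      rw [Ideal.map_span, ← Set.range_comp]
      exact hJ.symm ▸ Ideal.mem_map_of_mem al hy
    obtain ⟨m, ⟨k, rfl⟩, hk⟩ := (IsLocalization.algebraMap_mem_map_algebraMap_iff (Submonoid.powers g) C _ y).1 this
    exact ⟨k, hk⟩
  let B := A ⧸ I
  let gb : B := Ideal.Quotient.mk I g
  let Bg := Localization.Away gb
  let L := LocalizedModule.Away gb I.Cotangent
  let μ : I.Cotangent →ₗ[B] L := LocalizedModule.mkLinearMap _ _
  let v : Fin r → L := fun i => μ (I.toCotangent (f i))
  have hsmul : ∀ (a : A) (z : I.Cotangent), Ideal.Quotient.mk I a • z = a • z := fun a z => algebraMap_smul B a z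
  have hspan : ⊤ ≤ Submodule.span Bg (Set.range v) := by
    intro z _
    obtain ⟨⟨m, s⟩, hms⟩ := IsLocalizedModule.surj (Submonoid.powers gb) μ z
    obtain ⟨⟨y, hy⟩, rfl⟩ := I.toCotangent_surjective m
    obtain ⟨k, hk⟩ := hgen y hy
    obtain ⟨c, hc⟩ := Ideal.mem_span_range_iff_exists_fun.1 hk
    have hy' : g ^ k • (⟨y, hy⟩ : I) = ∑ i, c i • f i := Subtype.ext (by simp [hc])
    have h1 : (gb ^ k * (s : B)) • z = ∑ i, algebraMap B Bg (Ideal.Quotient.mk I (c i)) • v i := by
      rw [mul_smul, ← Submonoid.smul_def, hms, ← map_smul, ← map_pow, hsmul, ← map_smul, hy', map_sum, map_sum]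
      refine Finset.sum_congr rfl fun i _ => ?_
      rw [map_smul, ← hsmul, map_smul, algebraMap_smul]
    have hu : IsUnit (algebraMap B Bg (gb ^ k * (s : B))) := by
      rw [map_mul, map_pow]
      exact ((IsLocalization.Away.algebraMap_isUnit gb).pow k).mul (IsLocalization.map_units Bg s)
    obtain ⟨u, hu⟩ := hu
    have h2 : z = (↑u⁻¹ : Bg) • ∑ i, algebraMap B Bg (Ideal.Quotient.mk I (c i)) • v i := by
      rw [← h1, ← algebraMap_smul Bg (gb ^ k * (s : B)) z, ← hu, smul_smul, Units.inv_mul, one_smul]
    rw [h2]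
    exact Submodule.smul_mem _ _ (Submodule.sum_mem _ fun i _ =>
      Submodule.smul_mem _ _ (Submodule.subset_span ⟨i, rfl⟩))
  have hli : LinearIndependent Bg v := by
    rw [Fintype.linearIndependent_iff]
    intro d hd i
    obtain ⟨s, hs⟩ := IsLocalization.exist_integer_multiples (Submonoid.powers gb) Finset.univ d
    choose b hb using fun j => hs j (Finset.mem_univ j)
    choose c hc using fun j => Ideal.Quotient.mk_surjective (b j)
    have h1 : μ (I.toCotangent (∑ j, c j • f j)) = 0 := by
      rw [map_sum, map_sum, ← smul_zero (s : B), ← hd, Finset.smul_sum]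
      refine Finset.sum_congr rfl fun j _ => ?_
      rw [map_smul, ← hsmul, map_smul, hc, ← algebraMap_smul Bg (b j), hb, smul_assoc]
    obtain ⟨⟨_, k, rfl⟩, hk⟩ := (IsLocalizedModule.eq_zero_iff (Submonoid.powers gb) μ).1 h1
    rw [Submonoid.smul_def] at hk
    have h2 : ∑ j, (g ^ k * c j) * (f j : A) ∈ I * I := by
      rw [← pow_two, ← show (((g ^ k) • ∑ j, c j • f j : I) : A) = ∑ j, (g ^ k * c j) * (f j : A) by
        simp [Finset.mul_sum, mul_assoc], ← Ideal.toCotangent_eq_zero, map_smul, ← hsmul, map_pow]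
      exact hk
    obtain ⟨k', hk'⟩ := hind _ h2 i
    have hb0 : algebraMap B Bg (b i) = 0 := by
      rw [IsLocalization.map_eq_zero_iff (Submonoid.powers gb)]
      refine ⟨⟨gb ^ (k' + k), k' + k, rfl⟩, ?_⟩
      show gb ^ (k' + k) * b i = 0
      rw [← hc, ← map_pow, ← map_mul, Ideal.Quotient.eq_zero_iff_mem, pow_add, mul_assoc]
      exact hk'
    rw [hb, Algebra.smul_def] at hb0
    exact (IsLocalization.map_units Bg s).mul_right_eq_zero.1 hb0
  exact ⟨Module.Free.of_basis (Module.Basis.mk hli hspan), Module.Finite.of_basis (Module.Basis.mk hli hspan)⟩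

/-- the conormal module of a Koszul-regular ideal is finitely presented projective -/
lemma projective_cotangent {I : Ideal A} (h : LCI.IsKoszulRegularIdeal I) :
    Module.Finite (A ⧸ I) I.Cotangent ∧ Module.Projective (A ⧸ I) I.Cotangent := by
  rw [isKoszulRegularIdeal_iff] at h
  let s : Set (A ⧸ I) := {x | ∃ g, Ideal.Quotient.mk I g = x ∧ KRGen (Localization.Away g) I}
  have hs : Ideal.span s = ⊤ := by
    by_contra hne
    obtain ⟨m, hm, hle⟩ := Ideal.exists_le_maximal _ hne
    obtain ⟨g, hg, hgen⟩ := h ⟨m.comap (Ideal.Quotient.mk I), inferInstance⟩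
      (fun x hx => by simp [Ideal.Quotient.eq_zero_iff_mem.2 hx])
    exact hg (hle (Ideal.subset_span ⟨g, rfl, hgen⟩))
  have hloc : ∀ x : s, Module.Free (Localization.Away x.1) (LocalizedModule.Away x.1 I.Cotangent) ∧
      Module.Finite (Localization.Away x.1) (LocalizedModule.Away x.1 I.Cotangent) := by
    rintro ⟨_, g, rfl, hgen⟩
    exact free_localizedModule_cotangent hgen
  have hfp : Module.FinitePresentation (A ⧸ I) I.Cotangent :=
    Module.FinitePresentation.of_localizationSpan s hs fun x => by
      have := (hloc x).1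
      have := (hloc x).2
      exact Module.finitePresentation_of_projective _ _
  have : Module.Flat (A ⧸ I) I.Cotangent := Module.flat_of_localized_span (A ⧸ I) I.Cotangent s hs fun x => by
    have := (hloc x).1
    exact Module.Flat.trans (A ⧸ I) (Localization.Away x.1) _
  exact ⟨inferInstance, Module.Flat.projective_of_finitePresentation⟩

end Groth.Agent.LCI19
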