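import Groth.Agent.LCI19.Step
import Mathlib.Algebra.MvPolynomial.PDeriv
import Mathlib.Algebra.MvPolynomial.Equiv
import Mathlib.RingTheory.MvPolynomial.Basic
import Mathlib.RingTheory.Polynomial.Basic

/-! Regularity of the kernel does not depend on the presentation. -/

universe u

open MvPolynomial

namespace Groth.Agent.LCI19

variable {A : Type u} [CommRing A] {B : Type u} [CommRing B] [Algebra A B]

/-- the kernel of the presentation given by `v` is regular -/
def KRPres {σ : Type*} (v : σ → B) : Prop :=
  LCI.IsKoszulRegularIdeal (RingHom.ker (MvPolynomial.aeval v : MvPolynomial σ A →ₐ[A] B).toRingHom)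

lemma kRPres_comp_equiv {σ τ : Type} (e : σ ≃ τ) (v : τ → B) :
    KRPres (A := A) (v ∘ e) ↔ KRPres (A := A) v := by
  have : RingHom.ker (MvPolynomial.aeval (v ∘ e) : MvPolynomial σ A →ₐ[A] B).toRingHom =
      (RingHom.ker (MvPolynomial.aeval v : MvPolynomial τ A →ₐ[A] B).toRingHom).comap
        (renameEquiv A e).toRingEquiv.toRingHom := by
    ext x
    simp [RingHom.mem_ker, aeval_rename]
  rw [KRPres, this, isKoszulRegularIdeal_comap_equiv]
  rfl

lemma surjective_elim {σ τ : Type} (v : σ → B)
    (hv : Function.Surjective (MvPolynomial.aeval v : MvPolynomial σ A →ₐ[A] B))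
    (w : τ → B) (i : σ → τ) (hw : ∀ s, w (i s) = v s) :
    Function.Surjective (MvPolynomial.aeval w : MvPolynomial τ A →ₐ[A] B) := by
  intro b
  obtain ⟨p, rfl⟩ := hv b
  exact ⟨rename i p, by simp [aeval_rename, show w ∘ i = v from funext hw]⟩

lemma kRPres_option {σ : Type} (v : σ → B)
    (hv : Function.Surjective (MvPolynomial.aeval v : MvPolynomial σ A →ₐ[A] B))
    (w : Option σ → B) (hw : ∀ s, w (some s) = v s) :
    KRPres (A := A) w ↔ KRPres (A := A) v := by
  classical
  obtain ⟨g, hg⟩ := hv (w none)
  let φ : MvPolynomial (Option σ) A →ₐ[A] MvPolynomial σ A :=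
    MvPolynomial.aeval fun o => o.elim g X
  let : Algebra (MvPolynomial (Option σ) A) (MvPolynomial σ A) := φ.toRingHom.toAlgebra
  let y : MvPolynomial (Option σ) A := X none - rename some g
  have hφr : ∀ p : MvPolynomial σ A, φ (rename some p) = p := by
    intro p
    simp [φ, aeval_rename, Function.comp_def, MvPolynomial.aeval_X_left_apply]
  have hs : Function.Surjective φ := fun p => ⟨_, hφr p⟩
  have hker : RingHom.ker φ.toRingHom = Ideal.span {y} := by
    refine le_antisymm (fun x hx => ?_) ?_
    · have key : (Ideal.Quotient.mkₐ A (Ideal.span {y})).comp ((rename some).comp φ) =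
          Ideal.Quotient.mkₐ A (Ideal.span {y}) := by
        apply MvPolynomial.algHom_ext
        rintro (_ | s)
        · simp only [AlgHom.comp_apply, φ, aeval_X, Option.elim, Ideal.Quotient.mkₐ_eq_mk]
          rw [Ideal.Quotient.eq, ← neg_mem_iff, neg_sub]
          exact Ideal.mem_span_singleton_self _
        · simp [φ]
      have := AlgHom.congr_fun key x
      rw [AlgHom.comp_apply, AlgHom.comp_apply, show φ x = 0 from hx, map_zero, map_zero] at this
      exact Ideal.Quotient.eq_zero_iff_mem.1 this.symm
    · rw [Ideal.span_singleton_le_iff_mem, RingHom.mem_ker]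
      show φ y = 0
      simp only [y, map_sub, hφr]
      simp [φ]
  have hcomp : (RingHom.ker (MvPolynomial.aeval v : MvPolynomial σ A →ₐ[A] B).toRingHom).comap
      (algebraMap (MvPolynomial (Option σ) A) (MvPolynomial σ A)) =
      RingHom.ker (MvPolynomial.aeval w : MvPolynomial (Option σ) A →ₐ[A] B).toRingHom := by
    rw [RingHom.algebraMap_toAlgebra, RingHom.comap_ker]
    congr 1
    have : (MvPolynomial.aeval v).comp φ = MvPolynomial.aeval w := by
      apply MvPolynomial.algHom_ext
      rintro (_ | s)
      · simp [φ, hg]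
      · simp [φ, hw]
    exact congrArg AlgHom.toRingHom this
  have hyreg : y ∈ nonZeroDivisors (MvPolynomial (Option σ) A) := by
    have hey : optionEquivLeft A σ y = Polynomial.X - Polynomial.C g := by
      simp only [y, map_sub, optionEquivLeft_X_none]
      congr 1
      have : (optionEquivLeft A σ).toAlgHom.comp (rename some) = Polynomial.CAlgHom := by
        apply MvPolynomial.algHom_ext
        intro s
        simp
      exact AlgHom.congr_fun this g
    rw [mem_nonZeroDivisors_iff_right]
    intro x hx
    apply (optionEquivLeft A σ).injective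
    rw [map_zero]
    have := congrArg (optionEquivLeft A σ) hx
    rw [map_mul, map_zero, hey] at this
    exact ((Polynomial.monic_X_sub_C g).mul_left_eq_zero_iff).1 this
  have hD : (MvPolynomial.pderiv (R := A) (none : Option σ)) y = 1 := by
    simp only [y, map_sub, pderiv_X_self]
    rw [pderiv_eq_zero_of_notMem_vars (fun h => ?_), sub_zero]
    obtain ⟨s, -, hs'⟩ := Finset.mem_image.1 (vars_rename some g h)
    exact Option.some_ne_none s hs'
  constructor
  · intro h
    refine isKoszulRegularIdeal_of_comap hs hyreg hker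
      ((MvPolynomial.pderiv (R := A) (none : Option σ)).restrictScalars ℤ) ?_ (hcomp ▸ h)
    intro p _
    change pderiv none y ∉ p.asIdeal
    rw [hD]
    exact fun h1 => p.isPrime.ne_top ((Ideal.eq_top_iff_one _).2 h1)
  · intro h
    rw [KRPres, ← hcomp]
    exact isKoszulRegularIdeal_comap hs hyreg hker h

lemma kRPres_sum {σ : Type} (v : σ → B)
    (hv : Function.Surjective (MvPolynomial.aeval v : MvPolynomial σ A →ₐ[A] B))
    (τ : Type) [Fintype τ] (u : τ → B) :
    KRPres (A := A) (Sum.elim v u) ↔ KRPres (A := A) v := by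
  revert u
  refine Fintype.induction_empty_option
    (P := fun (τ : Type) _ => ∀ u : τ → B, KRPres (A := A) (Sum.elim v u) ↔ KRPres (A := A) v)
    ?_ ?_ ?_ τ
  · intro α β _ e ih
    intro u
    rw [← ih (u ∘ e), ← kRPres_comp_equiv (Equiv.sumCongr (Equiv.refl σ) e) (Sum.elim v u)]
    congr! 1
    funext x
    cases x <;> rfl
  · intro u
    rw [← kRPres_comp_equiv (Equiv.sumEmpty σ PEmpty).symm]
    congr! 1
  · intro α _ ih u
    rw [← ih (u ∘ some)]
    let e : Option (σ ⊕ α) ≃ σ ⊕ Option α :=
      { toFun := fun o => o.elim (Sum.inr none) (Sum.map id some)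
        invFun := fun s => s.elim (fun a => some (Sum.inl a)) (fun o => o.map Sum.inr)
        left_inv := fun o => by rcases o with _ | (a | a) <;> rfl
        right_inv := fun s => by rcases s with a | (_ | a) <;> rfl }
    rw [← kRPres_comp_equiv e]
    refine kRPres_option _ (surjective_elim v hv _ Sum.inl fun _ => rfl) _ ?_
    rintro (a | a) <;> rfl

lemma kRPres_indep {σ τ : Type} [Fintype σ] [Fintype τ] (v : σ → B) (u : τ → B)
    (hv : Function.Surjective (MvPolynomial.aeval v : MvPolynomial σ A →ₐ[A] B))
    (hu : Function.Surjective (MvPolynomial.aeval u : MvPolynomial τ A →ₐ[A] B)) :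
    KRPres (A := A) v ↔ KRPres (A := A) u := by
  rw [← kRPres_sum v hv τ u, ← kRPres_sum u hu σ v, ← kRPres_comp_equiv (Equiv.sumComm τ σ)]
  congr! 1
  funext x
  cases x <;> rfl

lemma isKoszulRegularIdeal_ker_indep {n m : ℕ} (α : MvPolynomial (Fin n) A →ₐ[A] B)
    (hα : Function.Surjective α) (β : MvPolynomial (Fin m) A →ₐ[A] B) (hβ : Function.Surjective β) :
    LCI.IsKoszulRegularIdeal (RingHom.ker α.toRingHom) ↔
      LCI.IsKoszulRegularIdeal (RingHom.ker β.toRingHom) := by
  rw [MvPolynomial.aeval_unique α] at hα ⊢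
  rw [MvPolynomial.aeval_unique β] at hβ ⊢
  exact kRPres_indep _ _ hα hβ

/-- every presentation of a complete intersection map has regular kernel -/
lemma isKoszulRegularIdeal_ker_of_isLCI {n : ℕ} (h : LCI.IsLCI A B)
    (α : MvPolynomial (Fin n) A →ₐ[A] B) (hα : Function.Surjective α) :
    LCI.IsKoszulRegularIdeal (RingHom.ker α.toRingHom) := by
  obtain ⟨-, m, β, hβ, hk⟩ := h
  exact (isKoszulRegularIdeal_ker_indep α hα β hβ).2 hk

end Groth.Agent.LCI19
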