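import Groth.Agent.LCI19.Local
import Groth.Agent.Koszul19.Conormal
import Mathlib.Algebra.Module.LocalizedModule.Basic
import Mathlib.RingTheory.TensorProduct.IsBaseChangePi

/-! Exactness of Koszul complexes after inverting an element; relations and flat maps. -/

universe u

open TensorProduct

namespace Groth.Agent.LCI19

open Koszul19

variable {A : Type u} [CommRing A]

/-- multipliers making a chain a boundary -/
noncomputable def bdyColon (K : CochainComplex (ModuleCat.{u} A) ℤ) (p q : ℤ) (z : K.X q) : Ideal A :=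
  (LinearMap.range (dd K p q)).comap (LinearMap.toSpanSingleton A _ z)

lemma mem_bdyColon {K : CochainComplex (ModuleCat.{u} A) ℤ} {p q : ℤ} {z : K.X q} {a : A} :
    a ∈ bdyColon K p q z ↔ ∃ w, dd K p q w = a • z := Iff.rfl

lemma ex_away (g : A) (C : Type u) [CommRing C] [Algebra A C] [IsLocalization.Away g C]
    {K : CochainComplex (ModuleCat.{u} A) ℤ} {L : CochainComplex (ModuleCat.{u} C) ℤ}
    (d : BCData C K L) (p q j : ℤ) (hp : p + 1 = q) (hj : q + 1 = j)
    (h : ∀ z, dd K q j z = 0 → ∃ n : ℕ, g ^ n ∈ bdyColon K p q z) : Ex L q := by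
  rw [d.exact_iff p q j hp hj]
  intro t
  refine ⟨fun ht => ?_, ?_⟩
  · have hbc : ∀ (r : ℤ), IsLocalizedModule (Submonoid.powers g)
        (TensorProduct.mk A C (K.X r : Type u) 1) := fun r =>
      (isLocalizedModule_iff_isBaseChange (Submonoid.powers g) C _).2
        (TensorProduct.isBaseChange A (K.X r : Type u) C)
    obtain ⟨⟨z, ⟨s, n, rfl⟩⟩, hs⟩ := (hbc q).surj t
    rw [TensorProduct.mk_apply] at hs
    have h1 : (TensorProduct.mk A C (K.X j : Type u) 1) (dd K q j z) = 0 := by
      rw [TensorProduct.mk_apply, ← LinearMap.lTensor_tmul, ← hs,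
        Submonoid.smul_def, map_smul, ht, smul_zero]
    obtain ⟨⟨s', m, rfl⟩, hm⟩ := (IsLocalizedModule.eq_zero_iff (Submonoid.powers g) _).1 h1
    rw [Submonoid.smul_def] at hm
    obtain ⟨k, hk⟩ := h (g ^ m • z) (by rw [map_smul]; exact hm)
    obtain ⟨w, hw⟩ := mem_bdyColon.1 hk
    obtain ⟨u, hu⟩ := (IsLocalization.Away.algebraMap_isUnit (S := C) g).pow (k + m + n)
    refine ⟨(↑u⁻¹ : C) ⊗ₜ[A] w, ?_⟩
    rw [LinearMap.lTensor_tmul, hw, ← mul_one (↑u⁻¹ : C), ← smul_eq_mul, ← TensorProduct.smul_tmul']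
    have h2 : (1 : C) ⊗ₜ[A] (g ^ k • g ^ m • z) = (↑u : C) • t := by
      rw [TensorProduct.tmul_smul, TensorProduct.tmul_smul, ← hs, Submonoid.smul_def, hu,
        ← map_pow, algebraMap_smul, ← mul_smul, ← mul_smul]
      congr 1
      show g ^ k * g ^ m * g ^ n = _
      rw [← pow_add, ← pow_add]
    rw [h2, ← mul_smul, Units.inv_mul, one_smul]
  · rintro ⟨w, rfl⟩
    rw [← LinearMap.comp_apply, ← LinearMap.lTensor_comp,
      show (dd K q j).comp (dd K p q) = 0 from LinearMap.ext (dd_dd K p q j), LinearMap.lTensor_zero]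
    rfl

section Flat

variable (B : Type u) [CommRing B] [Algebra A B]

lemma bdyColon_map [Module.Flat A B] {K : CochainComplex (ModuleCat.{u} A) ℤ}
    {L : CochainComplex (ModuleCat.{u} B) ℤ} (d : BCData B K L) (p q : ℤ) (hp : p + 1 = q)
    (z : K.X q) :
    bdyColon L p q (d.e q ((1 : B) ⊗ₜ[A] z)) = (bdyColon K p q z).map (algebraMap A B) := by
  refine le_antisymm (fun b hb => ?_) (Ideal.map_le_iff_le_comap.2 fun a ha => ?_)
  · obtain ⟨W, hW⟩ := mem_bdyColon.1 hb
    obtain ⟨W, rfl⟩ := (d.e p).surjective W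
    rw [← map_smul, ← d.comm p q hp, EmbeddingLike.apply_eq_iff_eq] at hW
    rw [TensorProduct.smul_tmul', smul_eq_mul, mul_one] at hW
    let N := LinearMap.range (dd K p q)
    let s : A →ₗ[A] (K.X q : Type u) ⧸ N := LinearMap.toSpanSingleton A _ (N.mkQ z)
    have hs : Function.Exact (bdyColon K p q z).subtype s := by
      intro a
      simp only [s, LinearMap.toSpanSingleton_apply, ← map_smul]
      rw [Submodule.mkQ_apply, Submodule.Quotient.mk_eq_zero]
      exact ⟨fun hh => ⟨⟨a, hh⟩, rfl⟩, fun ⟨x, hx⟩ => hx ▸ x.2⟩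
    have hb0 : s.lTensor B (b ⊗ₜ[A] (1 : A)) = 0 := by
      rw [LinearMap.lTensor_tmul, LinearMap.toSpanSingleton_apply, one_smul,
        ← LinearMap.lTensor_tmul B N.mkQ b z, ← hW]
      have : N.mkQ.comp (dd K p q) = 0 :=
        LinearMap.ext fun w => (Submodule.Quotient.mk_eq_zero _).2 ⟨w, rfl⟩
      show (N.mkQ.lTensor B) ((dd K p q).lTensor B W) = 0
      rw [← LinearMap.comp_apply, ← LinearMap.lTensor_comp, this, LinearMap.lTensor_zero]
      rfl
    obtain ⟨t, ht⟩ := (Module.Flat.lTensor_exact B hs _).1 hb0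
    have key : ∀ t, TensorProduct.rid A B ((bdyColon K p q z).subtype.lTensor B t) ∈
        (bdyColon K p q z).map (algebraMap A B) := by
      intro t
      induction t with
      | zero => simp
      | add x y hx hy => simpa using add_mem hx hy
      | tmul c x =>
        rw [LinearMap.lTensor_tmul, TensorProduct.rid_tmul, Algebra.smul_def]
        exact Ideal.mul_mem_right _ _ (Ideal.mem_map_of_mem _ x.2)
    have := key t
    rwa [ht, TensorProduct.rid_tmul, one_smul] at this
  · obtain ⟨w, hw⟩ := mem_bdyColon.1 ha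
    refine mem_bdyColon.2 ⟨d.e p ((1 : B) ⊗ₜ[A] w), ?_⟩
    rw [← d.comm p q hp, LinearMap.baseChange_tmul, hw, ← map_smul, algebraMap_smul,
      TensorProduct.tmul_smul]

lemma exists_pow_mem_bdyColon {K : CochainComplex (ModuleCat.{u} B) ℤ} (h : B) (C : Type u)
    [CommRing C] [Algebra B C] [IsLocalization.Away h C] {L : CochainComplex (ModuleCat.{u} C) ℤ}
    (d : BCData C K L) (p q j : ℤ) (hp : p + 1 = q) (hj : q + 1 = j) (hL : Ex L q) (z : K.X q)
    (hz : dd K q j z = 0) : ∃ n : ℕ, h ^ n ∈ bdyColon K p q z := by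
  obtain ⟨W, hW⟩ := hL p j hp hj (d.e q ((1 : C) ⊗ₜ[B] z)) (by
    rw [← d.comm q j hj, LinearMap.baseChange_tmul, hz, TensorProduct.tmul_zero, map_zero])
  have : IsLocalizedModule (Submonoid.powers h) (TensorProduct.mk B C (K.X q : Type u) 1) :=
    (isLocalizedModule_iff_isBaseChange (Submonoid.powers h) C _).2
      (TensorProduct.isBaseChange B (K.X q : Type u) C)
  have h1 : (1 : C) ∈ bdyColon L p q (d.e q ((1 : C) ⊗ₜ[B] z)) :=
    mem_bdyColon.2 ⟨W, by rw [one_smul, hW]⟩
  have := IsLocalization.flat C (Submonoid.powers h)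
  rw [bdyColon_map C d p q hp] at h1
  obtain ⟨⟨⟨a, ha⟩, ⟨s, n, rfl⟩⟩, e⟩ :=
    (IsLocalization.mem_map_algebraMap_iff (Submonoid.powers h) C).1 h1
  rw [one_mul] at e
  obtain ⟨⟨t, m, rfl⟩, ht⟩ := IsLocalization.exists_of_eq (M := Submonoid.powers h) e
  refine ⟨m + n, ?_⟩
  rw [pow_add]
  simp only at ht
  rw [ht]
  exact Ideal.mul_mem_left _ _ ha

variable {r : ℕ}

/-- coefficients of relations among `f` -/
def coeffIdeal (f : Fin r → A) : Ideal A :=
  Ideal.span {a | ∃ c : Fin r → A, ∑ i, c i * f i = 0 ∧ ∃ i, c i = a}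

lemma coeff_mem_of_flat [Module.Flat A B] (f : Fin r → A) (b : Fin r → B)
    (hb : ∑ i, b i * algebraMap A B (f i) = 0) (k : Fin r) :
    b k ∈ (coeffIdeal f).map (algebraMap A B) := by
  classical
  let φ : (Fin r → A) →ₗ[A] A := Fintype.linearCombination A f
  have hex : Function.Exact (LinearMap.ker φ).subtype φ := LinearMap.exact_subtype_ker_map φ
  let t : B ⊗[A] (Fin r → A) := ∑ i, b i ⊗ₜ[A] Pi.single i 1
  have ht : φ.lTensor B t = 0 := by
    apply (TensorProduct.rid A B).injective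
    simp only [t, map_sum, LinearMap.lTensor_tmul, TensorProduct.rid_tmul, map_zero, φ,
      Fintype.linearCombination_apply_single, one_smul]
    rw [← hb]
    exact Finset.sum_congr rfl fun i _ => by rw [Algebra.smul_def, mul_comm]
  obtain ⟨v, hv⟩ := (Module.Flat.lTensor_exact B hex _).1 ht
  have key : ∀ v, TensorProduct.rid A B ((LinearMap.proj k).lTensor B
      ((LinearMap.ker φ).subtype.lTensor B v)) ∈ (coeffIdeal f).map (algebraMap A B) := by
    intro v
    induction v with
    | zero => simp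
    | add x y hx hy => simpa using add_mem hx hy
    | tmul c x =>
      rw [LinearMap.lTensor_tmul, LinearMap.lTensor_tmul, TensorProduct.rid_tmul, Algebra.smul_def]
      refine Ideal.mul_mem_right _ _ (Ideal.mem_map_of_mem _ (Ideal.subset_span ?_))
      refine ⟨x.1, ?_, k, rfl⟩
      have hx : φ x.1 = 0 := LinearMap.mem_ker.1 x.2
      simpa only [φ, Fintype.linearCombination_apply, smul_eq_mul] using hx
  have := key v
  rw [hv] at this
  simpa [t, map_sum, Pi.single_apply, TensorProduct.tmul_ite, TensorProduct.ite_tmul] using this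

end Flat

lemma ex_of_mem_unit {l : List A} (h : Ideal.ofList l = ⊤) (q : ℤ) : Ex (Koszul.koszul A l) q := by
  obtain ⟨k, hk⟩ := nullHtp_koszul l (h ▸ Submodule.mem_top : (1 : A) ∈ Ideal.ofList l)
  intro p j hp hj z hz
  exact ⟨k p q hp z, by simpa [hz] using hk p q j hp hj z⟩

end Groth.Agent.LCI19
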