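import Groth.Agent.LCI19.Descent
import Mathlib.RingTheory.Localization.Integer
import Mathlib.RingTheory.TensorProduct.Maps

/-! A Koszul-regular ideal descends along faithfully flat maps. -/

universe u

open TensorProduct

namespace Groth.Agent.LCI19

open Koszul19

attribute [local instance] Algebra.TensorProduct.rightAlgebra

lemma isKoszulRegularIdeal_descend {A : Type u} [CommRing A] (B : Type u) [CommRing B] [Algebra A B]
    [Module.FaithfullyFlat A B] (I : Ideal A)
    (hB : LCI.IsKoszulRegularIdeal (I.map (algebraMap A B))) : LCI.IsKoszulRegularIdeal I := by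
  classical
  rw [isKoszulRegularIdeal_iff]
  intro p hp
  let P : ℕ → Prop := fun k => ∃ g : A, g ∉ p.asIdeal ∧ ∃ l : List A, l.length = k ∧ (∀ x ∈ l, x ∈ I) ∧
    I.map (algebraMap A (Localization.Away g)) =
      Ideal.ofList (l.map (algebraMap A (Localization.Away g)))
  have hP : ∃ k, P k := by
    obtain ⟨s, hs⟩ := Ideal.FG.of_FG_map_of_faithfullyFlat (fg_of_isKoszulRegularIdeal hB)
    refine ⟨_, 1, fun h => p.isPrime.ne_top ((Ideal.eq_top_iff_one _).2 h), s.toList, rfl,
      fun x hx => hs ▸ Ideal.subset_span (Finset.mem_toList.1 hx), ?_⟩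
    rw [← map_ofList, ← hs]
    simp [Ideal.ofList]
  obtain ⟨g0, hg0, l, hlen, hlI, hI⟩ := Nat.find_spec hP
  let A' := Localization.Away g0
  let f : Fin l.length → A' := fun i => algebraMap A A' l[i]
  have hlist : l.map (algebraMap A A') = List.ofFn f := by
    conv_lhs => rw [← List.ofFn_get l, List.map_ofFn]
    rfl
  have hIf : I.map (algebraMap A A') = Ideal.span (Set.range f) := by
    rw [hI, hlist, ofList_ofFn]
  have hdisj : Disjoint (Submonoid.powers g0 : Set A) (p.asIdeal : Set A) := by
    rw [Set.disjoint_left]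
    rintro _ ⟨n, rfl⟩ hn
    exact hg0 (p.isPrime.mem_of_pow_mem _ hn)
  let p' : PrimeSpectrum A' := ⟨p.asIdeal.map (algebraMap A A'),
    IsLocalization.isPrime_of_isPrime_disjoint (Submonoid.powers g0) A' _ p.isPrime hdisj⟩
  have hmin : coeffIdeal f ≤ p'.asIdeal := by
    refine Ideal.span_le.2 ?_
    rintro _ ⟨c, hc, k, rfl⟩
    by_contra hk
    obtain ⟨⟨s, m, rfl⟩, hs⟩ := IsLocalization.exist_integer_multiples_of_finite (Submonoid.powers g0) c
    choose a ha using hs
    have hak : a k ∉ p.asIdeal := by
      intro hak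
      apply hk
      obtain ⟨u, hu⟩ := (IsLocalization.Away.algebraMap_isUnit (S := A') g0).pow m
      have h1 : algebraMap A A' (a k) ∈ p'.asIdeal := Ideal.mem_map_of_mem _ hak
      rw [ha k, Algebra.smul_def] at h1
      simp only [map_pow, ← hu] at h1
      have := Ideal.mul_mem_left p'.asIdeal (↑u⁻¹ : A') h1
      rwa [← mul_assoc, Units.inv_mul, one_mul] at this
    have hrel : algebraMap A A' (∑ i, a i * l[i]) = algebraMap A A' 0 := by
      rw [map_sum, map_zero]
      have : ∀ i, algebraMap A A' (a i * l[i]) = algebraMap A A' (g0 ^ m) * (c i * f i) := fun i => by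
        rw [map_mul, ha i, Algebra.smul_def, mul_assoc]
      rw [Finset.sum_congr rfl fun i _ => this i, ← Finset.mul_sum, hc, mul_zero]
    obtain ⟨⟨t, n, rfl⟩, ht⟩ := IsLocalization.exists_of_eq (M := Submonoid.powers g0) hrel
    simp only [mul_zero] at ht
    refine Nat.find_min hP (m := (l.eraseIdx k).length) ?_ ⟨g0 * a k,
      fun h => (p.isPrime.mem_or_mem h).elim hg0 hak, l.eraseIdx k, rfl,
      fun x hx => hlI x (List.eraseIdx_subset hx), ?_⟩
    · have := k.2
      rw [← hlen, List.length_eraseIdx, if_pos k.2]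
      omega
    · let A'' := Localization.Away (g0 * a k)
      have hgu : IsUnit (algebraMap A A'' g0) := isUnit_of_dvd_unit (map_dvd _ (dvd_mul_right g0 (a k)))
        (IsLocalization.Away.algebraMap_isUnit (g0 * a k))
      have hau : IsUnit (algebraMap A A'' (a k)) := isUnit_of_dvd_unit (map_dvd _ (dvd_mul_left (a k) g0))
        (IsLocalization.Away.algebraMap_isUnit (g0 * a k))
      have h1 : I.map (algebraMap A A'') = Ideal.ofList (l.map (algebraMap A A'')) := by
        let := (IsLocalization.Away.lift g0 hgu : A' →+* A'').toAlgebra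
        have : IsScalarTower A A' A'' :=
          IsScalarTower.of_algebraMap_eq fun x => (IsLocalization.Away.lift_eq g0 hgu x).symm
        rw [IsScalarTower.algebraMap_eq A A' A'', ← Ideal.map_map, hI, map_ofList, List.map_map,
          ← RingHom.coe_comp]
      rw [h1]
      refine le_antisymm (Ideal.span_le.2 fun z hz => ?_) (Ideal.span_le.2 fun z hz => ?_)
      · obtain ⟨x, hx, rfl⟩ := List.mem_map.1 hz
        rw [SetLike.mem_coe, ← map_ofList]
        obtain ⟨j, hj, rfl⟩ := List.getElem_of_mem hx
        by_cases hjk : j = k.1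
        · subst hjk
          obtain ⟨v, hv⟩ := ((hgu.pow n).mul hau).exists_left_inv
          have hmem : g0 ^ n * (a k * l[k.1]) ∈ Ideal.ofList (l.eraseIdx k) := by
            rw [← Finset.add_sum_erase _ _ (Finset.mem_univ k), mul_add,
              add_eq_zero_iff_eq_neg] at ht
            rw [show a k * l[k.1] = a k * l[k] from rfl, ht, Finset.mul_sum]
            refine neg_mem (Ideal.sum_mem _ fun i hi => Ideal.mul_mem_left _ _
              (Ideal.mul_mem_left _ _ (Ideal.subset_span ?_)))
            exact List.mem_eraseIdx_iff_getElem.2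
              ⟨i.1, i.2, fun h => Finset.ne_of_mem_erase hi (Fin.ext h), rfl⟩
          have := Ideal.mul_mem_left ((Ideal.ofList (l.eraseIdx k)).map (algebraMap A A'')) v
            (Ideal.mem_map_of_mem _ hmem)
          rwa [← mul_assoc (g0 ^ n), map_mul, map_mul, map_pow, ← mul_assoc v, hv, one_mul] at this
        · exact Ideal.mem_map_of_mem _ (Ideal.subset_span
            (List.mem_eraseIdx_iff_getElem.2 ⟨j, hj, hjk, rfl⟩))
      · obtain ⟨x, hx, rfl⟩ := List.mem_map.1 hz
        exact Ideal.subset_span (List.mem_map.2 ⟨x, List.eraseIdx_subset hx, rfl⟩)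
  let B' := B ⊗[A] A'
  have : Module.FaithfullyFlat A' B' :=
    .of_linearEquiv _ _ (Algebra.TensorProduct.commRight _ _ _).symm.toLinearEquiv
  have hB' : LCI.IsKoszulRegularIdeal ((Ideal.span (Set.range f)).map (algebraMap A' B')) := by
    have := isKoszulRegularIdeal_map (B := B') hB
    rwa [← hIf, Ideal.map_map, ← IsScalarTower.algebraMap_eq, IsScalarTower.algebraMap_eq A B B',
      ← Ideal.map_map]
  obtain ⟨g, hg, hkr⟩ := exists_kR_of_faithfullyFlat B' f hB' p'
    (hIf ▸ Ideal.map_mono hp) hmin
  obtain ⟨k, a, hka⟩ := IsLocalization.Away.surj g0 g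
  have hap : a ∉ p.asIdeal := by
    intro ha
    apply hg
    obtain ⟨u, hu⟩ := (IsLocalization.Away.algebraMap_isUnit (S := A') g0).pow k
    have := Ideal.mul_mem_right (↑u⁻¹ : A') p'.asIdeal
      (hka ▸ Ideal.mem_map_of_mem _ ha : g * algebraMap A A' g0 ^ k ∈ p'.asIdeal)
    rwa [← hu, mul_assoc, Units.mul_inv, mul_one] at this
  refine ⟨g0 * a, fun h => (p.isPrime.mem_or_mem h).elim hg0 hap, ?_⟩
  let C := Localization.Away (g0 * a)
  have hgu : IsUnit (algebraMap A C g0) := isUnit_of_dvd_unit (map_dvd _ (dvd_mul_right g0 a))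
    (IsLocalization.Away.algebraMap_isUnit (g0 * a))
  have hau : IsUnit (algebraMap A C a) := isUnit_of_dvd_unit (map_dvd _ (dvd_mul_left a g0))
    (IsLocalization.Away.algebraMap_isUnit (g0 * a))
  let := (IsLocalization.Away.lift g0 hgu : A' →+* C).toAlgebra
  have : IsScalarTower A A' C :=
    IsScalarTower.of_algebraMap_eq fun x => (IsLocalization.Away.lift_eq g0 hgu x).symm
  have := flat_over_localization (Submonoid.powers g0) A' C
  have hgu' : IsUnit (algebraMap A' C g) := by
    have h1 := congrArg (algebraMap A' C) hka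
    rw [map_mul, map_pow, ← IsScalarTower.algebraMap_apply, ← IsScalarTower.algebraMap_apply] at h1
    rw [← h1] at hau
    exact isUnit_of_mul_isUnit_left hau
  have hgen : KRGen (Localization.Away g) (Ideal.span (Set.range f)) :=
    ⟨List.ofFn f, fun x hx => Ideal.subset_span (by simpa using hx), hkr, by
      rw [← map_ofList, ofList_ofFn]⟩
  obtain ⟨l', -, hkr', hI'⟩ := hgen.of_isUnit (C := C) hgu'
  rw [← hIf, Ideal.map_map, ← IsScalarTower.algebraMap_eq] at hI'
  exact KRGen.of_list (g := g0 * a) _ hkr' hI'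

end Groth.Agent.LCI19
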