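import Groth.Agent.LCI19.FVasc
import Mathlib.RingTheory.Ideal.Cotangent
import Mathlib.LinearAlgebra.Matrix.NonsingularInverse
import Mathlib.RingTheory.Localization.AtPrime.Basic
import Mathlib.RingTheory.Localization.Away.Basic

/-! An ideal of finite projective dimension with projective conormal module is regular. -/

universe u

open CategoryTheory TensorProduct IsLocalRing

namespace Groth.Agent.LCI19

lemma ofList_take_ofFn {A : Type*} [CommRing A] {k : ℕ} (x : Fin k → A) (i : Fin k) :
    Ideal.ofList ((List.ofFn x).take i) = Ideal.span (x '' Set.Iio i) := by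
  show Ideal.span _ = _
  congr 1
  ext z
  simp only [Set.mem_ofPred_eq, List.mem_take_iff_getElem, List.getElem_ofFn, Set.mem_image, Set.mem_Iio,
    List.length_ofFn]
  constructor
  · rintro ⟨j, hj, rfl⟩
    exact ⟨⟨j, (lt_min_iff.1 hj).2⟩, (lt_min_iff.1 hj).1, rfl⟩
  · rintro ⟨j, hj, rfl⟩
    exact ⟨j, lt_min hj j.2, rfl⟩

/-- weakly regular families, elementwise -/
lemma isWeaklyRegular_ofFn_iff {A : Type*} [CommRing A] {k : ℕ} (x : Fin k → A) :
    RingTheory.Sequence.IsWeaklyRegular A (List.ofFn x) ↔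
      ∀ (i : Fin k) (z : A), x i * z ∈ Ideal.span (x '' Set.Iio i) → z ∈ Ideal.span (x '' Set.Iio i) := by
  rw [RingTheory.Sequence.isWeaklyRegular_iff_Fin]
  constructor
  · intro h i z hz
    have h' := (isSMulRegular_quotient_iff_mem_of_smul_mem _ _).1 (h (i.cast List.length_ofFn.symm)) z
    simp only [smul_eq_mul, Ideal.mul_top, Fin.val_cast, ofList_take_ofFn, Fin.getElem_fin,
      List.getElem_ofFn] at h'
    exact h' hz
  · intro h i
    obtain ⟨j, rfl⟩ : ∃ j : Fin k, i = j.cast List.length_ofFn.symm := ⟨i.cast List.length_ofFn, rfl⟩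
    refine (isSMulRegular_quotient_iff_mem_of_smul_mem _ _).2 fun z hz => ?_
    simp only [smul_eq_mul, Ideal.mul_top, Fin.val_cast, ofList_take_ofFn, Fin.getElem_fin,
      List.getElem_ofFn] at hz ⊢
    exact h j z hz

lemma span_image_mul_units {A ι : Type*} [CommRing A] (x : ι → A) (u : ι → Aˣ) (s : Set ι) :
    Ideal.span ((fun i => u i * x i) '' s) = Ideal.span (x '' s) := by
  refine le_antisymm (Ideal.span_le.2 ?_) (Ideal.span_le.2 ?_)
  · rintro _ ⟨i, hi, rfl⟩
    exact Ideal.mul_mem_left _ _ (Ideal.subset_span ⟨i, hi, rfl⟩)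
  · rintro _ ⟨i, hi, rfl⟩
    exact (Ideal.unit_mul_mem_iff_mem _ (u i).isUnit).1 (Ideal.subset_span ⟨i, hi, rfl⟩)

variable {R : Type u} [CommRing R] [IsNoetherianRing R]

lemma exists_mul_mem_of_fg (p : Ideal R) [p.IsPrime] (C J : Ideal R)
    (h : ∀ y ∈ C, algebraMap R (Localization.AtPrime p) y ∈ J.map (algebraMap R (Localization.AtPrime p))) :
    ∃ g, g ∉ p ∧ ∀ y ∈ C, g * y ∈ J := by
  classical
  obtain ⟨s, hs⟩ := (IsNoetherian.noetherian C : C.FG)
  have hmem : ∀ y ∈ s, ∃ t, t ∉ p ∧ t * y ∈ J := fun y hy =>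
    (IsLocalization.algebraMap_mem_map_algebraMap_iff p.primeCompl (Localization.AtPrime p) J y).1
      (h y (hs ▸ Submodule.subset_span hy))
  choose t ht htJ using hmem
  refine ⟨∏ y ∈ s.attach, t y.1 y.2, fun h' => ?_, fun y hy => ?_⟩
  · obtain ⟨y, -, hy⟩ := (‹p.IsPrime›).prod_mem_iff.1 h'
    exact ht _ _ hy
  · rw [← hs] at hy
    induction hy using Submodule.span_induction with
    | mem x hx =>
      rw [← Finset.prod_erase_mul _ _ (Finset.mem_attach s ⟨x, hx⟩), mul_assoc]
      exact J.mul_mem_left _ (htJ x hx)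
    | zero => simp
    | add a b _ _ ha hb => rw [mul_add]; exact J.add_mem ha hb
    | smul a b _ hb => rw [smul_eq_mul, mul_left_comm]; exact J.mul_mem_left _ hb

/-- a regular sequence at `p` generating `I` spreads to a neighbourhood of `p` -/
lemma spread_regular (I p : Ideal R) [p.IsPrime] (hIp : I ≤ p) {k : ℕ} (y : Fin k → R) (hy : ∀ i, y i ∈ I)
    (hreg : RingTheory.Sequence.IsWeaklyRegular (Localization.AtPrime p)
      (List.ofFn (algebraMap R (Localization.AtPrime p) ∘ y)))
    (hspan : I.map (algebraMap R (Localization.AtPrime p)) ≤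
      Ideal.span (Set.range (algebraMap R (Localization.AtPrime p) ∘ y))) :
    ∃ g : R, g ∉ p ∧ ∃ rs : List (Localization.Away g),
      RingTheory.Sequence.IsRegular (Localization.Away g) rs ∧
        Ideal.ofList rs = I.map (algebraMap R (Localization.Away g)) := by
  classical
  let A := Localization.AtPrime p
  rw [isWeaklyRegular_ofFn_iff] at hreg
  have h1 : ∀ i, ∃ g, g ∉ p ∧ ∀ z ∈ (Ideal.span (y '' Set.Iio i)).colon {y i},
      g * z ∈ Ideal.span (y '' Set.Iio i) := fun i => by
    refine exists_mul_mem_of_fg p _ _ fun z hz => ?_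
    rw [Submodule.mem_colon_singleton, smul_eq_mul, mul_comm] at hz
    have := hreg i (algebraMap R A z)
    rw [Set.image_comp, ← Ideal.map_span, Function.comp_apply, ← map_mul] at this
    exact this (Ideal.mem_map_of_mem _ hz)
  have h2 : ∃ g, g ∉ p ∧ ∀ z ∈ I, g * z ∈ Ideal.span (Set.range y) :=
    exists_mul_mem_of_fg p _ _ fun z hz => by
      rw [Ideal.map_span, ← Set.range_comp]
      exact hspan (Ideal.mem_map_of_mem _ hz)
  choose g hg hgc using h1
  obtain ⟨g₀, hg₀, hg₀I⟩ := h2
  let G := g₀ * ∏ i, g i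
  have hG : G ∉ p := fun h => by
    rcases (‹p.IsPrime›).mem_or_mem h with h | h
    · exact hg₀ h
    · obtain ⟨i, -, hi⟩ := (‹p.IsPrime›).prod_mem_iff.1 h
      exact hg i hi
  let B := Localization.Away G
  refine ⟨G, hG, List.ofFn (algebraMap R B ∘ y), ?_⟩
  have heq : Ideal.ofList (List.ofFn (algebraMap R B ∘ y)) = I.map (algebraMap R B) := by
    show Ideal.span _ = _
    rw [show {r | r ∈ List.ofFn (algebraMap R B ∘ y)} = Set.range (algebraMap R B ∘ y) by
      ext; simp [List.mem_ofFn]]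
    refine le_antisymm (Ideal.span_le.2 ?_) (Ideal.map_le_iff_le_comap.2 fun z hz => ?_)
    · rintro _ ⟨i, rfl⟩
      exact Ideal.mem_map_of_mem _ (hy i)
    · rw [Ideal.mem_comap, Set.range_comp, ← Ideal.map_span,
        IsLocalization.algebraMap_mem_map_algebraMap_iff (Submonoid.powers G)]
      refine ⟨G, Submonoid.mem_powers _, ?_⟩
      rw [show G * z = (∏ i, g i) * (g₀ * z) from by ring]
      exact Ideal.mul_mem_left _ _ (hg₀I z hz)
  refine ⟨⟨?_, ?_⟩, heq⟩
  · rw [isWeaklyRegular_ofFn_iff]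
    intro i w hw
    rw [Set.image_comp, ← Ideal.map_span] at hw ⊢
    obtain ⟨⟨z, s⟩, hzs⟩ := IsLocalization.surj (Submonoid.powers G) w
    refine (Ideal.unit_mul_mem_iff_mem _ (IsLocalization.map_units B s)).1 ?_
    have h' : algebraMap R B (y i * z) ∈ (Ideal.span (y '' Set.Iio i)).map (algebraMap R B) := by
      rw [map_mul, ← hzs, ← mul_assoc]
      exact Ideal.mul_mem_right _ _ hw
    rw [mul_comm, hzs]
    rw [IsLocalization.algebraMap_mem_map_algebraMap_iff (Submonoid.powers G)] at h' ⊢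
    obtain ⟨m, hm, hmz⟩ := h'
    refine ⟨G * m, mul_mem (Submonoid.mem_powers _) hm, ?_⟩
    have := hgc i (m * z) (by
      rw [Submodule.mem_colon_singleton, smul_eq_mul, mul_comm, mul_left_comm]
      exact hmz)
    rw [show G * m * z = (g₀ * ∏ j ∈ Finset.univ.erase i, g j) * (g i * (m * z)) by
      simp only [G]; rw [← Finset.prod_erase_mul _ _ (Finset.mem_univ i)]; ring]
    exact Ideal.mul_mem_left _ _ this
  · rw [smul_eq_mul, Ideal.mul_top, heq]
    intro h
    have hp : (p.map (algebraMap R B)).IsPrime :=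
      IsLocalization.isPrime_of_isPrime_disjoint (Submonoid.powers G) B p ‹_› (by
        rw [Set.disjoint_left]
        rintro _ ⟨m, rfl⟩ hm
        exact hG ((‹p.IsPrime›).mem_of_pow_mem m hm))
    exact hp.ne_top (top_le_iff.1 (h ▸ Ideal.map_mono hIp))

omit [IsNoetherianRing R] in
/-- the extension of an ideal to a flat algebra is the base change -/
lemma exists_baseChange_equiv (A : Type u) [CommRing A] [Algebra R A] [Module.Flat R A] (I : Ideal R) :
    ∃ e : A ⊗[R] I ≃ₗ[A] (I.map (algebraMap R A) : Ideal A),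
      ∀ (a : A) (i : I), (e (a ⊗ₜ[R] i) : A) = a * algebraMap R A i := by
  let ψ : A ⊗[R] I →ₗ[A] A :=
    (AlgebraTensorModule.rid R A A).toLinearMap ∘ₗ I.subtype.baseChange A
  have hψ : Function.Injective ψ :=
    (AlgebraTensorModule.rid R A A).injective.comp
      (Module.Flat.lTensor_preserves_injective_linearMap _ (Submodule.subtype_injective _))
  have htm : ∀ (a : A) (i : I), ψ (a ⊗ₜ[R] i) = a * algebraMap R A i := fun a i => by
    show AlgebraTensorModule.rid R A A (a ⊗ₜ[R] (i : R)) = _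
    rw [AlgebraTensorModule.rid_tmul, Algebra.smul_def, mul_comm]
  have hr : LinearMap.range ψ = I.map (algebraMap R A) := by
    refine le_antisymm ?_ (Ideal.map_le_iff_le_comap.2 fun i hi => ⟨1 ⊗ₜ[R] ⟨i, hi⟩, by rw [htm, one_mul]⟩)
    rintro _ ⟨z, rfl⟩
    induction z using TensorProduct.induction_on with
    | zero => rw [map_zero]; exact zero_mem _
    | add a b ha hb => rw [map_add]; exact add_mem ha hb
    | tmul a i => rw [htm]; exact Ideal.mul_mem_left _ a (Ideal.mem_map_of_mem _ i.2)
  exact ⟨(LinearEquiv.ofInjective ψ hψ).trans (LinearEquiv.ofEq _ _ hr), fun a i => htm a i⟩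

theorem exists_regular_generators_away (I : Ideal R) (n : ℕ)
    (hpd : HasProjectiveDimensionLT (ModuleCat.of R I) n)
    [Module.Projective (R ⧸ I) I.Cotangent] (p : Ideal R) [p.IsPrime] (hIp : I ≤ p) :
    ∃ g : R, g ∉ p ∧ ∃ rs : List (Localization.Away g),
      RingTheory.Sequence.IsRegular (Localization.Away g) rs ∧
        Ideal.ofList rs = I.map (algebraMap R (Localization.Away g)) := by
  classical
  let A := Localization.AtPrime p
  let al := algebraMap R A
  let IA : Ideal A := I.map al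
  have hIA : IA ≠ ⊤ := by
    intro h
    refine (maximalIdeal.isMaximal A).ne_top (top_le_iff.1 (h ▸ ?_))
    rw [← Localization.AtPrime.map_eq_maximalIdeal]
    exact Ideal.map_mono hIp
  have hsq : IA * IA ≤ maximalIdeal A • IA := Ideal.mul_mono_left (le_maximalIdeal hIA)
  have hjac : maximalIdeal A ≤ Ideal.jacobson ⊥ := (maximalIdeal_le_jacobson _)
  have hfg : Submodule.FG IA := IsNoetherian.noetherian IA
  -- a global generating family and a splitting of the conormal module
  obtain ⟨m, c₀, hc₀⟩ := Submodule.fg_iff_exists_fin_generating_family.1 (IsNoetherian.noetherian I : I.FG)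
  have hcI : ∀ i, c₀ i ∈ I := fun i => hc₀ ▸ Submodule.subset_span ⟨i, rfl⟩
  let c : Fin m → I := fun i => ⟨c₀ i, hcI i⟩
  let f : (Fin m → R ⧸ I) →ₗ[R ⧸ I] I.Cotangent := Fintype.linearCombination (R ⧸ I) fun i => I.toCotangent (c i)
  have hf : Function.Surjective f := by
    intro z
    obtain ⟨⟨y, hy⟩, rfl⟩ := I.toCotangent_surjective z
    obtain ⟨d, hd⟩ := (Submodule.mem_span_range_iff_exists_fun R).1 (show y ∈ Submodule.span R (Set.range c₀) from hc₀.symm ▸ hy)
    refine ⟨fun i => Ideal.Quotient.mk I (d i), ?_⟩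
    rw [show (⟨y, hy⟩ : I) = ∑ i, d i • c i from Subtype.ext (by simp [← hd, c]), map_sum]
    simp [f, Fintype.linearCombination_apply, map_smul, ← Ideal.Quotient.algebraMap_eq, algebraMap_smul]
  obtain ⟨σ, hσ⟩ := Module.projective_lifting_property f LinearMap.id hf
  -- minimal generators at `p`
  have hex : ∃ k, ∃ a : Fin k → I, IA ≤ Ideal.span (Set.range fun i => al (a i)) := ⟨m, c, by
    show Ideal.map al I ≤ _
    conv_lhs => rw [← hc₀]
    rw [show Submodule.span R (Set.range c₀) = Ideal.span (Set.range c₀) from rfl, Ideal.map_span,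
      ← Set.range_comp]
    exact le_rfl⟩
  let k := Nat.find hex
  obtain ⟨a, ha⟩ := Nat.find_spec hex
  have hmem : ∀ i : I, al i ∈ IA := fun i => Ideal.mem_map_of_mem _ i.2
  have hM : ∀ l, ∃ M : Fin k → A, ∑ j, M j * al (a j) = al (c l) := fun l =>
    (Ideal.mem_span_range_iff_exists_fun).1 (ha (hmem (c l)))
  choose M hM using hM
  -- coordinates
  let π : A →+* A ⧸ IA := Ideal.Quotient.mk IA
  let φ : R ⧸ I →ₗ[R] A ⧸ IA :=
    Submodule.liftQ I ((Ideal.Quotient.mkₐ R IA).toLinearMap ∘ₗ Algebra.linearMap R A) fun r hr => by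
      rw [LinearMap.mem_ker]
      exact Ideal.Quotient.eq_zero_iff_mem.2 (Ideal.mem_map_of_mem _ hr)
  let P₀ : I →ₗ[R] (Fin k → A ⧸ IA) :=
    LinearMap.pi fun j => ∑ l, (LinearMap.mulRight R (π (M l j))) ∘ₗ φ ∘ₗ LinearMap.proj l ∘ₗ
      σ.restrictScalars R ∘ₗ I.toCotangent
  have hN : ∀ i, ∃ N : Fin k → A, (∀ j, π (N j) = P₀ (a i) j) ∧ ∑ j, N j * al (a j) - al (a i) ∈ IA * IA := by
    intro i
    choose d hd using fun l => Ideal.Quotient.mk_surjective (σ (I.toCotangent (a i)) l)
    refine ⟨fun j => ∑ l, al (d l) * M l j, fun j => ?_, ?_⟩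
    · simp only [P₀, LinearMap.pi_apply, LinearMap.sum_apply, LinearMap.comp_apply, map_sum, map_mul]
      refine Finset.sum_congr rfl fun l _ => ?_
      rw [LinearMap.proj_apply, LinearMap.restrictScalars_apply, ← hd l]
      rfl
    · have h1 : ∑ j, (∑ l, al (d l) * M l j) * al (a j) = al ((∑ l, d l • c l : I) : R) := by
        rw [Finset.sum_congr rfl fun j _ => Finset.sum_mul _ _ _, Finset.sum_comm]
        simp only [mul_assoc]
        simp only [← Finset.mul_sum, hM]
        simp [map_sum]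
      rw [h1, ← map_sub, ← Ideal.map_mul, ← pow_two]
      refine Ideal.mem_map_of_mem _ ?_
      rw [← Ideal.toCotangent_eq]
      have h2 := LinearMap.congr_fun hσ (I.toCotangent (a i))
      rw [LinearMap.comp_apply, LinearMap.id_apply] at h2
      conv_rhs => rw [← h2]
      simp [f, Fintype.linearCombination_apply, ← hd, map_sum, map_smul, ← Ideal.Quotient.algebraMap_eq,
        algebraMap_smul]
  choose N hNπ hNmem using hN
  have hNm : ∀ i j, N i j - (1 : Matrix (Fin k) (Fin k) A) i j ∈ maximalIdeal A := by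
    intro i j
    by_contra hu
    have hu' : IsUnit (N i j - (1 : Matrix (Fin k) (Fin k) A) i j) := by
      exact Classical.not_not.1 hu
    obtain ⟨k', hk'⟩ : ∃ k', k = k' + 1 := Nat.exists_eq_add_one.2 j.pos
    refine Nat.find_min hex (show k' < k by omega) ?_
    let f' : Fin k' → Fin k := fun l => (((j.cast hk').succAbove l).cast hk'.symm)
    refine ⟨a ∘ f', Submodule.le_of_le_smul_of_le_jacobson_bot hfg hjac ?_⟩
    refine ha.trans (Ideal.span_le.2 ?_)
    have hne : ∀ l, l ≠ j → al (a l) ∈ Ideal.span (Set.range fun t => al ((a ∘ f') t)) := by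
      intro l hl
      obtain ⟨t, ht⟩ := Fin.exists_succAbove_eq (show l.cast hk' ≠ j.cast hk' from fun h => hl (Fin.cast_injective _ h))
      exact Ideal.subset_span ⟨t, by simp [f', ht]⟩
    rintro _ ⟨l, rfl⟩
    by_cases hl : l = j
    · subst hl
      refine (Ideal.unit_mul_mem_iff_mem _ hu').1 ?_
      have h3 : ∑ t, (N i t - (1 : Matrix (Fin k) (Fin k) A) i t) * al (a t) ∈ IA * IA := by
        convert hNmem i using 1
        simp [sub_mul, Finset.sum_sub_distrib, Matrix.one_apply]
      rw [← Finset.add_sum_erase _ _ (Finset.mem_univ l)] at h3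
      rw [← add_sub_cancel_right ((N i l - _) * al (a l))
        (∑ t ∈ Finset.univ.erase l, (N i t - (1 : Matrix (Fin k) (Fin k) A) i t) * al (a t))]
      exact sub_mem (Submodule.mem_sup_right (hsq h3)) (Submodule.sum_mem _ fun t ht =>
        Submodule.mem_sup_left (Ideal.mul_mem_left _ _ (hne t (Finset.ne_of_mem_erase ht))))
    · exact Submodule.mem_sup_left (hne l hl)
  have hdet : IsUnit (Matrix.of N).det := by
    have h : residue A (Matrix.of N).det = 1 := by
      rw [RingHom.map_det, show (residue A).mapMatrix (Matrix.of N) = 1 from ?_, Matrix.det_one]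
      ext i j
      have := (residue_eq_zero_iff _).2 (hNm i j)
      rw [map_sub, sub_eq_zero] at this
      rw [RingHom.mapMatrix_apply, Matrix.map_apply, Matrix.of_apply, this]
      simp [Matrix.one_apply, apply_ite (residue A)]
    exact (IsLocalRing.residue_ne_zero_iff_isUnit _).1 (by rw [h]; exact one_ne_zero)
  let Nb : Matrix (Fin k) (Fin k) (A ⧸ IA) := π.mapMatrix (Matrix.of N)
  have hNb : IsUnit Nb.det := by rw [← RingHom.map_det]; exact hdet.map π
  obtain ⟨e, he⟩ := exists_baseChange_equiv A I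
  let P₁ : I →ₗ[R] (Fin k → A ⧸ IA) := ((Nb⁻¹).vecMulLinear).restrictScalars R ∘ₗ P₀
  let P : IA →ₗ[A] (Fin k → A ⧸ IA) := P₁.liftBaseChange A ∘ₗ e.symm.toLinearMap
  have hP : ∀ i, P ⟨al (a i), hmem (a i)⟩ = Pi.single i 1 := by
    intro i
    have h1 : e.symm ⟨al (a i), hmem (a i)⟩ = 1 ⊗ₜ[R] a i :=
      e.symm_apply_eq.2 (Subtype.ext (by rw [he, one_mul]))
    show P₁.liftBaseChange A (e.symm _) = _
    rw [h1, LinearMap.liftBaseChange_tmul, one_smul]
    show Matrix.vecMul (P₀ (a i)) Nb⁻¹ = _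
    rw [show P₀ (a i) = Matrix.vecMul (Pi.single i 1) Nb by
      funext j; simp [Nb, ← hNπ], Matrix.vecMul_vecMul, Matrix.mul_nonsing_inv _ hNb, Matrix.vecMul_one]
  have hpdA : HasProjectiveDimensionLE (ModuleCat.of A IA) n := by
    have hle : HasProjectiveDimensionLE (ModuleCat.of R I) n :=
      hasProjectiveDimensionLT_of_ge _ n (n + 1) (Nat.le_succ n)
    have := EGA4H10.hasPD_baseChange A I n hle
    exact hasProjectiveDimensionLT_of_iso (e.toModuleIso) (n + 1)
  obtain ⟨x, hx, hxreg⟩ := exists_regular_lift k A IA hIA n hpdA (fun i => ⟨al (a i), hmem (a i)⟩) P hP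
  have hxI : ∀ i, x i ∈ IA := fun i => by
    have := IA.add_mem (Ideal.mul_le_right (hx i)) (hmem (a i))
    rwa [sub_add_cancel] at this
  have hgen : IA ≤ Ideal.span (Set.range x) := by
    refine Submodule.le_of_le_smul_of_le_jacobson_bot hfg hjac (ha.trans (Ideal.span_le.2 ?_))
    rintro _ ⟨i, rfl⟩
    show al (a i) ∈ _
    rw [← sub_sub_cancel (x i) (al (a i))]
    exact sub_mem (Submodule.mem_sup_left (Ideal.subset_span ⟨i, rfl⟩)) (Submodule.mem_sup_right (hsq (hx i)))
  choose ys hys using fun i => (IsLocalization.mem_map_algebraMap_iff p.primeCompl A).1 (hxI i)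
  let u : Fin k → Aˣ := fun i => (IsLocalization.map_units A (ys i).2).unit
  have hy : (al ∘ fun i => ((ys i).1 : R)) = fun i => (u i : A) * x i := funext fun i => by
    simpa [u, mul_comm] using (hys i).symm
  refine spread_regular I p hIp (fun i => (ys i).1) (fun i => (ys i).1.2) ?_ ?_
  · rw [hy, isWeaklyRegular_ofFn_iff]
    intro i z hz
    rw [span_image_mul_units] at hz ⊢
    rw [mul_assoc] at hz
    exact (isWeaklyRegular_ofFn_iff x).1 hxreg.toIsWeaklyRegular i z
      ((Ideal.unit_mul_mem_iff_mem _ (u i).isUnit).1 hz)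
  · rw [hy, ← Set.image_univ, span_image_mul_units, Set.image_univ]
    exact hgen

end Groth.Agent.LCI19
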