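import Groth.Agent.FlatCrit65.GenFree
import Groth.Agent.FlatCrit65.Localized
import Mathlib.RingTheory.Localization.BaseChange
import Mathlib.RingTheory.Ideal.MinimalPrime.Basic
import Mathlib.RingTheory.Ideal.MinimalPrime.Noetherian
import Mathlib.RingTheory.FiniteType
import Mathlib.RingTheory.Flat.Localization
import Mathlib.RingTheory.Ideal.Over
import Mathlib.RingTheory.Localization.LocalizationLocalization

/-! The flat locus of a finite type algebra over a Noetherian ring is open. -/

universe u

open TensorProduct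

namespace Groth.Agent.LCI19

variable {R S : Type u} [CommRing R] [IsNoetherianRing R] [CommRing S] [Algebra R S]

omit [IsNoetherianRing R] in
lemma lTensor_ker_kill (η : Ideal S) [η.IsPrime] [Module.Flat R (Localization.AtPrime η)] (p : Ideal R)
    (x : S ⊗[R] p) (hx : AlgebraTensorModule.lTensor S S p.subtype x = 0) : ∃ t, t ∉ η ∧ t • x = 0 := by
  let f := IsScalarTower.toAlgHom S S (Localization.AtPrime η) |>.toLinearMap
  let ρ := AlgebraTensorModule.rTensor R p f
  have h : p.subtype.lTensor (Localization.AtPrime η) (ρ x) = (f.restrictScalars R).rTensor R (p.subtype.lTensor S x) := by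
    clear hx
    induction x using TensorProduct.induction_on with
    | zero => simp
    | add a b ha hb => simp only [map_add, ha, hb]
    | tmul a b => simp [ρ]
  have hx' : p.subtype.lTensor S x = 0 := hx
  rw [hx', map_zero] at h
  have h0 : ρ x = 0 :=
    Module.Flat.lTensor_preserves_injective_linearMap p.subtype (Submodule.subtype_injective _) (h.trans (map_zero _).symm)
  have : IsLocalizedModule η.primeCompl ρ := by
    have : IsLocalizedModule η.primeCompl f :=
      (isLocalizedModule_iff_isLocalization' η.primeCompl (Localization.AtPrime η)).2 inferInstance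
    exact inferInstanceAs (IsLocalizedModule η.primeCompl (AlgebraTensorModule.rTensor R p f))
  obtain ⟨⟨t, ht⟩, htx⟩ := (IsLocalizedModule.eq_zero_iff η.primeCompl ρ).1 h0
  exact ⟨t, ht, htx⟩

theorem flat_nearby [Algebra.FiniteType R S] (η : Ideal S) [η.IsPrime] [Module.Flat R (Localization.AtPrime η)] :
    ∃ h : S, h ∉ η ∧ ∀ (Q : Ideal S) [Q.IsPrime], η ≤ Q → h ∉ Q → Module.Flat R (Localization.AtPrime Q) := by
  classical
  have : IsNoetherianRing S := Algebra.FiniteType.isNoetherianRing R S
  let p := η.comap (algebraMap R S)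
  -- the kernel of `S ⊗ p → S`
  let K := LinearMap.ker (AlgebraTensorModule.lTensor S S p.subtype)
  have := FlatCrit65.finite_tensor S (M := S) (R := R) p
  have : IsNoetherian S (S ⊗[R] p) := isNoetherian_of_isNoetherianRing_of_finite S _
  obtain ⟨s, hs⟩ := (IsNoetherian.noetherian K : K.FG)
  choose t ht htx using fun (x : S ⊗[R] p) (hx : x ∈ s) => lTensor_ker_kill η p x (by
    have : x ∈ K := hs ▸ Submodule.subset_span hx
    exact this)
  let t₀ := ∏ x ∈ s.attach, t x.1 x.2
  have ht₀ : t₀ ∉ η := fun h => by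
    obtain ⟨x, -, hx⟩ := (‹η.IsPrime›).prod_mem_iff.1 h
    exact ht _ _ hx
  have ht₀K : ∀ x ∈ K, t₀ • x = 0 := by
    intro x hx
    rw [← hs] at hx
    induction hx using Submodule.span_induction with
    | mem x hx =>
      rw [show t₀ = _ from (Finset.prod_erase_mul _ _ (Finset.mem_attach s ⟨x, hx⟩)).symm, mul_smul, htx, smul_zero]
    | zero => rw [smul_zero]
    | add a b _ _ ha hb => rw [smul_add, ha, hb, add_zero]
    | smul a b _ hb => rw [smul_comm, hb, smul_zero]
  -- generic freeness
  let Rb := R ⧸ p
  let Sb := S ⧸ p.map (algebraMap R S)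
  have : IsScalarTower R Rb Sb := IsScalarTower.of_algebraMap_eq fun r => rfl
  have : Algebra.FiniteType R Sb := Algebra.FiniteType.trans (S := S) ‹_› inferInstance
  have : Algebra.FiniteType Rb Sb := Algebra.FiniteType.of_restrictScalars_finiteType R Rb Sb
  obtain ⟨fb, hfb, hfree, -⟩ := FlatCrit65.generic_freeness (R := Rb) (S := Sb) (M := Sb)
  obtain ⟨f, rfl⟩ := Ideal.Quotient.mk_surjective fb
  have hfp : f ∉ p := fun h => hfb (Ideal.Quotient.eq_zero_iff_mem.2 h)
  refine ⟨t₀ * algebraMap R S f, Ideal.IsPrime.mul_notMem inferInstance ht₀ hfp, fun Q _ hηQ hQ => ?_⟩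
  have ht₀Q : t₀ ∉ Q := fun h => hQ (Ideal.mul_mem_right _ _ h)
  have hfQ : algebraMap R S f ∉ Q := fun h => hQ (Ideal.mul_mem_left _ _ h)
  let N := Localization.AtPrime Q
  -- injectivity
  have h1 : Function.Injective (p.subtype.lTensor N) := by
    let fN := IsScalarTower.toAlgHom S S N |>.toLinearMap
    have : IsLocalizedModule Q.primeCompl fN := (isLocalizedModule_iff_isLocalization' Q.primeCompl N).2 inferInstance
    let ρ := AlgebraTensorModule.rTensor R p fN
    let ρ' := AlgebraTensorModule.rTensor R R fN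
    rw [injective_iff_map_eq_zero]
    intro y hy
    obtain ⟨⟨x, c⟩, hxc⟩ := IsLocalizedModule.surj Q.primeCompl ρ y
    have hcomm : p.subtype.lTensor N (ρ x) = ρ' (AlgebraTensorModule.lTensor S S p.subtype x) := by
      clear hxc
      induction x using TensorProduct.induction_on with
      | zero => simp
      | add a b ha hb => simp only [map_add, ha, hb]
      | tmul a b => simp [ρ, ρ']
    have h0 : ρ' (AlgebraTensorModule.lTensor S S p.subtype x) = 0 := by
      rw [← hcomm, ← hxc, Submonoid.smul_def]
      show (AlgebraTensorModule.lTensor S N p.subtype) ((c : S) • y) = 0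
      rw [map_smul]
      exact (congrArg ((c : S) • ·) hy).trans (smul_zero _)
    obtain ⟨⟨d, hd⟩, hdx⟩ := (IsLocalizedModule.eq_zero_iff Q.primeCompl ρ').1 h0
    have hK : d • x ∈ K := by
      rw [LinearMap.mem_ker, map_smul]
      exact hdx
    have h2 := ht₀K _ hK
    rw [Submonoid.smul_def] at hxc
    have h3 : ((t₀ * d) * (c : S)) • y = 0 := by
      rw [mul_smul, hxc, ← map_smul, mul_smul, h2, map_zero]
    have hunit : IsUnit (algebraMap S N ((t₀ * d) * (c : S))) :=
      IsLocalization.map_units N (⟨_, Ideal.IsPrime.mul_notMem inferInstance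
        (Ideal.IsPrime.mul_notMem inferInstance ht₀Q hd) c.2⟩ : Q.primeCompl)
    rw [← algebraMap_smul N] at h3
    exact hunit.smul_eq_zero.1 h3
  -- flatness modulo `p`
  have h2 : Module.Flat Rb (Rb ⊗[R] N) := by
    let T := Sb ⊗[S] N
    let L := Sb ⊗[Rb] Localization.Away (Ideal.Quotient.mk p f)
    have : Module.Free (Localization.Away (Ideal.Quotient.mk p f))
        (Localization.Away (Ideal.Quotient.mk p f) ⊗[Rb] Sb) :=
      hfree _ (IsLocalization.Away.algebraMap_isUnit _)
    have : Module.Flat Rb (Localization.Away (Ideal.Quotient.mk p f) ⊗[Rb] Sb) :=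
      Module.Flat.trans Rb (Localization.Away (Ideal.Quotient.mk p f)) _
    have : Module.Flat Rb L := Module.Flat.of_linearEquiv (TensorProduct.comm Rb _ _)
    have hLT : Module.Flat Rb (L ⊗[Sb] T) := Module.Flat.trans Rb L _
    have hloc : IsLocalization (Algebra.algebraMapSubmonoid Sb (Submonoid.powers (Ideal.Quotient.mk p f))) L :=
      inferInstance
    let g : T →ₗ[Sb] L ⊗[Sb] T := TensorProduct.mk Sb L T 1
    have hgl : IsLocalizedModule (Algebra.algebraMapSubmonoid Sb (Submonoid.powers (Ideal.Quotient.mk p f))) g :=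
      (isLocalizedModule_iff_isBaseChange _ L g).2 (TensorProduct.isBaseChange Sb T L)
    have hid : IsLocalizedModule (Algebra.algebraMapSubmonoid Sb (Submonoid.powers (Ideal.Quotient.mk p f)))
        (LinearMap.id : T →ₗ[Sb] T) := by
      refine ⟨?_, fun y => ⟨(y, 1), by simp⟩, fun h => ⟨1, by simpa using h⟩⟩
      rintro ⟨_, _, ⟨k, rfl⟩, rfl⟩
      rw [Module.End.isUnit_iff]
      have hu : IsUnit (algebraMap S N (algebraMap R S (f ^ k))) := by
        rw [map_pow, map_pow]
        exact (IsLocalization.map_units N (⟨_, hfQ⟩ : Q.primeCompl)).pow k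
      have hact : ∀ z : T, (algebraMap Rb Sb (Ideal.Quotient.mk p f ^ k)) • z =
          (LinearMap.lTensor Sb ((LinearMap.mul S N (algebraMap S N (algebraMap R S (f ^ k)))))) z := by
        intro z
        rw [← map_pow, show algebraMap Rb Sb (Ideal.Quotient.mk p (f ^ k)) = algebraMap S Sb (algebraMap R S (f ^ k)) from rfl,
          algebraMap_smul]
        induction z using TensorProduct.induction_on with
        | zero => simp
        | add a b ha hb => rw [smul_add, map_add, ha, hb]
        | tmul a b => rw [LinearMap.lTensor_tmul, ← TensorProduct.tmul_smul, Algebra.smul_def]; rfl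
      have hb : Function.Bijective (LinearMap.mul S N (algebraMap S N (algebraMap R S (f ^ k)))) :=
        IsUnit.isUnit_iff_mulLeft_bijective.1 hu
      have : Function.Bijective (LinearMap.lTensor Sb ((LinearMap.mul S N (algebraMap S N (algebraMap R S (f ^ k)))))) :=
        (LinearEquiv.lTensor Sb (LinearEquiv.ofBijective _ hb)).bijective
      convert this using 1
      funext z
      exact hact z
    have hT : Module.Flat Rb T := Module.Flat.of_linearEquiv
      ((IsLocalizedModule.linearEquiv (Algebra.algebraMapSubmonoid Sb (Submonoid.powers (Ideal.Quotient.mk p f)))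
        (LinearMap.id : T →ₗ[Sb] T) g).restrictScalars Rb)
    let e₁ : T ≃ₗ[R] N ⧸ (p • ⊤ : Submodule R N) :=
      ((TensorProduct.quotTensorEquivQuotSMul N (p.map (algebraMap R S))).restrictScalars R).trans
        ((Submodule.Quotient.restrictScalarsEquiv R _).symm.trans
          (Submodule.quotEquivOfEq _ _ (by rw [Ideal.smul_restrictScalars, Submodule.restrictScalars_top])))
    let e : T ≃ₗ[R] Rb ⊗[R] N := e₁.trans (TensorProduct.quotTensorEquivQuotSMul N p).symm
    exact Module.Flat.of_linearEquiv (e.extendScalarsOfSurjective (S := Rb) Ideal.Quotient.mk_surjective).symm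
  refine FlatCrit65.flat_of_lexQuot (S := N) (I := p) ?_ (FlatCrit65.torTriv_of_injective h1 h2).lexQuot
  rw [IsLocalRing.jacobson_eq_maximalIdeal ⊥ bot_ne_top, Ideal.map_le_iff_le_comap]
  intro x hx
  rw [Ideal.mem_comap, IsScalarTower.algebraMap_apply R S N, IsLocalization.AtPrime.to_map_mem_maximal_iff N Q]
  exact hηQ hx

lemma flat_of_le {η Q : Ideal S} [η.IsPrime] [Q.IsPrime] (h : η ≤ Q) [Module.Flat R (Localization.AtPrime Q)] :
    Module.Flat R (Localization.AtPrime η) := by
  let : Algebra (Localization.AtPrime Q) (Localization.AtPrime η) :=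
    IsLocalization.localizationAlgebraOfSubmonoidLe (Localization.AtPrime Q) (Localization.AtPrime η) Q.primeCompl
      η.primeCompl fun x hx hxη => hx (h hxη)
  have : IsScalarTower S (Localization.AtPrime Q) (Localization.AtPrime η) :=
    IsLocalization.localization_isScalarTower_of_submonoid_le _ _ _ _ _
  have : IsScalarTower R (Localization.AtPrime Q) (Localization.AtPrime η) := IsScalarTower.of_algebraMap_eq fun r => by
    rw [IsScalarTower.algebraMap_apply R S (Localization.AtPrime η),
      IsScalarTower.algebraMap_apply S (Localization.AtPrime Q) (Localization.AtPrime η),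
      ← IsScalarTower.algebraMap_apply R S (Localization.AtPrime Q)]
  have : Module.Flat (Localization.AtPrime Q) (Localization.AtPrime η) :=
    (Module.flat_iff_of_isLocalization (Localization.AtPrime Q) Q.primeCompl (Localization.AtPrime η)).2
      (IsLocalization.flat _ η.primeCompl)
  exact Module.Flat.trans R (Localization.AtPrime Q) _

/-- the flat locus is open -/
theorem exists_flat_nhd [Algebra.FiniteType R S] (Q : Ideal S) [Q.IsPrime] [Module.Flat R (Localization.AtPrime Q)] :
    ∃ g : S, g ∉ Q ∧ ∀ (P : Ideal S) [P.IsPrime], g ∉ P → Module.Flat R (Localization.AtPrime P) := by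
  classical
  have : IsNoetherianRing S := Algebra.FiniteType.isNoetherianRing R S
  let Z : Set (Ideal S) := {P | ∃ _ : P.IsPrime, ¬ Module.Flat R (Localization.AtPrime P)}
  let 𝔞 : Ideal S := sInf Z
  by_cases hle : 𝔞 ≤ Q
  · exfalso
    obtain ⟨η, hη, hηQ⟩ := Ideal.exists_minimalPrimes_le hle
    have := hη.1.1
    have := flat_of_le (R := R) hηQ
    obtain ⟨h, hhη, hflat⟩ := flat_nearby (R := R) η
    let others := (Ideal.finite_minimalPrimes_of_isNoetherianRing S 𝔞).toFinset.erase η
    have hc : ∀ μ ∈ others, ∃ c ∈ μ, c ∉ η := by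
      intro μ hμ
      obtain ⟨hne, hμ⟩ := Finset.mem_erase.1 hμ
      rw [Set.Finite.mem_toFinset] at hμ
      refine SetLike.not_le_iff_exists.1 fun hle' => hne (le_antisymm hle' (hη.2 hμ.1 hle'))
    choose c hcμ hcη using hc
    let C := ∏ μ ∈ others.attach, c μ.1 μ.2
    have hC : C * h ∈ 𝔞 := by
      rw [Submodule.mem_sInf]
      rintro P ⟨hP, hPflat⟩
      have hle𝔞 : 𝔞 ≤ P := sInf_le ⟨hP, hPflat⟩
      obtain ⟨μ, hμ, hμP⟩ := Ideal.exists_minimalPrimes_le hle𝔞
      by_cases hμη : μ = η
      · subst hμη
        by_contra hn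
        exact hPflat (hflat P hμP fun hh => hn (Ideal.mul_mem_left P _ hh))
      · have hmem : μ ∈ others := Finset.mem_erase.2 ⟨hμη, (Set.Finite.mem_toFinset _).2 hμ⟩
        refine Ideal.mul_mem_right _ P (hμP ?_)
        exact μ.prod_mem (Finset.mem_attach _ ⟨μ, hmem⟩) (hcμ _ _)
    rcases (hη.1.1).mem_or_mem (hη.1.2 hC) with hC' | hh
    · obtain ⟨μ, -, hμ⟩ := (hη.1.1).prod_mem_iff.1 hC'
      exact hcη _ _ hμ
    · exact hhη hh
  · obtain ⟨g, hg, hgQ⟩ := SetLike.not_le_iff_exists.1 hle
    refine ⟨g, hgQ, fun P _ hgP => ?_⟩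
    by_contra hn
    exact hgP ((Submodule.mem_sInf.1 hg) P ⟨‹_›, hn⟩)

end Groth.Agent.LCI19
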