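import Groth.Agent.LCI19.FlatSeq
import Groth.Agent.LCI19.FlatOpen

/-! A sequence regular on the fibre at a point is regular on a neighbourhood. -/

universe u

open MvPolynomial TensorProduct

namespace Groth.Agent.LCI19

variable {A : Type u} [CommRing A] {A₀ : Type u} [CommRing A₀] [Algebra A₀ A] {n : ℕ}

/-- regular sequences with flat quotients survive base change of the coefficients -/
lemma isWeaklyRegular_baseChange (M₀ : Submonoid (MvPolynomial (Fin n) A₀)) {S : Type u} [CommRing S]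
    [Algebra (MvPolynomial (Fin n) A₀) S] [IsLocalization M₀ S] [Algebra A₀ S]
    [IsScalarTower A₀ (MvPolynomial (Fin n) A₀) S]
    (M : Submonoid (MvPolynomial (Fin n) A)) {L : Type u} [CommRing L]
    [Algebra (MvPolynomial (Fin n) A) L] [IsLocalization M L] [Algebra A L]
    [IsScalarTower A (MvPolynomial (Fin n) A) L]
    (hM : ∀ m : M₀, IsUnit (algebraMap (MvPolynomial (Fin n) A) L
      (MvPolynomial.map (algebraMap A₀ A) (m : MvPolynomial (Fin n) A₀))))
    {k : ℕ} (f₀ : Fin k → MvPolynomial (Fin n) A₀)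
    (h : ∀ i : Fin k,
      (∀ z, algebraMap _ S (f₀ i) * z ∈ Ideal.span ((algebraMap _ S ∘ f₀) '' Set.Iio i) →
        z ∈ Ideal.span ((algebraMap _ S ∘ f₀) '' Set.Iio i)) ∧
      Module.Flat A₀ (S ⧸ Ideal.span ((algebraMap _ S ∘ f₀) '' Set.Iic i))) :
    RingTheory.Sequence.IsWeaklyRegular L
      (List.ofFn (algebraMap (MvPolynomial (Fin n) A) L ∘ fun i => MvPolynomial.map (algebraMap A₀ A) (f₀ i))) := by
  classical
  let ι : MvPolynomial (Fin n) A₀ →+* MvPolynomial (Fin n) A := MvPolynomial.map (algebraMap A₀ A)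
  let _ : Algebra A₀ L := ((algebraMap A L).comp (algebraMap A₀ A)).toAlgebra
  have : IsScalarTower A₀ A L := IsScalarTower.of_algebraMap_eq' rfl
  let σ : S →ₐ[A₀] L :=
    { toRingHom := IsLocalization.lift (M := M₀) (g := (algebraMap _ L).comp ι) hM
      commutes' := fun a => by
        show IsLocalization.lift (M := M₀) (g := (algebraMap _ L).comp ι) hM (algebraMap A₀ S a) = _
        rw [IsScalarTower.algebraMap_apply A₀ (MvPolynomial (Fin n) A₀) S, IsLocalization.lift_eq,
          IsScalarTower.algebraMap_apply A₀ A L, IsScalarTower.algebraMap_apply A (MvPolynomial (Fin n) A) L]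
        simp [ι, MvPolynomial.algebraMap_eq] }
  let θT : A ⊗[A₀] S →ₐ[A] L := Algebra.TensorProduct.lift (Algebra.ofId A _) σ fun _ _ => Commute.all _ _
  have hθ : ∀ y, θT ((1 : A) ⊗ₜ[A₀] algebraMap (MvPolynomial (Fin n) A₀) S y) = algebraMap _ _ (ι y) := by
    intro y
    rw [Algebra.TensorProduct.lift_tmul, map_one, one_mul]
    exact IsLocalization.lift_eq _ _
  let ψT : MvPolynomial (Fin n) A →ₐ[A] A ⊗[A₀] S :=
    MvPolynomial.aeval fun i => (1 : A) ⊗ₜ[A₀] algebraMap (MvPolynomial (Fin n) A₀) S (X i)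
  have hcomp : ∀ y, θT (ψT y) = algebraMap _ L y := by
    have : θT.comp ψT = IsScalarTower.toAlgHom A (MvPolynomial (Fin n) A) L := by
      refine MvPolynomial.algHom_ext fun l => ?_
      rw [AlgHom.comp_apply, MvPolynomial.aeval_X, hθ]
      simp [ι]
    exact fun y => AlgHom.congr_fun this y
  have hψι : ∀ y, ψT (ι y) = (1 : A) ⊗ₜ[A₀] algebraMap _ S y := by
    have : ψT.toRingHom.comp ι = (Algebra.TensorProduct.includeRight : S →ₐ[A₀] A ⊗[A₀] S).toRingHom.comp
        (algebraMap (MvPolynomial (Fin n) A₀) S) := by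
      refine MvPolynomial.ringHom_ext (fun a => ?_) (fun l => ?_)
      · simp only [RingHom.comp_apply, ι, MvPolynomial.map_C, AlgHom.toRingHom_eq_coe, RingHom.coe_coe]
        rw [← MvPolynomial.algebraMap_eq, AlgHom.commutes, ← MvPolynomial.algebraMap_eq,
          ← IsScalarTower.algebraMap_apply A₀ (MvPolynomial (Fin n) A₀) S,
          ← IsScalarTower.algebraMap_apply A₀ A (A ⊗[A₀] S), AlgHom.commutes]
      · simp [ι, ψT]
    exact fun y => RingHom.congr_fun this y
  rw [isWeaklyRegular_ofFn_iff]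
  intro i z hz
  obtain ⟨hreg, hflat⟩ := h i
  let g : Fin k → S := algebraMap (MvPolynomial (Fin n) A₀) S ∘ f₀
  rw [Set.image_comp, ← Ideal.map_span] at hz ⊢
  obtain ⟨⟨w, t⟩, hwt⟩ := IsLocalization.surj M z
  refine (Ideal.mul_unit_mem_iff_mem _ (IsLocalization.map_units _ t)).1 ?_
  rw [hwt]
  have h1 : algebraMap _ L (ι (f₀ i) * w) ∈
      (Ideal.span ((fun i => ι (f₀ i)) '' Set.Iio i)).map (algebraMap _ _) := by
    rw [map_mul, ← hwt, ← mul_assoc]
    exact Ideal.mul_mem_right _ _ hz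
  obtain ⟨c, hc, hcw⟩ := (IsLocalization.algebraMap_mem_map_algebraMap_iff M _ _ _).1 h1
  let J := Ideal.span (g '' Set.Iio i)
  have h2 : (1 : A) ⊗ₜ[A₀] g i * ψT (c * w) ∈
      J.map (Algebra.TensorProduct.includeRight : S →ₐ[A₀] A ⊗[A₀] S) := by
    have h := Ideal.mem_map_of_mem ψT hcw
    rw [Ideal.map_span, ← Set.image_comp, mul_left_comm, map_mul ψT, hψι] at h
    rw [Ideal.map_span, ← Set.image_comp]
    refine (Ideal.span_mono ?_) h
    rintro _ ⟨l, hl, rfl⟩
    exact ⟨l, hl, (hψι (f₀ l)).symm⟩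
  have h3 := mem_map_includeRight (J₁ := Ideal.span (g '' Set.Iic i)) hreg
    (by rw [← Set.Iio_insert, Set.image_insert_eq, Ideal.span_insert]; rfl) _ h2
  have h4 : algebraMap _ L (c * w) ∈
      (Ideal.span ((fun i => ι (f₀ i)) '' Set.Iio i)).map (algebraMap _ _) := by
    rw [← hcomp]
    have h := Ideal.mem_map_of_mem θT h3
    rw [Ideal.map_span, Ideal.map_span, ← Set.image_comp, ← Set.image_comp] at h
    rw [Ideal.map_span, ← Set.image_comp]
    refine (Ideal.span_mono ?_) h
    rintro _ ⟨l, hl, rfl⟩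
    exact ⟨l, hl, (hθ (f₀ l)).symm⟩
  rw [map_mul] at h4
  exact (Ideal.unit_mul_mem_iff_mem _ (IsLocalization.map_units _ ⟨c, hc⟩)).1 h4

/-- flatness of a quotient spreads from a point to a neighbourhood -/
lemma exists_flat_quotient_away [IsNoetherianRing A₀] (Q : Ideal (MvPolynomial (Fin n) A₀)) [Q.IsPrime]
    (J : Ideal (MvPolynomial (Fin n) A₀)) (hJ : J ≤ Q)
    [Module.Flat A₀ (Localization.AtPrime Q ⧸ J.map (algebraMap _ (Localization.AtPrime Q)))] :
    ∃ g, g ∉ Q ∧ ∀ G, g ∣ G →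
      Module.Flat A₀ (Localization.Away G ⧸ J.map (algebraMap _ (Localization.Away G))) := by
  let P := MvPolynomial (Fin n) A₀
  let Sq := P ⧸ J
  have : Algebra.FiniteType A₀ Sq := Algebra.FiniteType.trans (S := P) inferInstance inferInstance
  let Qb : Ideal Sq := Q.map (Ideal.Quotient.mk J)
  have hQb : Qb.IsPrime := Ideal.map_isPrime_of_surjective Ideal.Quotient.mk_surjective (by rwa [Ideal.mk_ker])
  have hmem : ∀ x, Ideal.Quotient.mk J x ∈ Qb ↔ x ∈ Q := fun x => by
    rw [← Ideal.mem_comap, Ideal.comap_map_of_surjective _ Ideal.Quotient.mk_surjective,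
      ← RingHom.ker_eq_comap_bot, Ideal.mk_ker, sup_eq_left.2 hJ]
  let e : ∀ (B : Type u) [CommRing B] [Algebra P B] [Algebra A₀ B] [IsScalarTower A₀ P B],
      Sq ⊗[P] B ≃ₗ[A₀] B ⧸ J.map (algebraMap P B) := fun B _ _ _ _ =>
    ((TensorProduct.quotTensorEquivQuotSMul B J).trans (Submodule.quotEquivOfEq _ _
      (Ideal.smul_top_eq_map J)) |>.restrictScalars A₀).trans
        (Submodule.Quotient.restrictScalarsEquiv P _ |>.restrictScalars A₀)
  have : Module.Flat A₀ (Localization.AtPrime Qb) := by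
    let T := Sq ⊗[P] Localization.AtPrime Q
    have hsub : Algebra.algebraMapSubmonoid Sq Q.primeCompl = Qb.primeCompl := by
      ext x
      constructor
      · rintro ⟨y, hy, rfl⟩
        exact fun h => hy ((hmem y).1 h)
      · intro hx
        obtain ⟨y, rfl⟩ := Ideal.Quotient.mk_surjective x
        exact ⟨y, fun h => hx ((hmem y).2 h), rfl⟩
    have hloc : IsLocalization (Algebra.algebraMapSubmonoid Sq Q.primeCompl) T := inferInstance
    rw [hsub] at hloc
    have : Module.Flat A₀ T := Module.Flat.of_linearEquiv (e (Localization.AtPrime Q))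
    exact Module.Flat.of_linearEquiv
      (((IsLocalization.algEquiv Qb.primeCompl (Localization.AtPrime Qb) T).restrictScalars A₀).toLinearEquiv)
  obtain ⟨gb, hgb, hflat⟩ := exists_flat_nhd (R := A₀) Qb
  obtain ⟨g, rfl⟩ := Ideal.Quotient.mk_surjective gb
  refine ⟨g, fun h => hgb ((hmem g).2 h), fun G hG => ?_⟩
  let T := Sq ⊗[P] Localization.Away G
  have hloc : IsLocalization (Algebra.algebraMapSubmonoid Sq (Submonoid.powers G)) T := inferInstance
  have : Module.Flat A₀ T := by
    refine Module.flat_of_isLocalized_maximal T T (fun M => Localization.AtPrime M)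
      (fun M _ => Algebra.linearMap T (Localization.AtPrime M)) fun M _ => ?_
    let P' := M.comap (algebraMap Sq T)
    have : IsLocalization.AtPrime (Localization.AtPrime M) P' :=
      IsLocalization.isLocalization_isLocalization_atPrime_isLocalization
        (Algebra.algebraMapSubmonoid Sq (Submonoid.powers G)) (Localization.AtPrime M) M
    have hgP' : Ideal.Quotient.mk J g ∉ P' := fun hgm => by
      have hGm : Ideal.Quotient.mk J G ∈ P' := by
        obtain ⟨c, rfl⟩ := hG
        rw [map_mul]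
        exact Ideal.mul_mem_right _ _ hgm
      exact (‹M.IsMaximal›).ne_top (Ideal.eq_top_of_isUnit_mem _ hGm
        (IsLocalization.map_units T (⟨_, G, Submonoid.mem_powers G, rfl⟩ :
          Algebra.algebraMapSubmonoid Sq (Submonoid.powers G))))
    have := hflat P' hgP'
    exact Module.Flat.of_linearEquiv
      ((((IsLocalization.algEquiv P'.primeCompl (Localization.AtPrime M) (Localization.AtPrime P'))).restrictScalars
        A₀).toLinearEquiv)
  exact Module.Flat.of_linearEquiv (e (Localization.Away G)).symm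

lemma exists_isWeaklyRegular_away_aux [IsNoetherianRing A₀] (Q : Ideal (MvPolynomial (Fin n) A))
    [Q.IsPrime] {k : ℕ} (f₀ : Fin k → MvPolynomial (Fin n) A₀)
    (hfQ : ∀ i, MvPolynomial.map (algebraMap A₀ A) (f₀ i) ∈ Q)
    (h : RingTheory.Sequence.IsWeaklyRegular (Fib Q)
      (List.ofFn (toFib Q ∘ fun i => MvPolynomial.map (algebraMap A₀ A) (f₀ i)))) :
    ∃ g, g ∉ Q ∧ ∀ G, g ∣ G → RingTheory.Sequence.IsWeaklyRegular (Localization.Away G)
      (List.ofFn (algebraMap (MvPolynomial (Fin n) A) (Localization.Away G) ∘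
        fun i => MvPolynomial.map (algebraMap A₀ A) (f₀ i))) := by
  classical
  let ι : MvPolynomial (Fin n) A₀ →+* MvPolynomial (Fin n) A := MvPolynomial.map (algebraMap A₀ A)
  let Q₀ := Q.comap ι
  have hpt := regular_and_flat_at_point Q f₀ h
  let S₀ := Localization.AtPrime Q₀
  -- colon ideals
  have hcol : ∀ i, ∃ g, g ∉ Q₀ ∧ ∀ z ∈ (Ideal.span (f₀ '' Set.Iio i)).colon {f₀ i},
      g * z ∈ Ideal.span (f₀ '' Set.Iio i) := fun i => by
    refine exists_mul_mem_of_fg Q₀ _ _ fun z hz => ?_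
    rw [Submodule.mem_colon_singleton, smul_eq_mul, mul_comm] at hz
    rw [Ideal.map_span, ← Set.image_comp]
    refine (hpt i).1 _ ?_
    show algebraMap _ S₀ (f₀ i) * algebraMap _ S₀ z ∈ Ideal.span ((algebraMap _ S₀ ∘ f₀) '' Set.Iio i)
    rw [Set.image_comp, ← Ideal.map_span, ← map_mul]
    exact Ideal.mem_map_of_mem _ hz
  choose gc hgc hgcz using hcol
  have hfl : ∀ i, ∃ g, g ∉ Q₀ ∧ ∀ G, g ∣ G → Module.Flat A₀
      (Localization.Away G ⧸ (Ideal.span (f₀ '' Set.Iic i)).map (algebraMap _ (Localization.Away G))) := fun i => by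
    have : Module.Flat A₀ (S₀ ⧸ (Ideal.span (f₀ '' Set.Iic i)).map (algebraMap _ S₀)) := by
      have h2 := (hpt i).2
      rw [Ideal.map_span, ← Set.image_comp]
      exact h2
    refine exists_flat_quotient_away Q₀ _ (Ideal.span_le.2 ?_)
    rintro _ ⟨l, -, rfl⟩
    exact hfQ l
  choose gf hgf hgfz using hfl
  let G₀ := ∏ i, gc i * gf i
  have hG₀ : G₀ ∉ Q₀ := fun h' => by
    obtain ⟨i, -, hi⟩ := Ideal.IsPrime.prod_mem_iff.1 h'
    exact Ideal.IsPrime.mul_notMem inferInstance (hgc i) (hgf i) hi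
  refine ⟨ι G₀, hG₀, fun G hG => ?_⟩
  refine isWeaklyRegular_baseChange (S := Localization.Away G₀) (Submonoid.powers G₀) (Submonoid.powers G) ?_ f₀
    fun i => ⟨fun z hz => ?_, ?_⟩
  · rintro ⟨_, m, rfl⟩
    rw [map_pow, map_pow]
    refine IsUnit.pow m ?_
    obtain ⟨c, rfl⟩ := hG
    exact isUnit_of_mul_isUnit_left (x := algebraMap _ _ (ι G₀)) (y := algebraMap _ _ c)
      (by rw [← map_mul]; exact IsLocalization.Away.algebraMap_isUnit _)
  · rw [Set.image_comp, ← Ideal.map_span] at hz ⊢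
    obtain ⟨⟨w, t⟩, hwt⟩ := IsLocalization.surj (Submonoid.powers G₀) z
    refine (Ideal.mul_unit_mem_iff_mem _ (IsLocalization.map_units _ t)).1 ?_
    rw [hwt]
    have h1 : algebraMap _ (Localization.Away G₀) (f₀ i * w) ∈
        (Ideal.span (f₀ '' Set.Iio i)).map (algebraMap _ (Localization.Away G₀)) := by
      rw [map_mul, ← hwt, ← mul_assoc]
      exact Ideal.mul_mem_right _ _ hz
    rw [IsLocalization.algebraMap_mem_map_algebraMap_iff (Submonoid.powers G₀)] at h1 ⊢
    obtain ⟨m, hm, hmw⟩ := h1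
    refine ⟨G₀ * m, mul_mem (Submonoid.mem_powers _) hm, ?_⟩
    have := hgcz i (m * w) (by
      rw [Submodule.mem_colon_singleton, smul_eq_mul, mul_comm, mul_left_comm]
      exact hmw)
    obtain ⟨c, hc⟩ : gc i ∣ G₀ := (Dvd.intro _ rfl).trans (Finset.dvd_prod_of_mem _ (Finset.mem_univ i))
    rw [show G₀ * m * w = c * (gc i * (m * w)) by rw [hc]; ring]
    exact Ideal.mul_mem_left _ _ this
  · rw [Set.image_comp, ← Ideal.map_span]
    exact hgfz i G₀ ((Dvd.intro_left _ rfl).trans (Finset.dvd_prod_of_mem _ (Finset.mem_univ i)))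

/-- a sequence regular on the fibre at `Q` is regular on a neighbourhood of `Q` -/
theorem exists_isWeaklyRegular_away {A : Type u} [CommRing A] {n : ℕ} (Q : Ideal (MvPolynomial (Fin n) A))
    [Q.IsPrime] {k : ℕ} (f : Fin k → MvPolynomial (Fin n) A) (hfQ : ∀ i, f i ∈ Q)
    (h : RingTheory.Sequence.IsWeaklyRegular (Fib Q) (List.ofFn (toFib Q ∘ f))) :
    ∃ g, g ∉ Q ∧ ∀ G, g ∣ G → RingTheory.Sequence.IsWeaklyRegular (Localization.Away G)
      (List.ofFn (algebraMap (MvPolynomial (Fin n) A) (Localization.Away G) ∘ f)) := by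
  classical
  let s : Finset A := Finset.univ.biUnion fun i => (f i).coeffs
  let A₀ := Algebra.adjoin ℤ (s : Set A)
  have hft : Algebra.FiniteType ℤ A₀ := Subalgebra.fg_iff_finiteType _ |>.1 (Subalgebra.fg_adjoin_finset s)
  have : IsNoetherianRing A₀ := Algebra.FiniteType.isNoetherianRing ℤ A₀
  have hf₀ : ∀ i, ∃ g, MvPolynomial.map (algebraMap A₀ A) g = f i := fun i => by
    refine Set.mem_range.1 (MvPolynomial.mem_range_map_iff_coeffs_subset.2 fun c hc => ?_)
    exact ⟨⟨c, Algebra.subset_adjoin (Finset.mem_biUnion.2 ⟨i, Finset.mem_univ _, hc⟩)⟩, rfl⟩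
  choose f₀ hf₀ using hf₀
  have hfun : (fun i => MvPolynomial.map (algebraMap A₀ A) (f₀ i)) = f := funext hf₀
  rw [← hfun] at h ⊢
  exact exists_isWeaklyRegular_away_aux Q f₀ (fun i => by rw [hf₀]; exact hfQ i) h

end Groth.Agent.LCI19
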