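import Groth.Agent.LCI19.NL
import Groth.Agent.LCI19.ConormalLoc

/-! The naive cotangent complex of a local complete intersection map is perfect. -/

universe u

open CategoryTheory Algebra Limits

attribute [local instance] HasDerivedCategory.standard

namespace Groth.Agent.LCI19

variable {A B : Type u} [CommRing A] [CommRing B] [Algebra A B]

lemma projective_extension_cotangent (P : Extension.{u} A B) (h : LCI.IsKoszulRegularIdeal P.ker) :
    Module.Finite B P.Cotangent ∧ Module.Projective B P.Cotangent := by
  obtain ⟨h₁, h₂⟩ := projective_cotangent h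
  let σ : (P.Ring ⧸ P.ker) ≃+* B := RingHom.quotientKerEquivOfSurjective P.algebraMap_surjective
  have : RingHomInvPair σ.toRingHom σ.symm.toRingHom := RingHomInvPair.of_ringEquiv σ
  have : RingHomInvPair σ.symm.toRingHom σ.toRingHom := RingHomInvPair.of_ringEquiv_symm σ
  let e : P.ker.Cotangent ≃ₛₗ[σ.toRingHom] P.Cotangent :=
    { toFun := Extension.Cotangent.of
      invFun := Extension.Cotangent.val
      map_add' := fun x y => rfl
      map_smul' := fun r x => by
        obtain ⟨r, rfl⟩ := Ideal.Quotient.mk_surjective r
        show Extension.Cotangent.of (r • x) = algebraMap P.Ring B r • Extension.Cotangent.of x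
        rw [algebraMap_smul]
        ext
        rw [Extension.Cotangent.val_of, Extension.Cotangent.val_smul', Extension.Cotangent.val_of] }
  exact ⟨Module.Finite.of_surjective (σ := σ.toRingHom) e.toLinearMap e.surjective, Module.Projective.of_equiv e⟩

/-- a two-term complex of finite projective modules is perfect of amplitude `[-1,0]` -/
lemma perfect_double {X₀ X₁ : ModuleCat.{u} B} (f : X₀ ⟶ X₁) (h₀ : Module.Finite B X₀ ∧ Module.Projective B X₀)
    (h₁ : Module.Finite B X₁ ∧ Module.Projective B X₁) :
    DRing.VanishesOutside (HomologicalComplex.double f nlRel) (-1) 0 ∧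
      DRing.TermwiseFiniteProjective (HomologicalComplex.double f nlRel) := by
  refine ⟨fun i hi => HomologicalComplex.isZero_double_X f nlRel i (by omega) (by omega), fun i => ?_⟩
  by_cases hi₀ : i = -1
  · subst hi₀
    obtain ⟨_, _⟩ := h₀
    let e := (HomologicalComplex.doubleXIso₀ f nlRel).symm.toLinearEquiv
    exact ⟨Module.Finite.equiv e, Module.Projective.of_equiv e⟩
  by_cases hi₁ : i = 0
  · subst hi₁
    obtain ⟨_, _⟩ := h₁
    let e := (HomologicalComplex.doubleXIso₁ f nlRel nlNe).symm.toLinearEquiv
    exact ⟨Module.Finite.equiv e, Module.Projective.of_equiv e⟩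
  have := ModuleCat.subsingleton_of_isZero (HomologicalComplex.isZero_double_X f nlRel i hi₀ hi₁)
  exact ⟨inferInstance, Module.Projective.of_free⟩

lemma nl_perfect_of_isLCI (h : LCI.IsLCI A B) :
    DRing.IsPerfect B (LCI.NL A B) ∧ DRing.HasTorAmplitudeIn B (-1) 0 (LCI.NL A B) := by
  obtain ⟨-, n, f, hf, hker⟩ := h
  let P : Generators A B (Fin n) := Generators.ofAlgHom f hf
  have hval : MvPolynomial.aeval P.val = f := MvPolynomial.algHom_ext fun i => by simp [P, Generators.ofAlgHom]
  have hk : P.toExtension.ker = RingHom.ker f.toRingHom := by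
    ext x
    simp only [Extension.ker, RingHom.mem_ker]
    rw [← hval]
    rfl
  have hC := projective_extension_cotangent P.toExtension (hk ▸ hker)
  have hO : Module.Finite B P.toExtension.CotangentSpace ∧ Module.Projective B P.toExtension.CotangentSpace :=
    ⟨Module.Finite.of_basis P.cotangentSpaceBasis, Module.Projective.of_basis P.cotangentSpaceBasis⟩
  obtain ⟨hv, hp⟩ := perfect_double (ModuleCat.ofHom P.toExtension.cotangentComplex) hC hO
  exact ⟨⟨_, -1, 0, hv, hp, ⟨(nlIso P).symm⟩⟩,
    ⟨_, hv, fun i => by have := (hp i).2; exact inferInstance, ⟨(nlIso P).symm⟩⟩⟩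

end Groth.Agent.LCI19
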