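import Groth.Agent.LCI19.LocalExact
import Mathlib.LinearAlgebra.Matrix.ToLin
import Mathlib.LinearAlgebra.InvariantBasisNumber
import Mathlib.RingTheory.Finiteness.Descent
import Mathlib.RingTheory.Localization.Finiteness
import Mathlib.RingTheory.Flat.FaithfullyFlat.Algebra
import Mathlib.RingTheory.Nakayama

/-! Descent of regularity of ideals along faithfully flat maps. -/

universe u

namespace Groth.Agent.LCI19

open Koszul19

variable {A : Type u} [CommRing A]

lemma fg_of_isKoszulRegularIdeal {I : Ideal A} (h : LCI.IsKoszulRegularIdeal I) : I.FG := by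
  rw [isKoszulRegularIdeal_iff] at h
  let t : Set A := {a | (I.map (algebraMap A (Localization.Away a))).FG}
  refine Ideal.fg_of_localizationSpan t ?_ fun a => a.2
  by_contra hne
  obtain ⟨m, hm, htm⟩ := Ideal.exists_le_maximal _ hne
  have hIt : ∀ a ∈ I, a ∈ t := by
    intro a ha
    show Ideal.FG _
    rw [Ideal.eq_top_of_isUnit_mem _ (Ideal.mem_map_of_mem _ ha)
      (IsLocalization.Away.algebraMap_isUnit a)]
    exact ⟨{1}, by simp⟩
  obtain ⟨g, hg, l, -, -, hI⟩ := h ⟨m, hm.isPrime⟩ fun a ha => htm (Ideal.subset_span (hIt a ha))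
  refine hg (htm (Ideal.subset_span ?_))
  show Ideal.FG _
  rw [hI]
  exact Submodule.fg_span (List.finite_toSet _)

variable {r : ℕ}

/-- either `f` is regular near a prime of the target, or some coefficient of a relation is invertible -/
lemma local_dichotomy (B : Type u) [CommRing B] [Algebra A B] [Module.Flat A B] (f : Fin r → A)
    (hB : LCI.IsKoszulRegularIdeal ((Ideal.span (Set.range f)).map (algebraMap A B)))
    (q : PrimeSpectrum B)
    (hq : (coeffIdeal f ⊔ Ideal.span (Set.range f)).map (algebraMap A B) ≤ q.asIdeal) :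
    ∃ h : B, h ∉ q.asIdeal ∧
      KR ((List.ofFn fun i => algebraMap A B (f i)).map (algebraMap B (Localization.Away h))) := by
  classical
  rw [isKoszulRegularIdeal_iff] at hB
  obtain ⟨h, hh, l, hl, hkr, hI⟩ := hB q ((Ideal.map_mono le_sup_right).trans hq)
  refine ⟨h, hh, ?_⟩
  have heq : Ideal.ofList ((List.ofFn fun i => algebraMap A B (f i)).map
      (algebraMap B (Localization.Away h))) = Ideal.ofList (l.map (algebraMap B (Localization.Away h))) := by
    rw [← hI, ← map_ofList, ofList_ofFn]
    congr 1
    rw [Ideal.map_span, ← Set.range_comp]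
    rfl
  refine kR_of_length_le hkr heq ?_
  simp only [List.length_map, List.length_ofFn]
  by_contra hlt
  push Not at hlt
  let C := Localization.Away h
  let fC : Fin r → C := fun i => algebraMap B C (algebraMap A B (f i))
  let gC : Fin l.length → C := fun i => algebraMap B C (l[i])
  have hspanf : Ideal.ofList (l.map (algebraMap B C)) = Ideal.span (Set.range fC) := by
    rw [← heq, ← ofList_ofFn, List.map_ofFn]
    rfl
  have hspang : Ideal.ofList (l.map (algebraMap B C)) = Ideal.span (Set.range gC) := by
    rw [← ofList_ofFn]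
    congr 1
    conv_lhs => rw [← List.ofFn_get l, List.map_ofFn]
    rfl
  have h1 : ∀ i, ∃ m : Fin l.length → C, ∑ j, m j * gC j = fC i := fun i => by
    rw [← Ideal.mem_span_range_iff_exists_fun, ← hspang, hspanf]
    exact Ideal.subset_span ⟨i, rfl⟩
  have h2 : ∀ j, ∃ n : Fin r → C, ∑ i, n i * fC i = gC j := fun j => by
    rw [← Ideal.mem_span_range_iff_exists_fun, ← hspanf, hspang]
    exact Ideal.subset_span ⟨j, rfl⟩
  choose M hM using h1
  choose N hN using h2
  let qC := q.asIdeal.map (algebraMap B C)
  have hqC : qC.IsPrime := IsLocalization.isPrime_of_isPrime_disjoint (Submonoid.powers h) C _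
    q.isPrime (by
      rw [Set.disjoint_left]
      rintro _ ⟨n, rfl⟩ hn
      exact hh (q.isPrime.mem_of_pow_mem _ hn))
  -- the relation given by the `i`th row
  have hrel : ∀ i k, (∑ j, M i j * N j k) - (if i = k then 1 else 0) ∈ qC := by
    intro i k
    let b : Fin r → C := fun k => (∑ j, M i j * N j k) - (if i = k then 1 else 0)
    have hb : ∑ k, b k * fC k = 0 := by
      simp only [b, sub_mul, Finset.sum_sub_distrib, ite_mul, one_mul, zero_mul, Finset.sum_ite_eq,
        Finset.mem_univ, if_true]
      rw [sub_eq_zero, ← hM i]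
      rw [Finset.sum_congr rfl fun (k : Fin r) (_ : k ∈ Finset.univ) => Finset.sum_mul Finset.univ (fun j => M i j * N j k) (fC k)]
      rw [Finset.sum_comm]
      refine Finset.sum_congr rfl fun j _ => ?_
      rw [← hN j, Finset.mul_sum]
      exact Finset.sum_congr rfl fun k _ => mul_assoc _ _ _
    have := Ideal.map_mono (f := algebraMap A C) (le_sup_left (b := Ideal.span (Set.range f)))
      (coeff_mem_of_flat C f b (by
        rw [← hb]
        refine Finset.sum_congr rfl fun k _ => ?_
        rw [IsScalarTower.algebraMap_apply A B C]) k)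
    rw [IsScalarTower.algebraMap_eq A B C, ← Ideal.map_map] at this
    exact Ideal.map_mono hq this
  let F := C ⧸ qC
  have : Nontrivial F := Ideal.Quotient.nontrivial_iff.2 hqC.ne_top
  let ψ : Matrix (Fin r) (Fin l.length) F := fun i j => Ideal.Quotient.mk qC (M i j)
  let χ : Matrix (Fin l.length) (Fin r) F := fun j i => Ideal.Quotient.mk qC (N j i)
  have hone : ψ * χ = 1 := by
    ext i k
    rw [Matrix.mul_apply, Matrix.one_apply]
    have := Ideal.Quotient.eq.2 (hrel i k)
    rw [map_sum] at this
    simpa [ψ, χ, apply_ite (Ideal.Quotient.mk qC)] using this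
  have hinj : Function.Injective χ.mulVecLin := by
    intro a b hab
    have := congrArg ψ.mulVecLin hab
    simp only [Matrix.mulVecLin_apply] at this
    rwa [Matrix.mulVec_mulVec, Matrix.mulVec_mulVec, hone, Matrix.one_mulVec, Matrix.one_mulVec] at this
  exact absurd (le_of_fin_injective F χ.mulVecLin hinj) (by omega)

/-- the descent theorem with chosen minimal generators -/
lemma exists_kR_of_faithfullyFlat (B : Type u) [CommRing B] [Algebra A B]
    [Module.FaithfullyFlat A B] (f : Fin r → A)
    (hB : LCI.IsKoszulRegularIdeal ((Ideal.span (Set.range f)).map (algebraMap A B)))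
    (p : PrimeSpectrum A) (hfp : Ideal.span (Set.range f) ≤ p.asIdeal)
    (hmin : coeffIdeal f ≤ p.asIdeal) :
    ∃ g : A, g ∉ p.asIdeal ∧ KR ((List.ofFn f).map (algebraMap A (Localization.Away g))) := by
  classical
  let c := coeffIdeal f ⊔ Ideal.span (Set.range f)
  let J := c.map (algebraMap A B)
  let IB := (Ideal.span (Set.range f)).map (algebraMap A B)
  let lB := List.ofFn fun i => algebraMap A B (f i)
  -- near each point of `V(c)` the sequence is regular and `c` is generated by `f`
  have hloc : ∀ q : PrimeSpectrum B, J ≤ q.asIdeal → ∃ h : B, h ∉ q.asIdeal ∧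
      KR (lB.map (algebraMap B (Localization.Away h))) ∧
      J.map (algebraMap B (Localization.Away h)) = IB.map (algebraMap B (Localization.Away h)) := by
    intro q hq
    obtain ⟨h, hh, hkr⟩ := local_dichotomy B f hB q hq
    refine ⟨h, hh, hkr, le_antisymm ?_ (Ideal.map_mono (Ideal.map_mono le_sup_right))⟩
    rw [Ideal.map_map, Ideal.map_map, Ideal.map_le_iff_le_comap, sup_le_iff]
    refine ⟨Ideal.span_le.2 ?_, ?_⟩
    · rintro a ⟨v, hv, k, rfl⟩
      rw [SetLike.mem_coe, Ideal.mem_comap]
      let φ := (algebraMap B (Localization.Away h)).comp (algebraMap A B)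
      have hkr' : KR (List.ofFn fun i => φ (f i)) := by
        rw [List.map_ofFn] at hkr
        exact hkr
      have := coeff_mem_of_rel (fun i => φ (f i)) hkr' (fun i => φ (v i))
        (by simp only [← map_mul, ← map_sum, hv, map_zero]) k
      rwa [Ideal.map_span, ← Set.range_comp]
    · rw [← Ideal.map_le_iff_le_comap]
  have hJfg : J.FG := by
    let t : Set B := {b | (J.map (algebraMap B (Localization.Away b))).FG}
    refine Ideal.fg_of_localizationSpan t ?_ fun a => a.2
    by_contra hne
    obtain ⟨m, hm, htm⟩ := Ideal.exists_le_maximal _ hne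
    have hJt : J ≤ m := fun a ha => by
      refine htm (Ideal.subset_span ?_)
      show Ideal.FG _
      rw [Ideal.eq_top_of_isUnit_mem _ (Ideal.mem_map_of_mem _ ha)
        (IsLocalization.Away.algebraMap_isUnit a)]
      exact ⟨{1}, by simp⟩
    obtain ⟨h, hh, -, hI⟩ := hloc ⟨m, hm.isPrime⟩ hJt
    refine hh (htm (Ideal.subset_span ?_))
    show Ideal.FG _
    rw [hI]
    exact ((show (Ideal.span (Set.range f)).FG from Submodule.fg_span (Set.finite_range f)).map _).map _
  have hidem : J ≤ IB ⊔ J * J := by
    intro x hx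
    by_contra hxn
    have hne : Submodule.colon (IB ⊔ J * J) ({x} : Set B) ≠ ⊤ := by
      intro htop
      apply hxn
      have := htop ▸ Submodule.mem_top (R := B) (x := (1 : B))
      simpa [Submodule.mem_colon_singleton] using this
    obtain ⟨m, hm, hle⟩ := Ideal.exists_le_maximal _ hne
    have hJm : J ≤ m := fun a ha => hle (by
      rw [Submodule.mem_colon_singleton, smul_eq_mul]
      exact Ideal.mem_sup_right (Ideal.mul_mem_mul ha hx))
    obtain ⟨h, hh, -, hI⟩ := hloc ⟨m, hm.isPrime⟩ hJm
    have h1 := hI ▸ Ideal.mem_map_of_mem (algebraMap B (Localization.Away h)) hx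
    obtain ⟨⟨⟨a, ha⟩, ⟨s, n, rfl⟩⟩, e⟩ :=
      (IsLocalization.mem_map_algebraMap_iff (Submonoid.powers h) _).1 h1
    rw [← map_mul] at e
    obtain ⟨⟨t, k, rfl⟩, ht⟩ := IsLocalization.exists_of_eq (M := Submonoid.powers h) e
    have : h ^ k * h ^ n ∈ Submodule.colon (IB ⊔ J * J) ({x} : Set B) := by
      rw [Submodule.mem_colon_singleton, smul_eq_mul]
      refine Ideal.mem_sup_left ?_
      simp only at ht
      rw [mul_assoc, mul_comm (h ^ n), ht]
      exact Ideal.mul_mem_left _ _ ha
    rcases hm.isPrime.mem_or_mem (hle this) with h3 | h3 <;>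
      exact hh (hm.isPrime.mem_of_pow_mem _ h3)
  have hcfg : c.FG := Ideal.FG.of_FG_map_of_faithfullyFlat hJfg
  have hidemA : c ≤ Ideal.span (Set.range f) ⊔ c * c := by
    intro x hx
    rw [← Ideal.comap_map_eq_self_of_faithfullyFlat (B := B) (Ideal.span (Set.range f) ⊔ c * c),
      Ideal.mem_comap, Ideal.map_sup, Ideal.map_mul]
    exact hidem (Ideal.mem_map_of_mem _ hx)
  obtain ⟨g, hg1, hg⟩ := Submodule.exists_sub_one_mem_and_smul_le_of_fg_of_le_sup
    (I := c) (N := Ideal.span (Set.range f)) (N' := c) (P := c) hcfg le_rfl hidemA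
  have hgp : g ∉ p.asIdeal := by
    intro hgp
    apply p.isPrime.ne_top
    rw [Ideal.eq_top_iff_one]
    have := p.asIdeal.sub_mem hgp ((sup_le hmin hfp) hg1)
    simpa using this
  refine ⟨g, hgp, ?_⟩
  intro i hi
  refine ex_away g (Localization.Away g) (bcKoszul (List.ofFn f)) (i - 1) i (i + 1) (by omega) rfl
    fun z hz => ?_
  have hradical : algebraMap A B g ∈
      ((bdyColon (Koszul.koszul A (List.ofFn f)) (i - 1) i z).map (algebraMap A B)).radical := by
    rw [Ideal.radical_eq_sInf, Ideal.mem_sInf]
    rintro m ⟨hle, hm⟩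
    by_contra hgm
    let d := bcKoszul (B := B) (List.ofFn f)
    rw [← bdyColon_map B d (i - 1) i (by omega)] at hle
    have hkr : ∃ h : B, h ∉ m ∧
        KR (((List.ofFn f).map (algebraMap A B)).map (algebraMap B (Localization.Away h))) := by
      by_cases hIm : IB ≤ m
      · have hJm : J ≤ m := by
          intro x hx
          refine (hm.mem_or_mem (?_ : algebraMap A B g * x ∈ m)).resolve_left hgm
          apply hIm
          have h2 : (Ideal.span {algebraMap A B g}) * J ≤ IB := by
            rw [← Set.image_singleton, ← Ideal.map_span, ← Ideal.map_mul]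
            refine Ideal.map_mono (Ideal.mul_le.2 fun a ha b hb => ?_)
            obtain ⟨w, rfl⟩ := Ideal.mem_span_singleton'.1 ha
            rw [mul_assoc]
            exact Ideal.mul_mem_left _ _ (hg (Submodule.smul_mem_pointwise_smul b g c hb))
          exact h2 (Ideal.mul_mem_mul (Ideal.mem_span_singleton_self _) hx)
        obtain ⟨h, hh, hkr, -⟩ := hloc ⟨m, hm⟩ hJm
        exact ⟨h, hh, by rwa [List.map_ofFn]⟩
      · obtain ⟨h, hhI, hh⟩ := SetLike.not_le_iff_exists.1 hIm
        refine ⟨h, hh, fun k _ => ex_of_mem_unit ?_ k⟩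
        rw [← map_ofList, ← map_ofList, ofList_ofFn]
        exact Ideal.eq_top_of_isUnit_mem _ (Ideal.mem_map_of_mem _ hhI)
          (IsLocalization.Away.algebraMap_isUnit h)
    obtain ⟨h, hh, hkr⟩ := hkr
    obtain ⟨n, hn⟩ := exists_pow_mem_bdyColon B h (Localization.Away h) (bcKoszul _) (i - 1) i (i + 1)
      (by omega) rfl (hkr i hi) _ (show dd _ i (i + 1) (d.e i (TensorProduct.tmul A (1 : B) z)) = 0 by
        rw [← d.comm i (i + 1) rfl, LinearMap.baseChange_tmul, hz, TensorProduct.tmul_zero, map_zero])
    exact hh (hm.mem_of_pow_mem _ (hle hn))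
  obtain ⟨n, hn⟩ := hradical
  refine ⟨n, ?_⟩
  rw [← map_pow, ← Ideal.mem_comap, Ideal.comap_map_eq_self_of_faithfullyFlat] at hn
  exact hn

end Groth.Agent.LCI19
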