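import Groth.Prelude.Def_LCI2
import Mathlib.Algebra.Homology.DerivedCategory.Linear
import Mathlib.Algebra.Homology.DerivedCategory.Ext.EnoughProjectives
import Mathlib.Algebra.Category.ModuleCat.Projective

/-! The naive cotangent complex of a presentation. -/

universe u

open CategoryTheory Limits Algebra

attribute [local instance] HasDerivedCategory.standard

namespace Groth.Agent.LCI19

variable {A B : Type u} [CommRing A] [CommRing B] [Algebra A B]

abbrev nlRel : (ComplexShape.up ℤ).Rel (-1) 0 := show ((-1 : ℤ) + 1 = 0) by omega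

/-- the two-term complex of an extension -/
noncomputable abbrev cxNL (P : Extension.{u} A B) : CochainComplex (ModuleCat.{u} B) ℤ :=
  HomologicalComplex.double (ModuleCat.ofHom P.cotangentComplex) nlRel

lemma nlNe : (-1 : ℤ) ≠ 0 := by omega

/-- chain maps between two-term complexes -/
noncomputable def doubleMap {X₀ X₁ Y₀ Y₁ : ModuleCat.{u} B} {f : X₀ ⟶ X₁} {g : Y₀ ⟶ Y₁}
    (a : X₀ ⟶ Y₀) (b : X₁ ⟶ Y₁) (w : a ≫ g = f ≫ b) :
    HomologicalComplex.double f nlRel ⟶ HomologicalComplex.double g nlRel :=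
  HomologicalComplex.mkHomFromDouble nlRel nlNe (a ≫ (HomologicalComplex.doubleXIso₀ g nlRel).inv)
    (b ≫ (HomologicalComplex.doubleXIso₁ g nlRel nlNe).inv)
    (by rw [HomologicalComplex.double_d g nlRel nlNe, Category.assoc, Iso.inv_hom_id_assoc, reassoc_of% w])
    (fun k _ => by rw [HomologicalComplex.double_d_eq_zero₀ g nlRel 0 k (by omega), comp_zero])

variable {X₀ X₁ Y₀ Y₁ Z₀ Z₁ : ModuleCat.{u} B} {f : X₀ ⟶ X₁} {g : Y₀ ⟶ Y₁} {h : Z₀ ⟶ Z₁}

@[simp] lemma doubleMap_f₀ (a : X₀ ⟶ Y₀) (b : X₁ ⟶ Y₁) (w : a ≫ g = f ≫ b) :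
    (doubleMap a b w).f (-1) = (HomologicalComplex.doubleXIso₀ f nlRel).hom ≫ a ≫
      (HomologicalComplex.doubleXIso₀ g nlRel).inv :=
  HomologicalComplex.mkHomFromDouble_f₀ _ _ _ _ _ _

@[simp] lemma doubleMap_f₁ (a : X₀ ⟶ Y₀) (b : X₁ ⟶ Y₁) (w : a ≫ g = f ≫ b) :
    (doubleMap a b w).f 0 = (HomologicalComplex.doubleXIso₁ f nlRel nlNe).hom ≫ b ≫
      (HomologicalComplex.doubleXIso₁ g nlRel nlNe).inv :=
  HomologicalComplex.mkHomFromDouble_f₁ _ _ _ _ _ _

lemma doubleMap_comp (a : X₀ ⟶ Y₀) (b : X₁ ⟶ Y₁) (w : a ≫ g = f ≫ b)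
    (a' : Y₀ ⟶ Z₀) (b' : Y₁ ⟶ Z₁) (w' : a' ≫ h = g ≫ b') :
    doubleMap a b w ≫ doubleMap a' b' w' =
      doubleMap (a ≫ a') (b ≫ b') (by rw [Category.assoc, w', reassoc_of% w]) := by
  apply HomologicalComplex.from_double_hom_ext <;> simp

lemma doubleMap_id : doubleMap (f := f) (g := f) (𝟙 X₀) (𝟙 X₁) (by simp) = 𝟙 _ := by
  apply HomologicalComplex.from_double_hom_ext <;> simp

/-- homotopic maps between two-term complexes -/
noncomputable def doubleHomotopy (φ ψ : HomologicalComplex.double f nlRel ⟶ HomologicalComplex.double g nlRel)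
    (s : X₁ ⟶ Y₀)
    (h₀ : φ.f (-1) = ψ.f (-1) + (HomologicalComplex.doubleXIso₀ f nlRel).hom ≫ f ≫ s ≫
      (HomologicalComplex.doubleXIso₀ g nlRel).inv)
    (h₁ : φ.f 0 = ψ.f 0 + (HomologicalComplex.doubleXIso₁ f nlRel nlNe).hom ≫ s ≫ g ≫
      (HomologicalComplex.doubleXIso₁ g nlRel nlNe).inv) :
    Homotopy φ ψ where
  hom i j := if hij : i = 0 ∧ j = -1 then
      eqToHom (by rw [hij.1]) ≫ (HomologicalComplex.doubleXIso₁ f nlRel nlNe).hom ≫ s ≫
        (HomologicalComplex.doubleXIso₀ g nlRel).inv ≫ eqToHom (by rw [hij.2])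
    else 0
  zero i j hij := dif_neg fun h => hij (by rw [h.1, h.2]; exact nlRel)
  comm i := by
    by_cases hi₀ : i = -1
    · subst hi₀
      rw [dNext_eq _ nlRel, prevD_eq _ (show (ComplexShape.up ℤ).Rel (-2) (-1) by simp),
        dif_pos ⟨rfl, rfl⟩, dif_neg (by omega), zero_comp, add_zero, HomologicalComplex.double_d f nlRel nlNe, h₀]
      simp only [eqToHom_refl, Category.id_comp, Category.comp_id, Category.assoc, Iso.inv_hom_id_assoc]
      rw [add_comm]
    by_cases hi₁ : i = 0
    · subst hi₁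
      rw [dNext_eq _ (show (ComplexShape.up ℤ).Rel 0 1 by simp), prevD_eq _ nlRel,
        dif_neg (by omega), comp_zero, zero_add, dif_pos ⟨rfl, rfl⟩,
        HomologicalComplex.double_d g nlRel nlNe, h₁]
      simp only [eqToHom_refl, Category.id_comp, Category.comp_id, Category.assoc, Iso.inv_hom_id_assoc]
      rw [add_comm]
    exact (HomologicalComplex.isZero_double_X f nlRel i hi₀ hi₁).eq_of_src _ _

/-- the chain map of a map of extensions -/
noncomputable def cxMap {P P' : Extension.{u} A B} (φ : P.Hom P') : cxNL P ⟶ cxNL P' :=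
  doubleMap (ModuleCat.ofHom (Extension.Cotangent.map φ)) (ModuleCat.ofHom (Extension.CotangentSpace.map φ))
    (by ext x; exact (Extension.CotangentSpace.map_cotangentComplex φ x).symm)

/-- any two maps of extensions give homotopic chain maps -/
noncomputable def cxMapHomotopy {P P' : Extension.{u} A B} (φ ψ : P.Hom P') : Homotopy (cxMap φ) (cxMap ψ) :=
  doubleHomotopy _ _ (ModuleCat.ofHom (φ.sub ψ))
    (by
      have : ModuleCat.ofHom (Extension.Cotangent.map φ) = ModuleCat.ofHom (Extension.Cotangent.map ψ) +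
          ModuleCat.ofHom P.cotangentComplex ≫ ModuleCat.ofHom (φ.sub ψ) := by
        ext x
        have := LinearMap.congr_fun (Extension.Cotangent.map_sub_map φ ψ) x
        exact sub_eq_iff_eq_add'.1 this
      simp [cxMap, this])
    (by
      have : ModuleCat.ofHom (Extension.CotangentSpace.map φ) = ModuleCat.ofHom (Extension.CotangentSpace.map ψ) +
          ModuleCat.ofHom (φ.sub ψ) ≫ ModuleCat.ofHom P'.cotangentComplex := by
        apply ModuleCat.hom_ext
        exact sub_eq_iff_eq_add'.1 (Extension.CotangentSpace.map_sub_map φ ψ)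
      simp [cxMap, this])

lemma cxMap_id (P : Extension.{u} A B) : cxMap (Extension.Hom.id P) = 𝟙 _ := by
  rw [← doubleMap_id]
  simp [cxMap, Extension.Cotangent.map_id, Extension.CotangentSpace.map_id]

lemma cxMap_comp {P P' P'' : Extension.{u} A B} (φ : P.Hom P') (ψ : P'.Hom P'') :
    cxMap (ψ.comp φ) = cxMap φ ≫ cxMap ψ := by
  simp only [cxMap, doubleMap_comp]
  congr 1
  · ext x
    simp [Extension.Cotangent.map_comp]
  · ext x
    simp [Extension.CotangentSpace.map_comp]

lemma Q_cxMap_eq {P P' : Extension.{u} A B} (φ ψ : P.Hom P') :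
    DerivedCategory.Q.map (cxMap φ) = DerivedCategory.Q.map (cxMap ψ) :=
  DerivedCategory.Q_map_eq_of_homotopy _ (cxMapHomotopy φ ψ)

/-- the object of the derived category does not depend on the extension -/
noncomputable def cxNLIso {P P' : Extension.{u} A B} (φ : P.Hom P') (ψ : P'.Hom P) :
    DerivedCategory.Q.obj (cxNL P) ≅ DerivedCategory.Q.obj (cxNL P') where
  hom := DerivedCategory.Q.map (cxMap φ)
  inv := DerivedCategory.Q.map (cxMap ψ)
  hom_inv_id := by rw [← Functor.map_comp, ← cxMap_comp, Q_cxMap_eq _ (Extension.Hom.id P), cxMap_id, CategoryTheory.Functor.map_id]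
  inv_hom_id := by rw [← Functor.map_comp, ← cxMap_comp, Q_cxMap_eq _ (Extension.Hom.id P'), cxMap_id, CategoryTheory.Functor.map_id]

/-- the naive cotangent complex computed by any family of generators -/
noncomputable def nlIso {ι : Type} (P : Generators A B ι) :
    LCI.NL A B ≅ DerivedCategory.Q.obj (cxNL P.toExtension) :=
  cxNLIso (Generators.defaultHom (Generators.self A B) P).toExtensionHom
    (Generators.defaultHom P (Generators.self A B)).toExtensionHom

/-- a morphism in the derived category from a projective module in degree zero to a shifted module vanishes -/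
lemma eq_zero_from_projective (F : ModuleCat.{u} B) [Projective F] (N : ModuleCat.{u} B)
    (φ : (DerivedCategory.singleFunctor (ModuleCat.{u} B) 0).obj F ⟶
      ((DerivedCategory.singleFunctor (ModuleCat.{u} B) 0).obj N)⟦(1 : ℤ)⟧) : φ = 0 := by
  rw [← cancel_mono (((DerivedCategory.singleFunctors (ModuleCat.{u} B)).shiftIso 1 (-1) 0 (by omega)).hom.app N),
    zero_comp]
  exact DerivedCategory.from_singleFunctor_obj_eq_zero_of_projective
    (L := (CochainComplex.singleFunctor (ModuleCat.{u} B) (-1)).obj N) _ (-1) (by omega)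

/-- scalars kill `Ext¹` of a two-term complex when they are null homotopic in the lower degree -/
lemma smul_ext_one_eq_zero {M F : ModuleCat.{u} B} [Projective F] (d : M ⟶ F) (g : B) (s : F ⟶ M)
    (hs : d ≫ s = g • 𝟙 M) (N : ModuleCat.{u} B)
    (φ : DerivedCategory.Q.obj (HomologicalComplex.double d nlRel) ⟶
      ((DerivedCategory.singleFunctor (ModuleCat.{u} B) 0).obj N)⟦(1 : ℤ)⟧) : g • φ = 0 := by
  let K := HomologicalComplex.double d nlRel
  let F₀ := (HomologicalComplex.single (ModuleCat.{u} B) (ComplexShape.up ℤ) 0).obj F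
  let b : F ⟶ F := g • 𝟙 F - s ≫ d
  have hb : d ≫ b = 0 := by
    simp only [b, Preadditive.comp_sub, reassoc_of% hs, Linear.comp_smul, Category.comp_id, Linear.smul_comp,
      Category.id_comp, sub_self]
  let p : K ⟶ F₀ := HomologicalComplex.mkHomFromDouble nlRel nlNe 0
    (b ≫ (HomologicalComplex.singleObjXSelf (ComplexShape.up ℤ) 0 F).inv) (by rw [zero_comp, reassoc_of% hb, zero_comp])
    (fun k _ => by simp [F₀])
  let ι : F₀ ⟶ K := HomologicalComplex.mkHomFromSingle (HomologicalComplex.doubleXIso₁ d nlRel nlNe).inv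
    (fun k _ => by rw [HomologicalComplex.double_d_eq_zero₀ d nlRel 0 k (by omega), comp_zero])
  have H : Homotopy (g • 𝟙 K) (p ≫ ι) :=
    doubleHomotopy _ _ s
      (by simp [p, reassoc_of% hs, K])
      (by
        simp [p, ι, b, K, F₀, HomologicalComplex.mkHomFromSingle_f])
  have h2 : g • φ = DerivedCategory.Q.map (p ≫ ι) ≫ φ := by
    rw [← DerivedCategory.Q_map_eq_of_homotopy _ H, Functor.map_smul, CategoryTheory.Functor.map_id, Linear.smul_comp,
      Category.id_comp]
  rw [h2, Functor.map_comp, Category.assoc]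
  exact (congrArg (DerivedCategory.Q.map p ≫ ·) (eq_zero_from_projective F N (DerivedCategory.Q.map ι ≫ φ))).trans
    comp_zero

/-- scalars that are null homotopic in both degrees vanish -/
lemma smul_id_eq_zero {M F : ModuleCat.{u} B} (d : M ⟶ F) (g : B) (s : F ⟶ M)
    (hs : d ≫ s = g • 𝟙 M) (hs' : s ≫ d = g • 𝟙 F) :
    g • 𝟙 (DerivedCategory.Q.obj (HomologicalComplex.double d nlRel)) = 0 := by
  have H : Homotopy (g • 𝟙 (HomologicalComplex.double d nlRel)) 0 :=
    doubleHomotopy _ _ s (by simp [reassoc_of% hs]) (by simp [reassoc_of% hs'])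
  rw [← CategoryTheory.Functor.map_id, ← Functor.map_smul, DerivedCategory.Q_map_eq_of_homotopy _ H, Functor.map_zero]

end Groth.Agent.LCI19
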