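import Groth.Agent.DR39.Balance
import Groth.Agent.DR39.BC
import Mathlib.Algebra.Homology.DerivedCategory.FullyFaithful
import Mathlib.Algebra.Polynomial.Eval.Coeff
import Mathlib.Algebra.Polynomial.Basis
import Mathlib.Algebra.MvPolynomial.Equiv
import Mathlib.LinearAlgebra.TensorProduct.Basis
import Mathlib.RingTheory.Polynomial.Basic

/-! Tor dimension over polynomial rings; flat modules from tor amplitude zero. -/

universe u

open CategoryTheory CategoryTheory.Limits CategoryTheory.Pretriangulated
open scoped TensorProduct

attribute [local instance] HasDerivedCategory.standard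

namespace Groth.Agent.LCI19

open DR39

variable {A : Type u} [CommRing A]

lemma ta_inD_right {M : Type u} [AddCommGroup M] [Module A M] {a b b' : ℤ} (hb : 0 ≤ b) (hb' : 0 ≤ b')
    (h : TA a b (Dual.inD A M)) : TA a b' (Dual.inD A M) :=
  (ta_inD_iff M a b' hb').2 ((ta_inD_iff M a b hb).1 h)

/-- tor amplitude zero means flat -/
lemma flat_of_ta {M : Type u} [AddCommGroup M] [Module A M] {b : ℤ} (hb : 0 ≤ b)
    (h : TA 0 b (Dual.inD A M)) : Module.Flat A M := by
  obtain ⟨E, hv, hE, ⟨e⟩⟩ := ta_inD_right (A := A) (M := M) hb le_rfl h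
  have : E.IsStrictlyLE 0 := by rw [CochainComplex.isStrictlyLE_iff]; exact fun i hi => hv i (Or.inr hi)
  have : E.IsStrictlyGE 0 := by rw [CochainComplex.isStrictlyGE_iff]; exact fun i hi => hv i (Or.inl hi)
  obtain ⟨Y, ⟨e'⟩⟩ := CochainComplex.exists_iso_single E 0
  let e'' : (DerivedCategory.singleFunctor (ModuleCat.{u} A) 0).obj Y ≅
      (DerivedCategory.singleFunctor (ModuleCat.{u} A) 0).obj (ModuleCat.of A M) :=
    ((QA A).mapIso e').symm ≪≫ e
  let i₀ : E.X 0 ≅ ModuleCat.of A M :=
    (HomologicalComplex.eval _ _ 0).mapIso e' ≪≫ (HomologicalComplex.singleObjXSelf (ComplexShape.up ℤ) 0 Y) ≪≫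
      (DerivedCategory.singleFunctor (ModuleCat.{u} A) 0).preimageIso e''
  have := hE 0
  exact Module.Flat.of_linearEquiv i₀.toLinearEquiv.symm

/-- tor amplitude of the kernel of a surjection from a flat module -/
lemma ta_ker {F M : Type u} [AddCommGroup F] [Module A F] [Module.Flat A F] [AddCommGroup M] [Module A M]
    (g : F →ₗ[A] M) (hg : Function.Surjective g) (d : ℕ) (h : TA (-((d : ℤ) + 1)) 0 (Dual.inD A M)) :
    TA (-(d : ℤ)) 0 (Dual.inD A (LinearMap.ker g)) := by
  obtain ⟨T, hT, e1, e2, e3⟩ := exists_triangle_of_surjective g hg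
  rw [← e3] at h
  have := TA.obj₁ hT (a := -((d : ℤ) + 1)) (b := 0) (by
    rw [e2]
    exact (ta_inD_of_flat (A := A) F).mono (by omega) (by omega)) h
  rw [e1] at this
  exact ta_inD_right (by omega) le_rfl (this.mono (by omega) le_rfl)

/-- a finite module of finite tor dimension over a Noetherian ring has finite projective dimension -/
lemma hasProjectiveDimensionLT_of_ta [IsNoetherianRing A] (d : ℕ) :
    ∀ (M : Type u) [AddCommGroup M] [Module A M] [Module.Finite A M],
      TA (-(d : ℤ)) 0 (Dual.inD A M) → HasProjectiveDimensionLT (ModuleCat.of A M) (d + 1) := by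
  induction d with
  | zero =>
    intro M _ _ _ h
    have := flat_of_ta le_rfl (by simpa using h)
    have := Module.finitePresentation_of_finite A M
    have := Module.Flat.projective_of_finitePresentation (R := A) (M := M)
    exact projective_iff_hasProjectiveDimensionLT_one.1 ((IsProjective.iff_projective (R := A) M).1 this)
  | succ d ih =>
    intro M _ _ _ h
    obtain ⟨n, g, hg⟩ := Module.Finite.exists_fin' A M
    have hk := ih (LinearMap.ker g) (ta_ker g hg d (by push_cast at h; exact h))
    let S : ShortComplex (ModuleCat.{u} A) :=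
      ShortComplex.mk (ModuleCat.ofHom (LinearMap.ker g).subtype) (ModuleCat.ofHom g)
        (ModuleCat.hom_ext (LinearMap.ext fun x => x.2))
    have hS : S.ShortExact :=
      { exact := by rw [ShortComplex.moduleCat_exact_iff]; exact fun x hx => ⟨⟨x, hx⟩, rfl⟩
        mono_f := (ModuleCat.mono_iff_injective _).2 Subtype.val_injective
        epi_g := (ModuleCat.epi_iff_surjective _).2 hg }
    have : Projective S.X₂ := (IsProjective.iff_projective (R := A) (Fin n → A)).1 inferInstance
    exact hS.hasProjectiveDimensionLT_X₃ (d + 1) hk (hasProjectiveDimensionLT_of_ge _ 1 (d + 1 + 1) (by omega))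

section Step

variable (M : Type u) [AddCommGroup M] [Module A M] [Module (Polynomial A) M] [IsScalarTower A (Polynomial A) M]

/-- multiplication -/
noncomputable def polyEval : Polynomial A ⊗[A] M →ₗ[Polynomial A] M :=
  (LinearMap.id : M →ₗ[A] M).liftBaseChange (Polynomial A)

/-- `X ⊗ 1 - 1 ⊗ X` -/
noncomputable def polyDelta : Polynomial A ⊗[A] M →ₗ[Polynomial A] Polynomial A ⊗[A] M :=
  (Polynomial.X : Polynomial A) • LinearMap.id -
    (((Polynomial.X : Polynomial A) • (LinearMap.id : M →ₗ[Polynomial A] M)).restrictScalars A).baseChange (Polynomial A)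

lemma polyDelta_tmul (p : Polynomial A) (m : M) :
    polyDelta M (p ⊗ₜ m) = (Polynomial.X * p) ⊗ₜ m - p ⊗ₜ ((Polynomial.X : Polynomial A) • m) := by
  simp [polyDelta, TensorProduct.smul_tmul']

lemma polyEval_tmul (p : Polynomial A) (m : M) : polyEval M (p ⊗ₜ m) = p • m := by
  simp [polyEval]

lemma polyDelta_injective : Function.Injective (polyDelta (A := A) M) := by
  classical
  let e : Polynomial A ⊗[A] M ≃ₗ[A] (ℕ →₀ M) :=
    TensorProduct.equivFinsuppOfBasisLeft (Polynomial.basisMonomials A)
  have he : ∀ (p : Polynomial A) (m : M) (k : ℕ), e (p ⊗ₜ m) k = p.coeff k • m := fun p m k => by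
    simp only [e, TensorProduct.equivFinsuppOfBasisLeft_apply_tmul_apply, Polynomial.basisMonomials]
    rfl
  have hstep : ∀ (v : Polynomial A ⊗[A] M) (k : ℕ),
      e (polyDelta M v) (k + 1) = e v k - (Polynomial.X : Polynomial A) • e v (k + 1) := by
    intro v k
    induction v using TensorProduct.induction_on with
    | zero => simp
    | add a b ha hb => simp only [map_add, Finsupp.add_apply, ha, hb, smul_add]; abel
    | tmul p m =>
      rw [polyDelta_tmul, map_sub, Finsupp.sub_apply, he, he, he, he, Polynomial.coeff_X_mul, smul_comm]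
  rw [injective_iff_map_eq_zero]
  intro v hv
  have hrel : ∀ k, e v k = (Polynomial.X : Polynomial A) • e v (k + 1) := fun k => by
    have := hstep v k
    rw [hv, map_zero, Finsupp.zero_apply] at this
    exact sub_eq_zero.1 this.symm
  have hz : ∀ n k, (e v).support.sup id < k + n → e v k = 0 := by
    intro n
    induction n with
    | zero =>
      intro k hk
      by_contra h
      have := Finset.le_sup (f := id) (Finsupp.mem_support_iff.2 h)
      simp only [id, add_zero] at this hk
      omega
    | succ n ih => intro k hk; rw [hrel k, ih (k + 1) (by omega), smul_zero]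
  exact e.injective (by rw [map_zero]; ext k; exact hz ((e v).support.sup id + 1) k (by omega))

lemma ker_polyEval : LinearMap.ker (polyEval (A := A) M) = LinearMap.range (polyDelta M) := by
  refine le_antisymm (fun v hv => ?_) ?_
  · have key : ∀ (v : Polynomial A ⊗[A] M), v - (1 : Polynomial A) ⊗ₜ polyEval M v ∈ LinearMap.range (polyDelta M) := by
      intro v
      induction v using TensorProduct.induction_on with
      | zero => simp
      | add a b ha hb =>
        rw [map_add, TensorProduct.tmul_add, add_sub_add_comm]
        exact Submodule.add_mem _ ha hb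
      | tmul p m =>
        rw [polyEval_tmul]
        induction p using Polynomial.induction_on' generalizing m with
        | add p q hp hq =>
          rw [TensorProduct.add_tmul, add_smul, TensorProduct.tmul_add, add_sub_add_comm]
          exact Submodule.add_mem _ (hp m) (hq m)
        | monomial n a =>
          induction n generalizing m with
          | zero =>
            rw [show Polynomial.monomial 0 a = a • (1 : Polynomial A) by simp [Polynomial.smul_eq_C_mul],
              TensorProduct.smul_tmul, smul_assoc, one_smul, sub_self]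
            exact Submodule.zero_mem _
          | succ n ih =>
            have h1 := ih ((Polynomial.X : Polynomial A) • m)
            have h2 : polyDelta M (Polynomial.monomial n a ⊗ₜ m) ∈ LinearMap.range (polyDelta M) := ⟨_, rfl⟩
            rw [polyDelta_tmul] at h2
            rw [Polynomial.X_mul, Polynomial.monomial_mul_X] at h2
            have := Submodule.add_mem _ h2 h1
            rwa [sub_add_sub_cancel, ← mul_smul, Polynomial.monomial_mul_X] at this
    have := key v
    rwa [LinearMap.mem_ker.1 hv, TensorProduct.tmul_zero, sub_zero] at this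
  · rintro _ ⟨v, rfl⟩
    rw [LinearMap.mem_ker]
    induction v using TensorProduct.induction_on with
    | zero => simp
    | add a b ha hb => rw [map_add, map_add, ha, hb, add_zero]
    | tmul p m => rw [polyDelta_tmul, map_sub, polyEval_tmul, polyEval_tmul, mul_comm, mul_smul, sub_self]

lemma ta_polynomial_step {d : ℕ} (h : TA (-(d : ℤ)) 0 (Dual.inD A M)) :
    TA (-((d : ℤ) + 1)) 0 (Dual.inD (Polynomial A) M) := by
  obtain ⟨e⟩ := rep_inD_baseChange (A := A) (B := Polynomial A) M
  have hT : TA (-(d : ℤ)) 0 (Dual.inD (Polynomial A) (Polynomial A ⊗[A] M)) := (ta_map h).of_iso e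
  obtain ⟨T, hTd, e1, e2, e3⟩ := exists_triangle_of_surjective (polyEval (A := A) M)
    (fun m => ⟨1 ⊗ₜ m, by rw [polyEval_tmul, one_smul]⟩)
  let i : (LinearMap.ker (polyEval (A := A) M)) ≃ₗ[Polynomial A] Polynomial A ⊗[A] M :=
    (LinearEquiv.ofEq _ _ (ker_polyEval M)).trans
      (LinearEquiv.ofInjective _ (polyDelta_injective M)).symm
  rw [← e3]
  refine TA.obj₃ hTd ?_ ?_
  · rw [e1]
    exact (hT.of_iso ((DerivedCategory.singleFunctor (ModuleCat.{u} (Polynomial A)) 0).mapIso
      i.symm.toModuleIso)).mono (by omega) (by omega)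
  · rw [e2]
    exact hT.mono (by omega) le_rfl

end Step

/-- transport along a ring isomorphism -/
lemma ta_of_ringEquiv {B : Type u} [CommRing B] (e : A ≃+* B) (M : Type u) [AddCommGroup M] [Module A M]
    [Module B M] (he : ∀ (a : A) (m : M), e a • m = a • m) {a b : ℤ} (h : TA a b (Dual.inD A M)) :
    TA a b (Dual.inD B M) := by
  let : Algebra A B := e.toRingHom.toAlgebra
  have : IsScalarTower A B M := IsScalarTower.of_algebraMap_smul fun x m => he x m
  let eq : A ≃ₗ[A] B := LinearEquiv.ofBijective (Algebra.linearMap A B) e.bijective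
  have : Module.Flat A B := Module.Flat.of_linearEquiv eq.symm
  obtain ⟨i⟩ := rep_inD_baseChange (A := A) (B := B) M
  let m : B ⊗[A] M →ₗ[B] M := (LinearMap.id : M →ₗ[A] M).liftBaseChange B
  have hm : Function.Bijective m := by
    have h' : (m : B ⊗[A] M → M) = (TensorProduct.lid A M) ∘ (eq.symm.rTensor M) := by
      funext z
      induction z using TensorProduct.induction_on with
      | zero => simp
      | add x y hx hy => simp only [map_add, hx, hy, Function.comp_apply]
      | tmul x y =>
        obtain ⟨x, rfl⟩ := e.surjective x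
        simp only [m, LinearMap.liftBaseChange_tmul, LinearMap.id_apply, Function.comp_apply,
          LinearEquiv.rTensor_tmul, TensorProduct.lid_tmul]
        rw [he, show eq.symm (e x) = x from eq.symm_apply_eq.2 rfl]
    rw [h']
    exact (TensorProduct.lid A M).bijective.comp (eq.symm.rTensor M).bijective
  exact ((ta_map h).of_iso i).of_iso
    ((DerivedCategory.singleFunctor (ModuleCat.{u} B) 0).mapIso (LinearEquiv.ofBijective m hm).toModuleIso)

/-- finite tor dimension over the coefficients gives finite tor dimension over a polynomial ring -/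
theorem ta_mvPolynomial (n : ℕ) : ∀ {A : Type u} [CommRing A] (M : Type u) [AddCommGroup M] [Module A M]
    [Module (MvPolynomial (Fin n) A) M] [IsScalarTower A (MvPolynomial (Fin n) A) M] {d : ℕ},
    TA (-(d : ℤ)) 0 (Dual.inD A M) → TA (-((d : ℤ) + n)) 0 (Dual.inD (MvPolynomial (Fin n) A) M) := by
  induction n with
  | zero =>
    intro A _ M _ _ _ _ d h
    refine (ta_of_ringEquiv (MvPolynomial.isEmptyRingEquiv A (Fin 0)).symm M (fun (a : A) (m : M) => ?_) h).mono
      (by simp) le_rfl
    show MvPolynomial.C a • m = a • m
    rw [← MvPolynomial.algebraMap_eq]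
    exact algebraMap_smul (MvPolynomial (Fin 0) A) a m
  | succ n ih =>
    intro A _ M _ _ _ _ d h
    let e : MvPolynomial (Fin (n + 1)) A ≃ₐ[A] Polynomial (MvPolynomial (Fin n) A) := MvPolynomial.finSuccEquiv A n
    let : Module (Polynomial (MvPolynomial (Fin n) A)) M := Module.compHom M e.symm.toRingEquiv.toRingHom
    let : Module (MvPolynomial (Fin n) A) M := Module.compHom M
      ((algebraMap (MvPolynomial (Fin n) A) (Polynomial (MvPolynomial (Fin n) A))))
    have : IsScalarTower (MvPolynomial (Fin n) A) (Polynomial (MvPolynomial (Fin n) A)) M :=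
      IsScalarTower.of_algebraMap_smul fun _ _ => rfl
    have : IsScalarTower A (MvPolynomial (Fin n) A) M := IsScalarTower.of_algebraMap_smul fun a m => by
      show e.symm (algebraMap _ _ (algebraMap A (MvPolynomial (Fin n) A) a)) • m = _
      rw [← IsScalarTower.algebraMap_apply, AlgEquiv.commutes, algebraMap_smul]
    have h2 := ta_polynomial_step (A := MvPolynomial (Fin n) A) M (d := d + n)
      ((ih M h).mono (by omega) le_rfl)
    refine (ta_of_ringEquiv e.symm.toRingEquiv M (fun a m => rfl) h2).mono ?_ le_rfl
    push_cast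
    omega

end Groth.Agent.LCI19
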