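import Groth.Agent.LCI19.NL
import Groth.Agent.LCI19.TorDim
import Mathlib.Algebra.Homology.DerivedCategory.ShortExact
import Mathlib.Algebra.Homology.HomologicalComplexAbelian

/-! A two-term complex of tor amplitude `[-1,0]` with flat top term has flat bottom term. -/

universe u

open CategoryTheory CategoryTheory.Limits CategoryTheory.Pretriangulated Algebra

attribute [local instance] HasDerivedCategory.standard

namespace Groth.Agent.LCI19

open DR39

variable {A B : Type u} [CommRing A] [CommRing B] [Algebra A B]

lemma flat_of_ta_double {M F : ModuleCat.{u} B} [Module.Flat B F] (d : M ⟶ F)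
    (h : TA (-1) 0 (DerivedCategory.Q.obj (HomologicalComplex.double d nlRel))) : Module.Flat B M := by
  let K := HomologicalComplex.double d nlRel
  let ι : (HomologicalComplex.single (ModuleCat.{u} B) (ComplexShape.up ℤ) 0).obj F ⟶ K :=
    HomologicalComplex.mkHomFromSingle (HomologicalComplex.doubleXIso₁ d nlRel nlNe).inv
      (fun k _ => by rw [HomologicalComplex.double_d_eq_zero₀ d nlRel 0 k (by omega), comp_zero])
  let π : K ⟶ (HomologicalComplex.single (ModuleCat.{u} B) (ComplexShape.up ℤ) (-1)).obj M :=
    HomologicalComplex.mkHomFromDouble nlRel nlNe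
      (HomologicalComplex.singleObjXSelf (ComplexShape.up ℤ) (-1) M).inv 0 (by simp) (fun k _ => by simp)
  have hz : ι ≫ π = 0 := by
    apply HomologicalComplex.from_single_hom_ext
    simp [ι, π]
  let S : ShortComplex (CochainComplex (ModuleCat.{u} B) ℤ) := ShortComplex.mk ι π hz
  have hdeg : ∀ i, (S.map (HomologicalComplex.eval _ _ i)).ShortExact := by
    intro i
    by_cases h₀ : i = -1
    · subst h₀
      have hi : IsIso (π.f (-1)) := by
        simp only [π, HomologicalComplex.mkHomFromDouble_f₀]
        infer_instance
      have hz' : IsZero ((S.map (HomologicalComplex.eval _ _ (-1))).X₁) := by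
        simp only [S, ShortComplex.map_X₁, HomologicalComplex.eval_obj]
        exact
        HomologicalComplex.isZero_single_obj_X (ComplexShape.up ℤ) (0 : ℤ) F (-1) (by omega)
      exact (ShortComplex.Splitting.ofIsZeroOfIsIso _ hz' hi).shortExact
    by_cases h₁ : i = 0
    · subst h₁
      have hi : IsIso (ι.f 0) := by
        simp only [ι, HomologicalComplex.mkHomFromSingle_f]
        infer_instance
      have hz' : IsZero ((S.map (HomologicalComplex.eval _ _ 0)).X₃) := by
        simp only [S, ShortComplex.map_X₃, HomologicalComplex.eval_obj]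
        exact
        HomologicalComplex.isZero_single_obj_X (ComplexShape.up ℤ) (-1 : ℤ) M 0 (by omega)
      exact (ShortComplex.Splitting.ofIsIsoOfIsZero _ hi hz').shortExact
    have hz₁ : IsZero ((S.map (HomologicalComplex.eval _ _ i)).X₁) := by
      simp only [S, ShortComplex.map_X₁, HomologicalComplex.eval_obj]
      exact HomologicalComplex.isZero_single_obj_X (ComplexShape.up ℤ) (0 : ℤ) F i h₁
    have hz₂ : IsZero ((S.map (HomologicalComplex.eval _ _ i)).X₂) := by
      simp only [S, ShortComplex.map_X₂, HomologicalComplex.eval_obj]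
      exact HomologicalComplex.isZero_double_X d nlRel i h₀ h₁
    have hz₃ : IsZero ((S.map (HomologicalComplex.eval _ _ i)).X₃) := by
      simp only [S, ShortComplex.map_X₃, HomologicalComplex.eval_obj]
      exact HomologicalComplex.isZero_single_obj_X (ComplexShape.up ℤ) (-1 : ℤ) M i h₀
    exact (ShortComplex.Splitting.ofIsZeroOfIsIso _ hz₁
      ⟨0, hz₂.eq_of_src _ _, hz₃.eq_of_src _ _⟩).shortExact
  have hS : S.ShortExact := HomologicalComplex.shortExact_of_degreewise_shortExact S hdeg
  have h₁ : TA (-1 + 1) (0 + 1) (DerivedCategory.Q.obj S.X₁) :=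
    (ta_inD_of_flat (A := B) F).mono (by omega) (by omega)
  have h₃ : TA (-1) 0 (DerivedCategory.Q.obj S.X₃) :=
    TA.obj₃ (DerivedCategory.triangleOfSES_distinguished hS) h₁ h
  exact flat_of_ta (b := 1) (by omega) (((ta_single_iff M (-1) (-1) 0).1 h₃).mono (by omega) (by omega))

lemma flat_cotangent_of_ta {ι : Type} (P : Generators A B ι)
    (h : DRing.HasTorAmplitudeIn B (-1) 0 (LCI.NL A B)) : Module.Flat B P.toExtension.Cotangent := by
  have := (Module.Free.of_basis P.cotangentSpaceBasis : Module.Free B P.toExtension.CotangentSpace)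
  exact flat_of_ta_double (F := ModuleCat.of B P.toExtension.CotangentSpace)
    (ModuleCat.ofHom P.toExtension.cotangentComplex) (TA.of_iso h (nlIso P))

end Groth.Agent.LCI19
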