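import Groth.Agent.EGA4H10.Serre
import Mathlib.RingTheory.Regular.RegularSequence
import Mathlib.RingTheory.Ideal.AssociatedPrime.Finiteness
import Mathlib.RingTheory.Flat.Localization

/-! Free summands of the conormal module of an ideal of finite projective dimension. -/

universe u

open CategoryTheory TensorProduct IsLocalRing

namespace Groth.Agent.LCI19

variable {R : Type u} [CommRing R] [IsNoetherianRing R]

/-- an ideal of finite projective dimension inside an associated prime is killed outside it -/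
lemma exists_kill_of_le_associatedPrime (I : Ideal R) (n : ℕ)
    (hpd : HasProjectiveDimensionLE (ModuleCat.of R I) n) (p : Ideal R) (hp : p ∈ associatedPrimes R R)
    (hIp : I ≤ p) : ∃ t, t ∉ p ∧ ∀ i ∈ I, t * i = 0 := by
  classical
  obtain ⟨hprime, r, hr⟩ := Submodule.isAssociatedPrime_iff.1 hp
  have := hprime
  have hann : ∀ a, a ∈ p ↔ a * r = 0 := fun a => by
    rw [hr, Submodule.mem_colon_singleton, Submodule.mem_bot, smul_eq_mul]
  let A := Localization.AtPrime p
  let c : A := algebraMap R A r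
  have hc0 : c ≠ 0 := by
    intro h
    obtain ⟨⟨m, hm⟩, hmr⟩ := (IsLocalization.map_eq_zero_iff p.primeCompl A r).1 h
    exact hm ((hann m).2 hmr)
  have hc : ∀ x ∈ maximalIdeal A, x * c = 0 := by
    intro x hx
    rw [← Localization.AtPrime.map_eq_maximalIdeal] at hx
    have : ∀ y ∈ Ideal.map (algebraMap R A) p, y * c = 0 := by
      intro y hy
      refine Submodule.span_induction ?_ ?_ ?_ ?_ hy
      · rintro _ ⟨a, ha, rfl⟩
        rw [← map_mul, (hann a).1 ha, map_zero]
      · exact zero_mul c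
      · intro a b _ _ ha hb
        rw [add_mul, ha, hb, add_zero]
      · intro a b _ hb
        rw [smul_eq_mul, mul_assoc, hb, mul_zero]
    exact this x hx
  let N := A ⊗[R] I
  have hfree : Module.Free A N :=
    EGA4H10.free_of_finite_pd c hc0 hc n N (EGA4H10.hasPD_baseChange A I n hpd)
  let ψ : N →ₗ[A] A := (AlgebraTensorModule.rid R A A).toLinearMap ∘ₗ I.subtype.baseChange A
  have hψ : Function.Injective ψ :=
    (AlgebraTensorModule.rid R A A).injective.comp
      (Module.Flat.lTensor_preserves_injective_linearMap _ (Submodule.subtype_injective _))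
  have hψm : ∀ z, ψ z ∈ maximalIdeal A := by
    intro z
    induction z using TensorProduct.induction_on with
    | zero => simp
    | add a b ha hb => rw [map_add]; exact add_mem ha hb
    | tmul a i =>
      show AlgebraTensorModule.rid R A A (a ⊗ₜ[R] (i : R)) ∈ maximalIdeal A
      rw [AlgebraTensorModule.rid_tmul, Algebra.smul_def]
      refine Ideal.mul_mem_right a _ ?_
      rw [← Localization.AtPrime.map_eq_maximalIdeal]
      exact Ideal.mem_map_of_mem _ (hIp i.2)
  have hsub : Subsingleton N := by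
    let b := Module.Free.chooseBasis A N
    have : IsEmpty (Module.Free.ChooseBasisIndex A N) := ⟨fun j => hc0 (by
      have h0 : c • b j = 0 := hψ (by
        rw [map_smul, map_zero, smul_eq_mul, mul_comm, hc _ (hψm _)])
      simpa using congrArg (fun w => b.repr w j) h0)⟩
    exact b.repr.toEquiv.subsingleton
  have hkill : ∀ i ∈ I, ∃ t, t ∉ p ∧ t * i = 0 := by
    intro i hi
    have h0 : algebraMap R A i = 0 := by
      have h1 := congrArg ψ (Subsingleton.elim ((1 : A) ⊗ₜ[R] (⟨i, hi⟩ : I)) 0)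
      rw [map_zero] at h1
      rw [← h1]
      show _ = AlgebraTensorModule.rid R A A ((1 : A) ⊗ₜ[R] i)
      rw [AlgebraTensorModule.rid_tmul, Algebra.smul_def, mul_one]
    obtain ⟨⟨m, hm⟩, hmi⟩ := (IsLocalization.map_eq_zero_iff p.primeCompl A i).1 h0
    exact ⟨m, hm, hmi⟩
  obtain ⟨s, hs⟩ := (IsNoetherian.noetherian I : I.FG)
  choose t ht hti using hkill
  refine ⟨∏ i ∈ s.attach, t i.1 (hs ▸ Ideal.subset_span i.2), fun h => ?_, fun i hi => ?_⟩
  · obtain ⟨j, -, hj⟩ := hprime.prod_mem_iff.1 h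
    exact ht _ _ hj
  · rw [← hs] at hi
    induction hi using Submodule.span_induction with
    | mem x hx =>
      rw [← Finset.prod_erase_mul _ _ (Finset.mem_attach s ⟨x, hx⟩), mul_assoc, hti, mul_zero]
    | zero => rw [mul_zero]
    | add a b _ _ ha hb => rw [mul_add, ha, hb, add_zero]
    | smul a b _ hb => rw [smul_eq_mul, mul_left_comm, hb, mul_zero]

omit [IsNoetherianRing R] in
/-- prime avoidance for a coset -/
lemma exists_coset_notMem (s : Set (Ideal R)) (hs : s.Finite) (hp : ∀ p ∈ s, p.IsPrime) (J : Ideal R)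
    (hJ : ∀ p ∈ s, ¬ J ≤ p) (a : R) : ∃ w ∈ J, ∀ p ∈ s, a + w ∉ p := by
  classical
  obtain ⟨t, ht⟩ : ∃ t : Finset (Ideal R), ↑t = s := ⟨hs.toFinset, hs.coe_toFinset⟩
  subst ht
  let m := t.filter fun p => ∀ q ∈ t, p ≤ q → q = p
  have hm : ∀ p ∈ t, ∃ q ∈ m, p ≤ q := by
    intro p hpt
    obtain ⟨q, hpq, hq⟩ := t.exists_le_maximal hpt
    exact ⟨q, Finset.mem_filter.2 ⟨hq.1, fun r hr hqr => le_antisymm (hq.2 hr hqr) hqr⟩, hpq⟩
  let m₁ := m.filter fun p => a ∈ p
  let m₂ := m.filter fun p => a ∉ p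
  let K := J ⊓ m₂.inf id
  have hsub : ∀ p ∈ m, p ∈ t := fun p hp => (Finset.mem_filter.1 hp).1
  have hK : ∀ p ∈ m₁, ¬ K ≤ p := by
    intro p hp1 hle
    have hpt := hsub p (Finset.mem_filter.1 hp1).1
    rcases (hp p hpt).inf_le.1 hle with h | h
    · exact hJ p hpt h
    · obtain ⟨q, hq, hqp⟩ := (hp p hpt).inf_le'.1 h
      obtain ⟨hqm, hqa⟩ := Finset.mem_filter.1 hq
      have : p = q := (Finset.mem_filter.1 hqm).2 p hpt hqp
      exact hqa (this ▸ (Finset.mem_filter.1 hp1).2)
  have : ∃ w ∈ K, ∀ p ∈ m₁, w ∉ p := by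
    by_contra h
    push Not at h
    obtain ⟨p, hp1, hle⟩ := (Ideal.subset_union_prime (f := id) ⊤ ⊤
      (fun p hp1 _ _ => hp p (hsub p (Finset.mem_filter.1 hp1).1))).1
      (fun w hw => Set.mem_iUnion₂.2 (by simpa using h w hw) : (K : Set R) ⊆ ⋃ p ∈ (↑m₁ : Set _), (id p : Ideal R))
    exact hK p hp1 hle
  obtain ⟨w, hwK, hw⟩ := this
  refine ⟨w, hwK.1, fun p hpt haw => ?_⟩
  obtain ⟨q, hq, hpq⟩ := hm p hpt
  have haw' := hpq haw
  by_cases ha : a ∈ q
  · exact hw q (Finset.mem_filter.2 ⟨hq, ha⟩) ((q.add_mem_iff_right ha).1 haw')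
  · have hwq : w ∈ q := (Finset.inf_le (f := id) (Finset.mem_filter.2 ⟨hq, ha⟩) : m₂.inf id ≤ q) hwK.2
    exact ha ((q.add_mem_iff_left hwq).1 haw')

omit [IsNoetherianRing R] in
lemma map_eq_zero_of_mem_sq {ι : Type*} (I : Ideal R) (P : I →ₗ[R] (ι → R ⧸ I)) (y : R) (hy : y ∈ I)
    (hy2 : y ∈ I * I) : P ⟨y, hy⟩ = 0 := by
  suffices h : ∀ y ∈ I * I, ∃ hy : y ∈ I, P ⟨y, hy⟩ = 0 from (h y hy2).2
  intro y hy2
  refine Submodule.mul_induction_on hy2 ?_ ?_
  · intro a ha b hb
    refine ⟨I.mul_mem_left a hb, ?_⟩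
    rw [show (⟨a * b, I.mul_mem_left a hb⟩ : I) = a • ⟨b, hb⟩ from rfl, map_smul]
    funext i
    rw [Pi.smul_apply, Pi.zero_apply, Algebra.smul_def,
      Ideal.Quotient.algebraMap_eq, Ideal.Quotient.eq_zero_iff_mem.2 ha, zero_mul]
  · rintro a b ⟨ha, ha'⟩ ⟨hb, hb'⟩
    exact ⟨I.add_mem ha hb, by
      rw [show (⟨a + b, I.add_mem ha hb⟩ : I) = ⟨a, ha⟩ + ⟨b, hb⟩ from rfl, map_add, ha', hb', add_zero]⟩

/-- lifting a free summand of the conormal module to a regular sequence -/
theorem exists_regular_lift (r : ℕ) :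
    ∀ (R : Type u) [CommRing R] [IsNoetherianRing R] [IsLocalRing R] (I : Ideal R), I ≠ ⊤ →
    ∀ (n : ℕ), HasProjectiveDimensionLE (ModuleCat.of R I) n →
    ∀ (a : Fin r → I) (P : I →ₗ[R] (Fin r → R ⧸ I)), (∀ i, P (a i) = Pi.single i 1) →
    ∃ x : Fin r → R, (∀ i, x i - (a i : R) ∈ I * I) ∧
      RingTheory.Sequence.IsRegular R (List.ofFn x) := by
  classical
  induction r with
  | zero =>
    intro R _ _ _ I _ n _ a P _
    exact ⟨fun i => i.elim0, fun i => i.elim0, by rw [List.ofFn_zero]; exact RingTheory.Sequence.IsRegular.nil R R⟩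
  | succ r ih =>
    intro R _ _ _ I hI n hpd a P hP
    have hnot : ∀ p ∈ associatedPrimes R R, ¬ I * I ≤ p := by
      intro p hp hle
      have hIp : I ≤ p := ((hp : IsAssociatedPrime p R).isPrime.mul_le.1 hle).elim id id
      obtain ⟨t, ht, hti⟩ := exists_kill_of_le_associatedPrime I n hpd p hp hIp
      apply ht
      apply hIp
      have h1 : P (t • a 0) = 0 := by
        rw [show t • a 0 = 0 from Subtype.ext (hti _ (a 0).2), map_zero]
      rw [map_smul, hP] at h1
      have h2 := congrFun h1 0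
      rwa [Pi.smul_apply, Pi.single_eq_same, Algebra.smul_def, mul_one, Pi.zero_apply,
        Ideal.Quotient.algebraMap_eq, Ideal.Quotient.eq_zero_iff_mem] at h2
    obtain ⟨w, hw, hwp⟩ := exists_coset_notMem (associatedPrimes R R) (associatedPrimes.finite R R)
      (fun p hp => (hp : IsAssociatedPrime p R).isPrime) (I * I) hnot (a 0 : R)
    let x₁ : R := (a 0 : R) + w
    have hwI : w ∈ I := Ideal.mul_le_right hw
    have hxI : x₁ ∈ I := I.add_mem (a 0).2 hwI
    have hreg : IsSMulRegular R x₁ := by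
      rw [isSMulRegular_iff_right_eq_zero_of_smul]
      intro y hy
      by_contra hy0
      have : x₁ ∈ ⋃ p ∈ associatedPrimes R R, (p : Set R) := by
        rw [biUnion_associatedPrimes_eq_zero_divisors]
        exact ⟨y, hy0, hy⟩
      obtain ⟨p, hp, hxp⟩ := Set.mem_iUnion₂.1 this
      exact hwp p hp hxp
    have hPx : P ⟨x₁, hxI⟩ = Pi.single 0 1 := by
      rw [show (⟨x₁, hxI⟩ : I) = a 0 + ⟨w, hwI⟩ from rfl, map_add, hP,
        map_eq_zero_of_mem_sq I P w hwI hw, add_zero]
    let S := R ⧸ Ideal.span {x₁}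
    let mk : R →+* S := Ideal.Quotient.mk (Ideal.span {x₁})
    have hmax : Ideal.span {x₁} ≤ maximalIdeal R := by
      rw [Ideal.span_singleton_le_iff_mem]
      exact le_maximalIdeal hI hxI
    have : Nontrivial S := Ideal.Quotient.nontrivial_iff.2 fun h =>
      (maximalIdeal.isMaximal R).ne_top (top_le_iff.1 (h ▸ hmax))
    have : IsLocalRing S := IsLocalRing.of_surjective' mk Ideal.Quotient.mk_surjective
    let J : Ideal S := I.map mk
    have hJc : J.comap mk = I := by
      rw [Ideal.comap_map_of_surjective mk Ideal.Quotient.mk_surjective, ← RingHom.ker_eq_comap_bot,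
        Ideal.mk_ker, sup_eq_left, Ideal.span_singleton_le_iff_mem]
      exact hxI
    have hJ : J ≠ ⊤ := fun h => hI (by rw [← hJc, h, Ideal.comap_top])
    -- the projection onto `J`
    let q : I →ₗ[R] J :=
      { toFun := fun y => ⟨mk y, Ideal.mem_map_of_mem _ y.2⟩
        map_add' := fun y z => Subtype.ext (map_add mk _ _)
        map_smul' := fun c y => Subtype.ext (map_mul mk _ _) }
    have hq : Function.Surjective q := by
      rintro ⟨z, hz⟩
      obtain ⟨y, hy⟩ := Ideal.Quotient.mk_surjective z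
      exact ⟨⟨y, by rw [← hJc]; exact (hy ▸ hz : mk y ∈ J)⟩, Subtype.ext hy⟩
    have hqker : ∀ y : I, q y = 0 → ∃ d, d * x₁ = (y : R) := fun y hy =>
      Ideal.mem_span_singleton'.1 (Ideal.Quotient.eq_zero_iff_mem.1 (congrArg Subtype.val hy))
    let ψ : R ⧸ I →ₗ[R] S ⧸ J :=
      Submodule.liftQ I ((Ideal.Quotient.mkₐ R J).toLinearMap ∘ₗ Algebra.linearMap R S) (fun y hy => by
        rw [LinearMap.mem_ker]
        exact Ideal.Quotient.eq_zero_iff_mem.2 (Ideal.mem_map_of_mem mk hy))
    let P' : I →ₗ[R] (Fin r → S ⧸ J) := LinearMap.pi fun i => ψ ∘ₗ LinearMap.proj i.succ ∘ₗ P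
    have hP'ker : LinearMap.ker q ≤ LinearMap.ker P' := by
      intro y hy
      obtain ⟨d, hd⟩ := hqker y hy
      rw [LinearMap.mem_ker, show y = d • (⟨x₁, hxI⟩ : I) from Subtype.ext hd.symm, map_smul]
      funext i
      simp [P', hPx]
    let eq' : (I ⧸ LinearMap.ker q) ≃ₗ[R] J := q.quotKerEquivOfSurjective hq
    let Pb : J →ₗ[S] (Fin r → S ⧸ J) :=
      (Submodule.liftQ _ P' hP'ker ∘ₗ eq'.symm.toLinearMap).extendScalarsOfSurjective Ideal.Quotient.mk_surjective
    have hPb : ∀ y, Pb (q y) = P' y := by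
      intro y
      show Submodule.liftQ _ P' hP'ker (eq'.symm (q y)) = P' y
      rw [show q y = eq' (Submodule.Quotient.mk y) from rfl, LinearEquiv.symm_apply_apply]
      rfl
    let a' : Fin r → J := fun i => q (a i.succ)
    have hPa : ∀ i, Pb (a' i) = Pi.single i 1 := by
      intro i
      rw [hPb]
      funext j
      show ψ (P (a i.succ) j.succ) = _
      rw [hP]
      rcases eq_or_ne j i with rfl | hji
      · rw [Pi.single_eq_same, Pi.single_eq_same]
        rfl
      · rw [Pi.single_eq_of_ne hji, Pi.single_eq_of_ne (fun h => hji (Fin.succ_injective _ h)), map_zero]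
    -- finite projective dimension descends
    have hpdJ : HasProjectiveDimensionLE (ModuleCat.of S J) n := by
      let T := I ⧸ (Ideal.span {x₁} • (⊤ : Submodule R I))
      have hregI : IsSMulRegular I x₁ := fun y z h => Subtype.ext (hreg (congrArg Subtype.val h))
      have hT := EGA4H10.hasPD_quotient x₁ hreg n I hregI hpd
      let g : R ⧸ I →ₗ[R] T :=
        Submodule.liftQ I (LinearMap.toSpanSingleton R T (Submodule.Quotient.mk ⟨x₁, hxI⟩)) (fun c hc => by
          rw [LinearMap.mem_ker, LinearMap.toSpanSingleton_apply, ← Submodule.Quotient.mk_smul,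
            Submodule.Quotient.mk_eq_zero,
            show c • (⟨x₁, hxI⟩ : I) = x₁ • (⟨c, hc⟩ : I) from Subtype.ext (mul_comm _ _)]
          exact Submodule.smul_mem_smul (Ideal.mem_span_singleton_self _) Submodule.mem_top)
      let σ₀ : I →ₗ[R] T := Submodule.mkQ _ - g ∘ₗ LinearMap.proj 0 ∘ₗ P
      have hσker : LinearMap.ker q ≤ LinearMap.ker σ₀ := by
        intro y hy
        obtain ⟨d, hd⟩ := hqker y hy
        rw [LinearMap.mem_ker, show y = d • (⟨x₁, hxI⟩ : I) from Subtype.ext hd.symm, map_smul]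
        have : g (P ⟨x₁, hxI⟩ 0) = Submodule.Quotient.mk ⟨x₁, hxI⟩ := by
          rw [hPx, Pi.single_eq_same]
          show (1 : R) • (Submodule.Quotient.mk ⟨x₁, hxI⟩ : T) = _
          exact one_smul R _
        rw [LinearMap.sub_apply, LinearMap.comp_apply, LinearMap.comp_apply, LinearMap.proj_apply, this]
        simp
      let σ : J →ₗ[S] T :=
        (Submodule.liftQ _ σ₀ hσker ∘ₗ eq'.symm.toLinearMap).extendScalarsOfSurjective Ideal.Quotient.mk_surjective
      let τ₀ : T →ₗ[R] J := Submodule.liftQ _ q (by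
        rw [Submodule.smul_le]
        intro c hc y _
        obtain ⟨d, rfl⟩ := Ideal.mem_span_singleton'.1 hc
        rw [LinearMap.mem_ker]
        apply Subtype.ext
        show mk (d * x₁ * (y : R)) = 0
        exact Ideal.Quotient.eq_zero_iff_mem.2
          (Ideal.mul_mem_right _ _ (Ideal.mul_mem_left _ _ (Ideal.mem_span_singleton_self _))))
      let τ : T →ₗ[S] J := τ₀.extendScalarsOfSurjective Ideal.Quotient.mk_surjective
      have hτσ : ∀ y, τ (σ y) = y := by
        intro y
        obtain ⟨y, rfl⟩ := hq y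
        show τ₀ (Submodule.liftQ _ σ₀ hσker (eq'.symm (q y))) = q y
        rw [show q y = eq' (Submodule.Quotient.mk y) from rfl, LinearEquiv.symm_apply_apply]
        show τ₀ (Submodule.Quotient.mk y - g (P y 0)) = q y
        obtain ⟨c, hc⟩ := Submodule.Quotient.mk_surjective _ (P y 0)
        have : g (P y 0) = Submodule.Quotient.mk (c • (⟨x₁, hxI⟩ : I)) := by
          rw [← hc]; rfl
        rw [this, ← Submodule.Quotient.mk_sub]
        show q (y - c • (⟨x₁, hxI⟩ : I)) = q y
        have h0 : q ⟨x₁, hxI⟩ = 0 :=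
          Subtype.ext (Ideal.Quotient.eq_zero_iff_mem.2 (Ideal.mem_span_singleton_self _))
        rw [map_sub, map_smul, h0, smul_zero, sub_zero]
      exact (Retract.mk (ModuleCat.ofHom σ) (ModuleCat.ofHom τ) (by ext y; exact congrArg Subtype.val (hτσ y)) :
        Retract (ModuleCat.of S J) (ModuleCat.of S T)).hasProjectiveDimensionLT (n + 1)
    obtain ⟨xb, hxb, hxreg⟩ := ih S J hJ n hpdJ a' Pb hPa
    have hlift : ∀ i, ∃ u : R, u - (a i.succ : R) ∈ I * I ∧ mk u = xb i := by
      intro i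
      have h := hxb i
      rw [show J * J = (I * I).map mk from (Ideal.map_mul mk I I).symm,
        Ideal.mem_map_iff_of_surjective mk Ideal.Quotient.mk_surjective] at h
      obtain ⟨v, hv, hveq⟩ := h
      refine ⟨(a i.succ : R) + v, by simpa using hv, ?_⟩
      rw [map_add, hveq]
      show mk _ + (xb i - mk _) = xb i
      abel
    choose u hu hmu using hlift
    refine ⟨Fin.cons x₁ u, Fin.cases (by simpa [x₁] using hw) (by simpa using hu), ?_⟩
    rw [List.ofFn_succ, Fin.cons_zero, RingTheory.Sequence.isRegular_cons_iff']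
    simp only [Fin.cons_succ, List.map_ofFn]
    refine ⟨hreg, ?_⟩
    have e : (mk ∘ u) = xb := funext hmu
    rw [show (Ideal.Quotient.mk (Ideal.span {x₁}) ∘ u) = xb from e]
    let E : QuotSMulTop x₁ R ≃ₗ[S] S :=
      ((Submodule.quotEquivOfEq _ _ (by
        rw [← Submodule.ideal_span_singleton_smul, smul_eq_mul, Ideal.mul_top])).extendScalarsOfSurjective
          Ideal.Quotient.mk_surjective)
    exact (E.isRegular_congr _).2 hxreg

end Groth.Agent.LCI19
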