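import Groth.Agent.LCI19.FVasc
import Mathlib.RingTheory.Ideal.Cotangent

/-! Free summands of the conormal module lift to regular sequences. -/

universe u

open CategoryTheory

namespace Groth.Agent.LCI19

lemma exists_regularSeq_of_summand {R : Type u} [CommRing R]
    [IsNoetherianRing R] [IsLocalRing R] (I : Ideal R) (hI : I ≠ ⊤) (n : ℕ)
    (hpd : HasProjectiveDimensionLT (ModuleCat.of R I) n)
    (F G : Submodule (R ⧸ I) I.Cotangent) (hFG : IsCompl F G) (r : ℕ)
    (e : F ≃ₗ[R ⧸ I] (Fin r → R ⧸ I)) :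
    ∃ (x : Fin r → R) (hx : ∀ i, x i ∈ I), RingTheory.Sequence.IsRegular R (List.ofFn x) ∧
      Submodule.span (R ⧸ I) (Set.range fun i => I.toCotangent ⟨x i, hx i⟩) = F := by
  classical
  have hle : HasProjectiveDimensionLE (ModuleCat.of R I) n :=
    hasProjectiveDimensionLT_of_ge _ n (n + 1) (Nat.le_succ n)
  let b : Fin r → F := fun i => e.symm (Pi.single i 1)
  have ha : ∀ i, ∃ a : I, I.toCotangent a = (b i : I.Cotangent) := fun i => I.toCotangent_surjective _
  choose a ha using ha
  let P : I →ₗ[R] (Fin r → R ⧸ I) :=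
    (e.toLinearMap ∘ₗ F.projectionOnto G hFG).restrictScalars R ∘ₗ I.toCotangent
  have hP : ∀ i, P (a i) = Pi.single i 1 := by
    intro i
    show e (F.projectionOnto G hFG (I.toCotangent (a i))) = _
    rw [ha, Submodule.projectionOnto_apply_left, LinearEquiv.apply_symm_apply]
  obtain ⟨x, hx, hreg⟩ := exists_regular_lift r R I hI n hle a P hP
  have hxI : ∀ i, x i ∈ I := fun i => by
    have := I.add_mem (Ideal.mul_le_right (hx i)) (a i).2
    rwa [sub_add_cancel] at this
  refine ⟨x, hxI, hreg, ?_⟩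
  have hcls : ∀ i, I.toCotangent ⟨x i, hxI i⟩ = (b i : I.Cotangent) := fun i => by
    rw [← ha, Ideal.toCotangent_eq, pow_two]
    exact hx i
  have h1 : Submodule.span (R ⧸ I) (Set.range fun i => (Pi.single i 1 : Fin r → R ⧸ I)) = ⊤ := by
    refine eq_top_iff.2 fun v _ => ?_
    rw [show v = ∑ i, v i • (Pi.single i 1 : Fin r → R ⧸ I) by
      funext j; simp [Finset.sum_apply, Pi.single_apply]]
    exact Submodule.sum_mem _ fun i _ => Submodule.smul_mem _ _ (Submodule.subset_span ⟨i, rfl⟩)
  simp only [hcls]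
  rw [show (Set.range fun i => (b i : I.Cotangent)) =
    (F.subtype ∘ₗ e.symm.toLinearMap) '' Set.range fun i => (Pi.single i 1 : Fin r → R ⧸ I) by
    rw [← Set.range_comp]; rfl, ← Submodule.map_span, h1, Submodule.map_top, LinearMap.range_comp,
    LinearEquiv.range, Submodule.map_top, Submodule.range_subtype]

end Groth.Agent.LCI19
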