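import Groth.Agent.LCI19.TorDim
import Groth.Agent.LCI19.FVascGlobal
import Groth.Agent.Koszul19.Seq
import Mathlib.RingTheory.LocalRing.ResidueField.Ideal
import Mathlib.RingTheory.Polynomial.Basic
import Mathlib.RingTheory.TensorProduct.MvPolynomial
import Mathlib.RingTheory.Flat.Stability
import Mathlib.RingTheory.Flat.FaithfullyFlat.Algebra

/-! The local ring of a fibre of affine space at a prime. -/

universe u

open CategoryTheory MvPolynomial IsLocalRing TensorProduct

attribute [local instance] HasDerivedCategory.standard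

namespace Groth.Agent.LCI19

variable {A : Type u} [CommRing A] {n : ℕ} (Q : Ideal (MvPolynomial (Fin n) A)) [Q.IsPrime]

/-- the prime of the base -/
noncomputable abbrev fibBase : Ideal A := Q.comap MvPolynomial.C

/-- polynomials over the residue field of the base -/
abbrev FibPoly : Type u := MvPolynomial (Fin n) (fibBase Q).ResidueField

/-- reduction to the fibre -/
noncomputable abbrev fibMap : MvPolynomial (Fin n) A →+* FibPoly Q :=
  MvPolynomial.map (algebraMap A (fibBase Q).ResidueField)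

/-- evaluation at the point of the fibre -/
noncomputable def fibEval : FibPoly Q →+* Q.ResidueField :=
  MvPolynomial.eval₂Hom (Ideal.ResidueField.map (fibBase Q) Q MvPolynomial.C rfl)
    fun i => algebraMap (MvPolynomial (Fin n) A) Q.ResidueField (X i)

/-- the prime of the fibre -/
noncomputable def fibPrime : Ideal (FibPoly Q) := RingHom.ker (fibEval Q)

instance : (fibPrime Q).IsPrime := RingHom.ker_isPrime _

lemma comap_fibPrime : (fibPrime Q).comap (fibMap Q) = Q := by
  have h : (fibEval Q).comp (fibMap Q) = algebraMap (MvPolynomial (Fin n) A) Q.ResidueField := by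
    apply MvPolynomial.ringHom_ext
    · intro a
      rw [RingHom.comp_apply, MvPolynomial.map_C, fibEval, MvPolynomial.eval₂Hom_C]
      exact Ideal.ResidueField.map_algebraMap _ _ _ _ _
    · intro i
      simp [fibEval]
  rw [fibPrime, RingHom.comap_ker, h, Ideal.ker_algebraMap_residueField]

lemma fibMap_mem_iff (y : MvPolynomial (Fin n) A) : fibMap Q y ∈ fibPrime Q ↔ y ∈ Q := by
  conv_rhs => rw [← comap_fibPrime Q]
  rfl

/-- denominators -/
lemma exists_denom (v : FibPoly Q) :
    ∃ (b : A) (y : MvPolynomial (Fin n) A), b ∉ fibBase Q ∧ fibMap Q (C b) * v = fibMap Q y := by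
  induction v using MvPolynomial.induction_on with
  | C c =>
    obtain ⟨⟨a, b⟩, hab⟩ := IsLocalization.surj (nonZeroDivisors (A ⧸ fibBase Q)) c
    obtain ⟨a, rfl⟩ := Ideal.Quotient.mk_surjective a
    obtain ⟨b', hb'⟩ := Ideal.Quotient.mk_surjective (b : A ⧸ fibBase Q)
    refine ⟨b', C a, fun hm => nonZeroDivisors.coe_ne_zero b (hb'.symm.trans (Ideal.Quotient.eq_zero_iff_mem.2 hm)), ?_⟩
    rw [← hb', mul_comm] at hab
    rw [MvPolynomial.map_C, MvPolynomial.map_C, ← map_mul]
    congr 1
  | add u v hu hv =>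
    obtain ⟨b, y, hb, he⟩ := hu
    obtain ⟨b', y', hb', he'⟩ := hv
    refine ⟨b * b', C b' * y + C b * y', Ideal.IsPrime.mul_notMem inferInstance hb hb', ?_⟩
    rw [map_add, map_mul (fibMap Q) (C b'), map_mul (fibMap Q) (C b), ← he, ← he', map_mul C, map_mul]
    ring
  | mul_X u i hu =>
    obtain ⟨b, y, hb, he⟩ := hu
    exact ⟨b, y * X i, hb, by rw [map_mul, ← he, MvPolynomial.map_X, mul_assoc]⟩

/-- the local ring of the fibre -/
abbrev Fib : Type u := Localization.AtPrime (fibPrime Q)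

/-- the map to the local ring of the fibre -/
noncomputable def toFib : MvPolynomial (Fin n) A →+* Fib Q :=
  (algebraMap (FibPoly Q) (Fib Q)).comp (fibMap Q)

lemma isUnit_toFib_iff (y : MvPolynomial (Fin n) A) : IsUnit (toFib Q y) ↔ y ∉ Q := by
  show IsUnit (algebraMap _ (Fib Q) (fibMap Q y)) ↔ _
  rw [IsLocalization.AtPrime.isUnit_to_map_iff (Fib Q) (fibPrime Q), Ideal.mem_primeCompl_iff, fibMap_mem_iff]

lemma mem_map_of_toFib_eq_zero {y : MvPolynomial (Fin n) A} (h : toFib Q y = 0) :
    y ∈ (fibBase Q).map (MvPolynomial.C : A →+* MvPolynomial (Fin n) A) := by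
  obtain ⟨⟨t, ht⟩, hty⟩ := (IsLocalization.map_eq_zero_iff (fibPrime Q).primeCompl (Fib Q) _).1 h
  have ht0 : t ≠ 0 := fun h => ht (h ▸ zero_mem _)
  have hy0 : fibMap Q y = 0 := (mul_eq_zero.1 hty).resolve_left ht0
  rw [MvPolynomial.mem_map_C_iff]
  intro m
  have := congrArg (MvPolynomial.coeff m) hy0
  rw [MvPolynomial.coeff_map, MvPolynomial.coeff_zero] at this
  exact Ideal.algebraMap_residueField_eq_zero.1 this

lemma toFib_eq_zero_of_mem {y : MvPolynomial (Fin n) A}
    (h : y ∈ (fibBase Q).map (MvPolynomial.C : A →+* MvPolynomial (Fin n) A)) : toFib Q y = 0 := by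
  have hy : fibMap Q y = 0 := by
    ext m
    rw [MvPolynomial.coeff_map, MvPolynomial.coeff_zero, Ideal.algebraMap_residueField_eq_zero]
    exact MvPolynomial.mem_map_C_iff.1 h m
  show algebraMap _ (Fib Q) (fibMap Q y) = 0
  rw [hy, map_zero]

lemma exists_toFib_eq (z : Fib Q) :
    ∃ (y s : MvPolynomial (Fin n) A), s ∉ Q ∧ z * toFib Q s = toFib Q y := by
  obtain ⟨⟨v, ⟨t, ht⟩⟩, hvt⟩ := IsLocalization.surj (fibPrime Q).primeCompl z
  obtain ⟨b, y, hb, hy⟩ := exists_denom Q v
  obtain ⟨b', y', hb', hy'⟩ := exists_denom Q t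
  have hu : ∀ a, a ∉ fibBase Q → fibMap Q (C a) ∉ fibPrime Q := fun a ha h => ha ((fibMap_mem_iff Q _).1 h)
  refine ⟨y * C b', y' * C b, ?_, ?_⟩
  · intro h
    rcases Ideal.IsPrime.mem_or_mem inferInstance h with h | h
    · refine Ideal.IsPrime.mul_notMem inferInstance (hu b' hb') ht ?_
      rw [hy']
      exact (fibMap_mem_iff Q _).2 h
    · exact hb h
  · show z * algebraMap _ (Fib Q) (fibMap Q (y' * C b)) = algebraMap _ (Fib Q) (fibMap Q (y * C b'))
    rw [map_mul (fibMap Q), map_mul (fibMap Q), ← hy, ← hy', map_mul, map_mul, map_mul, map_mul]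
    calc z * (algebraMap _ (Fib Q) (fibMap Q (C b')) * algebraMap _ (Fib Q) t * algebraMap _ (Fib Q) (fibMap Q (C b)))
        = algebraMap _ (Fib Q) (fibMap Q (C b)) * (z * algebraMap _ (Fib Q) t) * algebraMap _ (Fib Q) (fibMap Q (C b')) := by ring
      _ = _ := by rw [hvt]

/-- ideals of the fibre have finite projective dimension -/
lemma hasPD_fib (J : Ideal (Fib Q)) : HasProjectiveDimensionLE (ModuleCat.of (Fib Q) J) n := by
  let J₀ : Ideal (FibPoly Q) := J.comap (algebraMap (FibPoly Q) (Fib Q))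
  have hta : DR39.TA (-((0 : ℕ) : ℤ)) 0 (Dual.inD (fibBase Q).ResidueField J₀) :=
    (DR39.ta_inD_of_flat (A := (fibBase Q).ResidueField) J₀).mono (by simp) le_rfl
  have h := hasProjectiveDimensionLT_of_ta n J₀ (by simpa using ta_mvPolynomial n J₀ hta)
  have h' := EGA4H10.hasPD_baseChange (Fib Q) J₀ n h
  obtain ⟨e, -⟩ := exists_baseChange_equiv (Fib Q) J₀
  have he : J₀.map (algebraMap (FibPoly Q) (Fib Q)) = J := IsLocalization.map_under (fibPrime Q).primeCompl _ J
  let e' : (Fib Q ⊗[FibPoly Q] J₀) ≃ₗ[Fib Q] J := e.trans (LinearEquiv.ofEq _ _ he)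
  let i : ModuleCat.of (Fib Q) (Fib Q ⊗[FibPoly Q] J₀) ≅ ModuleCat.of (Fib Q) J :=
    { hom := ModuleCat.ofHom e'.toLinearMap
      inv := ModuleCat.ofHom e'.symm.toLinearMap
      hom_inv_id := ModuleCat.hom_ext (LinearMap.ext fun x => e'.symm_apply_apply x)
      inv_hom_id := ModuleCat.hom_ext (LinearMap.ext fun x => e'.apply_symm_apply x) }
  exact hasProjectiveDimensionLT_of_iso i (n + 1)

end Groth.Agent.LCI19
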