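import Groth.Agent.LCI19.FlatNhd
import Groth.Agent.LCI19.NLFlat
import Groth.Agent.LCI19.NLPerfect
import Groth.Agent.LCI19.FVasc
import Groth.Agent.Koszul19.Seq

/-! Flat algebras of finite presentation: tor amplitude of the naive cotangent complex detects lci. -/

universe u

open MvPolynomial IsLocalRing

namespace Groth.Agent.LCI19

variable {A B : Type u} [CommRing A] [CommRing B] [Algebra A B] {n : ℕ}

/-- the kernel of a presentation of a flat algebra meets `p[X]` in `p` times the kernel -/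
lemma mem_base_mul_of_flat [Module.Flat A B] (f : MvPolynomial (Fin n) A →ₐ[A] B) (hf : Function.Surjective f)
    (p : Ideal A) {y : MvPolynomial (Fin n) A} (hy : f y = 0)
    (hyp : y ∈ p.map (MvPolynomial.C : A →+* MvPolynomial (Fin n) A)) :
    y ∈ p.map (MvPolynomial.C : A →+* MvPolynomial (Fin n) A) * RingHom.ker f.toRingHom := by
  classical
  obtain ⟨l, hl, hly⟩ := Finsupp.mem_span_image_iff_linearCombination (MvPolynomial (Fin n) A) |>.1 hyp
  rw [Finsupp.linearCombination_apply, Finsupp.sum] at hly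
  have hsupp : ∀ a ∈ l.support, a ∈ p := fun a ha => (Finsupp.mem_supported _ _).1 hl ha
  have hrel : ∑ a : l.support, (a : A) • f (l a) = 0 := by
    rw [← hy, ← hly, map_sum, Finset.sum_coe_sort l.support (fun a => a • f (l a))]
    refine Finset.sum_congr rfl fun a _ => ?_
    rw [smul_eq_mul, map_mul, Algebra.smul_def, mul_comm, ← f.commutes, MvPolynomial.algebraMap_eq]
  obtain ⟨k, a, b, hb, ha⟩ := Module.Flat.isTrivialRelation_of_sum_smul_eq_zero (R := A) (M := B)
    (f := fun a : l.support => (a : A)) (x := fun a : l.support => f (l a)) hrel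
  choose w hw using fun j => hf (b j)
  have hv : ∀ i : l.support, l i - ∑ j, MvPolynomial.C (a i j) * w j ∈ RingHom.ker f.toRingHom := by
    intro i
    rw [RingHom.mem_ker]
    show f _ = 0
    rw [map_sub, map_sum, show f (l i) = _ from hb i, sub_eq_zero]
    refine Finset.sum_congr rfl fun j _ => ?_
    rw [map_mul, hw, ← MvPolynomial.algebraMap_eq, f.commutes, Algebra.smul_def]
  have hy2 : y = ∑ i : l.support, MvPolynomial.C (i : A) * (l i - ∑ j, MvPolynomial.C (a i j) * w j) := by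
    have h0 : ∑ i : l.support, MvPolynomial.C (i : A) * ∑ j, MvPolynomial.C (a i j) * w j = 0 := by
      simp only [Finset.mul_sum, ← mul_assoc, ← map_mul]
      rw [Finset.sum_comm]
      simp only [← Finset.sum_mul, ← map_sum, ha, map_zero, zero_mul, Finset.sum_const_zero]
    simp only [mul_sub, Finset.sum_sub_distrib, h0, sub_zero]
    rw [← hly, Finset.sum_coe_sort l.support (fun a => MvPolynomial.C a * l a)]
    exact Finset.sum_congr rfl fun a _ => mul_comm _ _
  rw [hy2]
  exact sum_mem fun i _ => Ideal.mul_mem_mul (Ideal.mem_map_of_mem _ (hsupp i i.2)) (hv i)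

set_option maxHeartbeats 300000

variable (Q : Ideal (MvPolynomial (Fin n) A)) [Q.IsPrime]

/-- elements of an extended ideal in the fibre -/
lemma exists_toFib_eq_mem {I : Ideal (MvPolynomial (Fin n) A)} {z : Fib Q} (hz : z ∈ I.map (toFib Q)) :
    ∃ y ∈ I, ∃ s, s ∉ Q ∧ z * toFib Q s = toFib Q y := by
  induction hz using Submodule.span_induction with
  | mem z hz =>
    obtain ⟨y, hy, rfl⟩ := hz
    exact ⟨y, hy, 1, fun h => Ideal.IsPrime.ne_top ‹_› ((Ideal.eq_top_iff_one _).2 h), by rw [map_one, mul_one]⟩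
  | zero => exact ⟨0, zero_mem _, 1, fun h => Ideal.IsPrime.ne_top ‹_› ((Ideal.eq_top_iff_one _).2 h), by simp⟩
  | add z₁ z₂ _ _ h₁ h₂ =>
    obtain ⟨y₁, hy₁, s₁, hs₁, e₁⟩ := h₁
    obtain ⟨y₂, hy₂, s₂, hs₂, e₂⟩ := h₂
    exact ⟨y₁ * s₂ + y₂ * s₁, add_mem (Ideal.mul_mem_right _ _ hy₁) (Ideal.mul_mem_right _ _ hy₂), s₁ * s₂,
      Ideal.IsPrime.mul_notMem ‹_› hs₁ hs₂, by rw [map_add, map_mul, map_mul, map_mul, ← e₁, ← e₂]; ring⟩
  | smul c z _ h =>
    obtain ⟨y, hy, s, hs, e⟩ := h
    obtain ⟨c', t, ht, e'⟩ := exists_toFib_eq Q c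
    exact ⟨c' * y, Ideal.mul_mem_left _ _ hy, t * s, Ideal.IsPrime.mul_notMem ‹_› ht hs,
      by rw [smul_eq_mul, map_mul, map_mul, ← e, ← e']; ring⟩

/-- at a point of a flat algebra with flat conormal module the kernel is cut out by a sequence regular on the fibre -/
lemma exists_fib_regular_generators [Module.Flat A B] (f : MvPolynomial (Fin n) A →ₐ[A] B)
    (hf : Function.Surjective f) (hfg : (RingHom.ker f.toRingHom).FG) (hQ : RingHom.ker f.toRingHom ≤ Q)
    (M : Type u) [AddCommGroup M] [Module B M] [Module.Flat B M] [Module.Finite B M]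
    (cls : RingHom.ker f.toRingHom →+ M) (hcls : Function.Surjective cls)
    (hsmul : ∀ (r : MvPolynomial (Fin n) A) (y : RingHom.ker f.toRingHom), cls (r • y) = f r • cls y)
    (hker : ∀ y, cls y = 0 → (y : MvPolynomial (Fin n) A) ∈ RingHom.ker f.toRingHom * RingHom.ker f.toRingHom) :
    ∃ (k : ℕ) (y : Fin k → MvPolynomial (Fin n) A), (∀ i, y i ∈ RingHom.ker f.toRingHom) ∧
      RingTheory.Sequence.IsWeaklyRegular (Fib Q) (List.ofFn (toFib Q ∘ y)) ∧
      ∃ g, g ∉ Q ∧ ∀ c ∈ RingHom.ker f.toRingHom, g * c ∈ Ideal.span (Set.range y) := by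
  classical
  let P := MvPolynomial (Fin n) A
  let I : Ideal P := RingHom.ker f.toRingHom
  let φ := toFib Q
  let J : Ideal (Fib Q) := I.map φ
  let mkJ : Fib Q →+* Fib Q ⧸ J := Ideal.Quotient.mk J
  let q : Ideal B := Q.map f.toRingHom
  have hqp : q.IsPrime := Ideal.map_isPrime_of_surjective hf hQ
  have hmem : ∀ x, f x ∈ q ↔ x ∈ Q := fun x => by
    show f.toRingHom x ∈ q ↔ _
    show x ∈ (Q.map f.toRingHom).comap f.toRingHom ↔ _
    rw [Ideal.comap_map_of_surjective' f.toRingHom hf, sup_eq_left.2 hQ]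
  -- a basis of the localised conormal module by integral elements
  let L := Localization.AtPrime q
  let MQ := LocalizedModule q.primeCompl M
  let ν : M →ₗ[B] MQ := LocalizedModule.mkLinearMap q.primeCompl M
  have : Module.Flat L MQ := inferInstance
  have : Module.Finite L MQ := inferInstance
  have : Module.Free L MQ := Module.free_of_flat_of_isLocalRing
  let k := Fintype.card (Module.Free.ChooseBasisIndex L MQ)
  let b₀ : Module.Basis (Fin k) L MQ := (Module.Free.chooseBasis L MQ).reindex (Fintype.equivFin _)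
  choose ms hms using fun i => IsLocalizedModule.surj q.primeCompl ν (b₀ i)
  let w : Fin k → Lˣ := fun i => (IsLocalization.map_units L (ms i).2).unit
  let b := b₀.unitsSMul w
  have hb : ∀ i, b i = ν (ms i).1 := fun i => by
    rw [Module.Basis.unitsSMul_apply, ← hms i, Units.smul_def, Submonoid.smul_def]
    exact algebraMap_smul L _ _
  choose a ha using fun i => hcls (ms i).1
  -- coordinates in the fibre
  let ψ₀ : B →+* Fib Q ⧸ J := RingHom.liftOfSurjective f.toRingHom hf ⟨mkJ.comp φ, fun x hx => by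
    rw [RingHom.mem_ker, RingHom.comp_apply]
    exact Ideal.Quotient.eq_zero_iff_mem.2 (Ideal.mem_map_of_mem _ hx)⟩
  have hψ₀ : ∀ x, ψ₀ (f x) = mkJ (φ x) := fun x => RingHom.liftOfRightInverse_comp_apply _ _ _ _ x
  have hψu : ∀ x : q.primeCompl, IsUnit (ψ₀ x) := by
    rintro ⟨x, hx⟩
    obtain ⟨x, rfl⟩ := hf x
    show IsUnit (ψ₀ (f x))
    rw [hψ₀]
    exact ((isUnit_toFib_iff Q x).2 fun h => hx ((hmem x).2 h)).map mkJ
  let ψ : L →+* Fib Q ⧸ J := IsLocalization.lift (M := q.primeCompl) (S := L) (P := Fib Q ⧸ J) hψu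
  let D₁ : M →+ (Fin k → Fib Q ⧸ J) := AddMonoidHom.mk' (fun m i => ψ (b.repr (ν m) i)) fun m m' => by
    ext i
    show ψ _ = ψ _ + ψ _
    rw [map_add ν, map_add b.repr, Finsupp.add_apply, map_add ψ]
  let D₀ : I →+ (Fin k → Fib Q ⧸ J) := D₁.comp cls
  have hD₀ : ∀ (r : P) (y : I), D₀ (r • y) = φ r • D₀ y := fun r y => by
    ext i
    show ψ (b.repr (ν (cls (r • y))) i) = φ r • ψ (b.repr (ν (cls y)) i)
    rw [hsmul, map_smul, ← algebraMap_smul L (f r), map_smul, Finsupp.smul_apply, smul_eq_mul, map_mul,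
      IsLocalization.lift_eq, hψ₀]
    rfl
  have hpr : ∀ r ∈ (fibBase Q).map (C : A →+* P), ∀ y : I, D₀ (r • y) = 0 := fun r hr y => by
    rw [hD₀, show φ r = 0 from toFib_eq_zero_of_mem Q hr, zero_smul]
  have hzero : ∀ y : I, φ (y : P) = 0 → D₀ y = 0 := by
    intro y hy
    have h1 := mem_base_mul_of_flat f hf (fibBase Q) (RingHom.mem_ker.1 y.2) (mem_map_of_toFib_eq_zero Q hy)
    suffices h : ∀ z ∈ (fibBase Q).map (C : A →+* P) * I, ∃ hz : z ∈ I, D₀ ⟨z, hz⟩ = 0 from (h _ h1).2
    intro z hz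
    refine Submodule.mul_induction_on hz (fun r hr c hc => ⟨I.mul_mem_left r hc, ?_⟩) ?_
    · exact (congrArg D₀ (Subtype.ext rfl)).trans (hpr r hr ⟨c, hc⟩)
    · rintro x y ⟨hx, hx'⟩ ⟨hy, hy'⟩
      refine ⟨add_mem hx hy, ?_⟩
      rw [show (⟨x + y, add_mem hx hy⟩ : I) = ⟨x, hx⟩ + ⟨y, hy⟩ from rfl, map_add, hx', hy', add_zero]
  have hu : ∀ s, s ∉ Q → IsUnit (φ s) := fun s hs => (isUnit_toFib_iff Q s).2 hs
  choose num hnum den hden hrep using fun z : J => exists_toFib_eq_mem Q z.2
  let P₁ : J → (Fin k → Fib Q ⧸ J) := fun z => ((hu _ (hden z)).unit⁻¹ : (Fib Q)ˣ) • D₀ ⟨num z, hnum z⟩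
  have hP₁ : ∀ (z : J) (y : I) (s : P), s ∉ Q → (z : Fib Q) * φ s = φ (y : P) → φ s • P₁ z = D₀ y := by
    intro z y s hs h
    have h0 : φ ((s • (⟨num z, hnum z⟩ : I) - den z • y : I) : P) = 0 := by
      show φ (s * num z - den z * (y : P)) = 0
      rw [map_sub, map_mul, map_mul, ← hrep z, ← h]
      ring
    have h1 := hzero _ h0
    rw [map_sub, hD₀, hD₀, sub_eq_zero] at h1
    refine (hu _ (hden z)).smul_left_cancel.1 ?_
    rw [smul_comm, ← h1]
    congr 1
    show φ (den z) • ((hu _ (hden z)).unit⁻¹ : (Fib Q)ˣ) • D₀ _ = _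
    rw [Units.smul_def, smul_smul, IsUnit.mul_val_inv, one_smul]
  let P₀ : J →ₗ[Fib Q] (Fin k → Fib Q ⧸ J) :=
    { toFun := P₁
      map_add' := fun z z' => by
        refine ((hu _ (hden z)).mul (hu _ (hden z'))).smul_left_cancel.1 ?_
        rw [← map_mul, hP₁ (z + z') (den z' • (⟨num z, hnum z⟩ : I) + den z • ⟨num z', hnum z'⟩) _
          (Ideal.IsPrime.mul_notMem ‹_› (hden z) (hden z')) (by
            show ((z : Fib Q) + z') * _ = φ (den z' * num z + den z * num z')
            rw [map_add, map_mul, map_mul, map_mul, ← hrep, ← hrep]; ring),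
          map_add, hD₀, hD₀, ← hP₁ z ⟨num z, hnum z⟩ _ (hden z) (hrep z),
          ← hP₁ z' ⟨num z', hnum z'⟩ _ (hden z') (hrep z'), map_mul, smul_smul, smul_smul, mul_comm (φ (den z')),
          smul_add]
      map_smul' := fun c z => by
        obtain ⟨c', t, ht, hc⟩ := exists_toFib_eq Q c
        refine ((hu _ ht).mul (hu _ (hden z))).smul_left_cancel.1 ?_
        rw [← map_mul, hP₁ (c • z) (c' • (⟨num z, hnum z⟩ : I)) _
          (Ideal.IsPrime.mul_notMem ‹_› ht (hden z)) (by
            show (c * (z : Fib Q)) * _ = φ (c' * num z)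
            rw [map_mul, map_mul, ← hc, ← hrep]; ring),
          hD₀, ← hP₁ z ⟨num z, hnum z⟩ _ (hden z) (hrep z), map_mul, RingHom.id_apply, smul_smul, smul_smul,
          ← hc]
        congr 1; ring }
  let a' : Fin k → J := fun i => ⟨φ (a i : P), Ideal.mem_map_of_mem _ (a i).2⟩
  have hone : (1 : P) ∉ Q := fun h => Ideal.IsPrime.ne_top ‹_› ((Ideal.eq_top_iff_one _).2 h)
  have hPa : ∀ i, P₀ (a' i) = Pi.single i 1 := fun i => by
    have := hP₁ (a' i) (a i) 1 hone (by rw [map_one, mul_one])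
    rw [map_one, one_smul] at this
    refine this.trans ?_
    ext j
    show ψ (b.repr (ν (cls (a i))) j) = _
    rw [ha, ← hb, Module.Basis.repr_self, Finsupp.single_apply, Pi.single_apply]
    by_cases hij : i = j
    · subst hij; simp
    · rw [if_neg hij, if_neg fun h => hij h.symm, map_zero]
  have hJle : J ≤ maximalIdeal (Fib Q) := Ideal.map_le_iff_le_comap.2 fun y hy h => (isUnit_toFib_iff Q y).1 h (hQ hy)
  have hJne : J ≠ ⊤ := fun h => (maximalIdeal.isMaximal (Fib Q)).ne_top (top_le_iff.1 (h ▸ hJle))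
  obtain ⟨x, hxa, hxreg⟩ := exists_regular_lift k (Fib Q) J hJne n (hasPD_fib Q J) a' P₀ hPa
  have hxJ : ∀ i, x i ∈ J := fun i => by
    have := add_mem (Ideal.mul_le_right (hxa i)) (a' i).2
    rwa [sub_add_cancel] at this
  -- the sequence generates `J`
  have hgenJ : J ≤ Ideal.span (Set.range x) := by
    refine Submodule.le_of_le_smul_of_le_jacobson_bot (IsNoetherian.noetherian J) (maximalIdeal_le_jacobson ⊥) ?_
    refine le_trans ?_ (sup_le_sup_left (Ideal.mul_mono_left hJle) _ :
      Ideal.span (Set.range x) ⊔ J * J ≤ _ ⊔ maximalIdeal (Fib Q) * J)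
    refine Ideal.map_le_iff_le_comap.2 fun y hy => ?_
    rw [Ideal.mem_comap]
    have hr : ν (cls ⟨y, hy⟩) = ∑ i, b.repr (ν (cls ⟨y, hy⟩)) i • ν (ms i).1 := by
      conv_lhs => rw [← b.sum_repr (ν (cls ⟨y, hy⟩))]
      simp only [hb]
    obtain ⟨d, hd⟩ := IsLocalization.exist_integer_multiples_of_finite q.primeCompl
      (fun i => b.repr (ν (cls ⟨y, hy⟩)) i)
    choose e he using hd
    have h2 : ν ((d : B) • cls ⟨y, hy⟩) = ν (∑ i, e i • (ms i).1) := by
      rw [map_smul, hr, map_sum, Finset.smul_sum]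
      refine Finset.sum_congr rfl fun i _ => ?_
      rw [map_smul, ← algebraMap_smul L (e i), he i, ← smul_assoc]
    obtain ⟨c, hc⟩ := (IsLocalizedModule.eq_iff_exists q.primeCompl ν).1 h2
    obtain ⟨d', hd'⟩ := hf (d : B)
    obtain ⟨c', hc'⟩ := hf (c : B)
    choose e' he' using fun i => hf (e i)
    have h3 : cls (c' • (d' • (⟨y, hy⟩ : I) - ∑ i, e' i • a i)) = 0 := by
      rw [hsmul, map_sub, map_sum, hsmul, hd', hc']
      simp only [hsmul, he', ha]
      rw [smul_sub, sub_eq_zero]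
      exact hc
    have h4 : φ ((c' • (d' • (⟨y, hy⟩ : I) - ∑ i, e' i • a i) : I) : P) ∈ J * J := by
      rw [← Ideal.map_mul]
      exact Ideal.mem_map_of_mem _ (hker _ h3)
    have hcu : IsUnit (φ c') := hu _ fun h => c.2 (hc' ▸ (hmem c').2 h)
    have hdu : IsUnit (φ d') := hu _ fun h => d.2 (hd' ▸ (hmem d').2 h)
    simp only [Submodule.coe_smul, Submodule.coe_sub, AddSubmonoidClass.coe_finsetSum, smul_eq_mul, map_mul,
      map_sub, map_sum] at h4
    have h5 := (Ideal.unit_mul_mem_iff_mem _ hcu).1 h4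
    refine (Ideal.unit_mul_mem_iff_mem _ hdu).1 ?_
    rw [← sub_add_cancel (φ d' * φ y) (∑ i, φ (e' i) * φ (a i))]
    refine add_mem (Submodule.mem_sup_right h5) (sum_mem fun i _ => Ideal.mul_mem_left _ _ ?_)
    rw [show φ (a i : P) = x i - (x i - φ (a i : P)) by ring]
    exact sub_mem (Submodule.mem_sup_left (Ideal.subset_span ⟨i, rfl⟩)) (Submodule.mem_sup_right (hxa i))
  choose y hy s hs hxs using fun i => exists_toFib_eq_mem Q (hxJ i)
  have hfun : toFib Q ∘ y = fun i => (hu _ (hs i)).unit * x i := funext fun i => by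
    rw [IsUnit.unit_spec, Function.comp_apply, ← hxs i, mul_comm]
  refine ⟨k, y, hy, ?_, ?_⟩
  · have hr := (isWeaklyRegular_ofFn_iff x).1 hxreg.toIsWeaklyRegular
    rw [hfun, isWeaklyRegular_ofFn_iff]
    intro i z hz
    rw [span_image_mul_units x fun i => (hu _ (hs i)).unit] at hz ⊢
    rw [mul_assoc] at hz
    exact hr i z ((Ideal.unit_mul_mem_iff_mem _ (Units.isUnit _)).1 hz)
  · -- the sequence generates near `Q`
    have hgen : J ≤ Ideal.span (Set.range (φ ∘ y)) := by
      refine hgenJ.trans (le_of_eq ?_)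
      rw [hfun, ← Set.image_univ, ← Set.image_univ, span_image_mul_units x fun i => (hu _ (hs i)).unit]
    let P' := Localization.AtPrime Q
    let al := algebraMap P P'
    let S : Ideal P := Ideal.span (Set.range y)
    have hle : I.map al ≤ S.map al := by
      refine Submodule.le_of_le_smul_of_le_jacobson_bot (hfg.map al) (maximalIdeal_le_jacobson ⊥) ?_
      refine Ideal.map_le_iff_le_comap.2 fun c hc => ?_
      rw [Ideal.mem_comap]
      have h1 := hgen (Ideal.mem_map_of_mem φ hc)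
      rw [Set.range_comp, ← Ideal.map_span] at h1
      obtain ⟨y', hy', t, ht, e⟩ := exists_toFib_eq_mem Q h1
      have hy'I : y' ∈ I := (Ideal.span_le.2 (Set.range_subset_iff.2 hy)) hy'
      have h2 := mem_base_mul_of_flat f hf (fibBase Q) (y := t * c - y')
        (RingHom.mem_ker.1 (sub_mem (I.mul_mem_left t hc) hy'I))
        (mem_map_of_toFib_eq_zero Q (by rw [map_sub, map_mul, ← e, mul_comm, sub_self]))
      have hpQ : (fibBase Q).map (C : A →+* P) ≤ Q := Ideal.map_comap_le
      have h3 := Ideal.mem_map_of_mem al (Ideal.mul_mono_left hpQ h2)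
      rw [Ideal.map_mul, Localization.AtPrime.map_eq_maximalIdeal] at h3
      have h4 : al t * al c ∈ S.map al ⊔ maximalIdeal P' • I.map al := by
        rw [← map_mul, ← sub_add_cancel (t * c) y', map_add]
        exact add_mem (Submodule.mem_sup_right h3) (Submodule.mem_sup_left (Ideal.mem_map_of_mem _ hy'))
      exact (Ideal.unit_mul_mem_iff_mem _ (IsLocalization.map_units P' (⟨t, ht⟩ : Q.primeCompl))).1 h4
    obtain ⟨G, hG⟩ := hfg
    have hG' : ∀ c ∈ G, ∃ t, t ∉ Q ∧ t * c ∈ S := fun c hc =>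
      (IsLocalization.algebraMap_mem_map_algebraMap_iff Q.primeCompl P' S c).1
        (hle (Ideal.mem_map_of_mem _ (show c ∈ I from (show Ideal.span (G : Set P) = I from hG) ▸ Ideal.subset_span hc)))
    choose t ht htc using hG'
    refine ⟨∏ c : G, t c c.2, fun h => ?_, fun c hc => ?_⟩
    · obtain ⟨c, -, hcQ⟩ := Ideal.IsPrime.prod_mem_iff.1 h
      exact ht c c.2 hcQ
    · suffices H : Ideal.span (G : Set P) ≤ S.colon {∏ d : G, t d d.2} by
        have := H (hG.ge hc)
        rwa [Submodule.mem_colon_singleton, smul_eq_mul, mul_comm] at this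
      refine Ideal.span_le.2 fun d hd => ?_
      obtain ⟨r, hr⟩ := Finset.dvd_prod_of_mem (fun c : G => t c c.2) (Finset.mem_univ ⟨d, hd⟩)
      rw [SetLike.mem_coe, Submodule.mem_colon_singleton, smul_eq_mul, hr, ← mul_assoc, mul_comm d]
      exact Ideal.mul_mem_right _ _ (htc d hd)

attribute [local instance] HasDerivedCategory.standard

open Algebra in
theorem nl_ta_iff_isLCI_of_flat [Module.Flat A B] [Algebra.FinitePresentation A B] :
    DRing.HasTorAmplitudeIn B (-1) 0 (LCI.NL A B) ↔ LCI.IsLCI A B := by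
  refine ⟨fun h => ⟨inferInstance, ?_⟩, fun h => (nl_perfect_of_isLCI h).2⟩
  obtain ⟨n, f, hf⟩ := Algebra.FiniteType.iff_quotient_mvPolynomial''.1 (inferInstance : Algebra.FiniteType A B)
  refine ⟨n, f, hf, ?_⟩
  let P : Generators A B (Fin n) := Generators.ofAlgHom f hf
  have hval : MvPolynomial.aeval P.val = f := MvPolynomial.algHom_ext fun i => by simp [P, Generators.ofAlgHom]
  have hk : P.toExtension.ker = RingHom.ker f.toRingHom := by
    ext x
    simp only [Extension.ker, RingHom.mem_ker]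
    rw [← hval]
    rfl
  have hfg : (RingHom.ker f.toRingHom).FG := Algebra.FinitePresentation.ker_fG_of_surjective f hf
  have hfg' : P.toExtension.ker.FG := hk ▸ hfg
  have : Module.Finite B P.toExtension.Cotangent := Extension.Cotangent.finite hfg'
  have := flat_cotangent_of_ta P h
  let toK : RingHom.ker f.toRingHom →+ P.toExtension.ker :=
    { toFun := fun y => ⟨y.1, hk.symm ▸ y.2⟩
      map_zero' := rfl
      map_add' := fun _ _ => rfl }
  let cls : RingHom.ker f.toRingHom →+ P.toExtension.Cotangent :=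
    (Extension.Cotangent.mk (P := P.toExtension)).toAddMonoidHom.comp toK
  intro p hp
  have : p.asIdeal.IsPrime := p.isPrime
  obtain ⟨k, y, hy, hreg, g', hg', hgen⟩ := exists_fib_regular_generators p.asIdeal f hf hfg hp
    P.toExtension.Cotangent cls
    (fun m => by
      obtain ⟨z, rfl⟩ := Extension.Cotangent.mk_surjective m
      exact ⟨⟨z.1, hk ▸ z.2⟩, rfl⟩)
    (fun r z => by
      have hfr : f r = algebraMap P.toExtension.Ring B r := by rw [← hval]; rfl
      rw [hfr, algebraMap_smul]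
      exact (Extension.Cotangent.mk (P := P.toExtension)).map_smul r (toK z))
    (fun z hz => by
      have := (Extension.Cotangent.mk_eq_zero_iff (toK z)).1 hz
      rw [pow_two] at this
      exact SetLike.le_def.1 (congrArg (fun I => I * I) hk).le this)
  obtain ⟨g, hg, hG⟩ := exists_isWeaklyRegular_away p.asIdeal y (fun i => hp (hy i)) hreg
  refine ⟨g * g', Ideal.IsPrime.mul_notMem ‹_› hg hg', _,
    (Koszul19.kR_iff _).1 (Koszul19.kR_of_isWeaklyRegular _ (hG _ (Dvd.intro g' rfl))), ?_⟩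
  show _ = Ideal.span {x | x ∈ List.ofFn _}
  simp only [List.mem_ofFn]
  show _ = Ideal.span (Set.range _)
  let al := algebraMap (MvPolynomial (Fin n) A) (Localization.Away (g * g'))
  rw [Set.range_comp, ← Ideal.map_span]
  refine le_antisymm (Ideal.map_le_iff_le_comap.2 fun c hc => ?_)
    (Ideal.map_mono (Ideal.span_le.2 (Set.range_subset_iff.2 hy)))
  rw [Ideal.mem_comap]
  refine (Ideal.unit_mul_mem_iff_mem _ (isUnit_of_dvd_unit (map_dvd al (Dvd.intro_left g rfl : g' ∣ g * g'))
    (IsLocalization.Away.algebraMap_isUnit _))).1 ?_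
  rw [← map_mul]
  exact Ideal.mem_map_of_mem _ (hgen c hc)

end Groth.Agent.LCI19
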