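import Groth.Agent.LCI19.Fibre
import Groth.Agent.FlatCrit65.Injective
import Groth.Agent.EtAlg23.GlueFlat
import Mathlib.RingTheory.Adjoin.Basic
import Mathlib.RingTheory.FiniteType
import Mathlib.RingTheory.Flat.Localization

/-! A sequence regular on the fibre is regular (polynomials over an arbitrary base). -/

universe u

open MvPolynomial IsLocalRing TensorProduct

namespace Groth.Agent.LCI19

/-- regular sequences on a fibre of a flat local map of Noetherian local rings -/
lemma flat_quotient_of_fibre {R S : Type u} [CommRing R] [IsLocalRing R] [CommRing S]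
    [IsNoetherianRing S] [IsLocalRing S] [Algebra R S] [Module.Flat R S]
    (hm : (maximalIdeal R).map (algebraMap R S) ≤ maximalIdeal S) {k : ℕ} (f : Fin k → S)
    (hf : ∀ (i : Fin k) (z : S), f i * z ∈ Ideal.span (f '' Set.Iio i) ⊔ (maximalIdeal R).map (algebraMap R S) →
      z ∈ Ideal.span (f '' Set.Iio i) ⊔ (maximalIdeal R).map (algebraMap R S)) :
    ∀ i : Fin k, (∀ z, f i * z ∈ Ideal.span (f '' Set.Iio i) → z ∈ Ideal.span (f '' Set.Iio i)) ∧
      Module.Flat R (S ⧸ Ideal.span (f '' Set.Iic i)) := by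
  suffices h : ∀ (j : ℕ) (hj : j ≤ k), Module.Flat R (S ⧸ Ideal.span (f '' {i | (i : ℕ) < j})) ∧
      ∀ (i : Fin k), (i : ℕ) < j → ∀ z, f i * z ∈ Ideal.span (f '' Set.Iio i) → z ∈ Ideal.span (f '' Set.Iio i) by
    intro i
    have := h (i + 1) i.2
    refine ⟨this.2 i (by omega), ?_⟩
    have e : Set.Iic i = {l : Fin k | (l : ℕ) < i + 1} := by
      ext l
      simp only [Set.mem_Iic, Set.mem_ofPred_eq, Fin.le_def]
      omega
    rw [e]
    exact this.1
  intro j hj
  induction j with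
  | zero =>
    refine ⟨?_, fun i hi => absurd hi (Nat.not_lt_zero _)⟩
    have e : Ideal.span (f '' {i : Fin k | (i : ℕ) < 0}) = ⊥ := by simp
    exact Module.Flat.of_linearEquiv
      (((Submodule.quotEquivOfEq _ _ e).trans (Submodule.quotEquivOfEqBot _ rfl)).restrictScalars R)
  | succ j ih =>
    obtain ⟨hflat, hreg⟩ := ih (by omega)
    let i : Fin k := ⟨j, by omega⟩
    have hset : {l : Fin k | (l : ℕ) < j} = Set.Iio i := by ext l; simp [i, Fin.lt_def]
    rw [hset] at hflat
    let J := Ideal.span (f '' Set.Iio i)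
    let J' := Ideal.span (f '' {l : Fin k | (l : ℕ) < j + 1})
    let u : (S ⧸ J) →ₗ[R] (S ⧸ J) := LinearMap.mulLeft R (Ideal.Quotient.mk J (f i))
    have hmem : ∀ x : S, Ideal.Quotient.mk J x ∈ maximalIdeal R • (⊤ : Submodule R (S ⧸ J)) ↔
        x ∈ J ⊔ (maximalIdeal R).map (algebraMap R S) := by
      intro x
      rw [Ideal.smul_top_eq_map, Submodule.restrictScalars_mem, IsScalarTower.algebraMap_eq R S (S ⧸ J),
        ← Ideal.map_map]
      show Ideal.Quotient.mk J x ∈ Ideal.map (Ideal.Quotient.mk J) _ ↔ _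
      rw [← Ideal.mem_comap, Ideal.comap_map_of_surjective _ Ideal.Quotient.mk_surjective,
        ← RingHom.ker_eq_comap_bot, Ideal.mk_ker, sup_comm]
    have hu : Function.Injective (u.lTensor (R ⧸ maximalIdeal R)) := by
      rw [injective_iff_map_eq_zero]
      intro t ht
      obtain ⟨x, rfl⟩ : ∃ x : S ⧸ J, (1 : R ⧸ maximalIdeal R) ⊗ₜ[R] x = t :=
        TensorProduct.mk_surjective R (S ⧸ J) (R ⧸ maximalIdeal R) Ideal.Quotient.mk_surjective t
      obtain ⟨x, rfl⟩ := Ideal.Quotient.mk_surjective x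
      rw [LinearMap.lTensor_tmul, FlatCrit65.one_tmul_eq_zero_iff] at ht
      rw [FlatCrit65.one_tmul_eq_zero_iff, hmem]
      apply hf i
      rw [← hmem, map_mul]
      exact ht
    obtain ⟨hinj, hq⟩ := FlatCrit65.injective_and_flat_quotient (S := S) (maximalIdeal R)
      (hm.trans (maximalIdeal_le_jacobson _)) u hu
    have hregi : ∀ z, f i * z ∈ J → z ∈ J := by
      intro z hz
      rw [← Ideal.Quotient.eq_zero_iff_mem] at hz ⊢
      apply hinj
      rw [map_zero]
      show Ideal.Quotient.mk J (f i) * Ideal.Quotient.mk J z = 0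
      rw [← map_mul]
      exact hz
    refine ⟨?_, fun l hl => ?_⟩
    · have hJJ : J ≤ J' := Ideal.span_mono (Set.image_mono fun l hl => Nat.lt_succ_of_lt hl)
      let g : (S ⧸ J) →ₗ[R] (S ⧸ J') := (Ideal.Quotient.factorₐ R hJJ).toLinearMap
      have hg : Function.Surjective g := Ideal.Quotient.factor_surjective hJJ
      have hker : LinearMap.ker g = LinearMap.range u := by
        refine le_antisymm (fun x hx => ?_) ?_
        · obtain ⟨x, rfl⟩ := Ideal.Quotient.mk_surjective x
          have hx' : x ∈ J' := Ideal.Quotient.eq_zero_iff_mem.1 hx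
          have hset' : {l : Fin k | (l : ℕ) < j + 1} = Set.Iio i ∪ {i} := by
            ext l
            simp only [i, Set.mem_union, Set.mem_Iio, Set.mem_singleton_iff, Fin.lt_def, Fin.ext_iff, Set.mem_ofPred_eq]
            omega
          have hJ' : J' = J ⊔ Ideal.span {f i} := by
            show Ideal.span _ = _
            rw [hset', Set.image_union, Set.image_singleton, Ideal.span_union]
          rw [hJ', Submodule.mem_sup] at hx'
          obtain ⟨y, hy, z, hz, rfl⟩ := hx'
          obtain ⟨c, rfl⟩ := Ideal.mem_span_singleton'.1 hz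
          refine ⟨Ideal.Quotient.mk J c, ?_⟩
          show Ideal.Quotient.mk J (f i) * Ideal.Quotient.mk J c = Ideal.Quotient.mk J (y + c * f i)
          rw [map_add, Ideal.Quotient.eq_zero_iff_mem.2 hy, zero_add, map_mul, mul_comm]
        · rintro _ ⟨x, rfl⟩
          obtain ⟨x, rfl⟩ := Ideal.Quotient.mk_surjective x
          show Ideal.Quotient.factor hJJ (Ideal.Quotient.mk J (f i) * Ideal.Quotient.mk J x) = 0
          rw [← map_mul, Ideal.Quotient.factor_mk, Ideal.Quotient.eq_zero_iff_mem]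
          exact Ideal.mul_mem_right _ _ (Ideal.subset_span ⟨i, Nat.lt_succ_self j, rfl⟩)
      exact Module.Flat.of_linearEquiv
        ((g.quotKerEquivOfSurjective hg).symm.trans (Submodule.quotEquivOfEq _ _ hker))
    · rcases Nat.lt_succ_iff_lt_or_eq.1 hl with hl | hl
      · exact hreg l hl
      · obtain rfl : l = i := Fin.ext hl
        exact hregi

lemma regular_and_flat_at_point {A : Type u} [CommRing A] {A₀ : Type u} [CommRing A₀] [IsNoetherianRing A₀]
    [Algebra A₀ A] {n : ℕ} (Q : Ideal (MvPolynomial (Fin n) A))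
    [Q.IsPrime] {k : ℕ} (f₀ : Fin k → MvPolynomial (Fin n) A₀)
    (h : RingTheory.Sequence.IsWeaklyRegular (Fib Q)
      (List.ofFn (toFib Q ∘ fun i => MvPolynomial.map (algebraMap A₀ A) (f₀ i)))) (i : Fin k) :
    let S := Localization.AtPrime (Q.comap (MvPolynomial.map (algebraMap A₀ A)))
    let g : Fin k → S := fun j => algebraMap (MvPolynomial (Fin n) A₀) S (f₀ j)
    (∀ z, g i * z ∈ Ideal.span (g '' Set.Iio i) → z ∈ Ideal.span (g '' Set.Iio i)) ∧
      Module.Flat A₀ (S ⧸ Ideal.span (g '' Set.Iic i)) := by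
  classical
  intro S' g'
  let ι : MvPolynomial (Fin n) A₀ →+* MvPolynomial (Fin n) A := MvPolynomial.map (algebraMap A₀ A)
  let Q₀ := Q.comap ι
  -- the map between the fibres
  let ψ : (fibBase Q₀).ResidueField →+* (fibBase Q).ResidueField :=
    Ideal.ResidueField.map (fibBase Q₀) (fibBase Q) (algebraMap A₀ A) (by
      show Q₀.comap MvPolynomial.C = (Q.comap MvPolynomial.C).comap (algebraMap A₀ A)
      rw [Ideal.comap_comap, Ideal.comap_comap]
      congr 1
      ext x
      simp [ι])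
  let Ψ : FibPoly Q₀ →+* FibPoly Q := MvPolynomial.map ψ
  have hΨ : ∀ y, Ψ (fibMap Q₀ y) = fibMap Q (ι y) := by
    intro y
    simp only [Ψ, ι, MvPolynomial.map_map]
    congr 2
    ext a
    exact Ideal.ResidueField.map_algebraMap _ _ _ _ _
  have hover : fibPrime Q₀ = (fibPrime Q).comap Ψ := by
    have hsame : ∀ y, fibMap Q₀ y ∈ fibPrime Q₀ ↔ fibMap Q₀ y ∈ (fibPrime Q).comap Ψ := fun y => by
      rw [Ideal.mem_comap, hΨ, fibMap_mem_iff, fibMap_mem_iff]
      rfl
    ext v
    obtain ⟨b, y, hb, hy⟩ := exists_denom Q₀ v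
    have hb' : fibMap Q₀ (C b) ∉ fibPrime Q₀ := fun h => hb ((fibMap_mem_iff Q₀ _).1 h)
    have hb'' : fibMap Q₀ (C b) ∉ (fibPrime Q).comap Ψ := fun h => hb' ((hsame _).2 h)
    constructor
    · intro hv
      have := (hsame y).1 (hy ▸ Ideal.mul_mem_left _ _ hv)
      rw [← hy] at this
      exact (Ideal.IsPrime.mem_or_mem inferInstance this).resolve_left hb''
    · intro hv
      have := (hsame y).2 (hy ▸ Ideal.mul_mem_left _ _ hv)
      rw [← hy] at this
      exact (Ideal.IsPrime.mem_or_mem inferInstance this).resolve_left hb'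
  let θ : Fib Q₀ →+* Fib Q := Localization.localRingHom (fibPrime Q₀) (fibPrime Q) Ψ hover
  let : Algebra (Fib Q₀) (Fib Q) := θ.toAlgebra
  have : Module.FaithfullyFlat (Fib Q₀) (Fib Q) := by
    let : Algebra (fibBase Q₀).ResidueField (fibBase Q).ResidueField := ψ.toAlgebra
    let : Algebra (FibPoly Q₀) (FibPoly Q) := MvPolynomial.algebraMvPolynomial
    have : Algebra.IsPushout (fibBase Q₀).ResidueField (fibBase Q).ResidueField (FibPoly Q₀) (FibPoly Q) :=
      inferInstance
    have : Algebra.IsPushout (fibBase Q₀).ResidueField (FibPoly Q₀) (fibBase Q).ResidueField (FibPoly Q) :=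
      this.symm
    have : Module.Flat (FibPoly Q₀) (FibPoly Q) :=
      Module.Flat.isBaseChange (fibBase Q₀).ResidueField (FibPoly Q₀) (fibBase Q).ResidueField (FibPoly Q)
        (Algebra.IsPushout.out (R := (fibBase Q₀).ResidueField) (S := FibPoly Q₀) (R' := (fibBase Q).ResidueField))
    have : (fibPrime Q).LiesOver (fibPrime Q₀) := ⟨hover⟩
    have : Localization.AtPrime.IsLiesOverAlgebra (fibPrime Q₀) (fibPrime Q) := ⟨rfl⟩
    have : Module.Flat (Fib Q₀) (Fib Q) := inferInstance
    have : IsLocalHom (algebraMap (Fib Q₀) (Fib Q)) :=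
      (inferInstance : IsLocalHom (Localization.localRingHom (fibPrime Q₀) (fibPrime Q) Ψ hover))
    exact Module.FaithfullyFlat.of_flat_of_isLocalHom
  have hθ : ∀ y, θ (toFib Q₀ y) = toFib Q (ι y) := fun y => by
    show θ (algebraMap _ _ (fibMap Q₀ y)) = algebraMap _ _ (fibMap Q (ι y))
    rw [Localization.localRingHom_to_map, hΨ]
  -- the Noetherian local rings
  let p₀ : Ideal A₀ := fibBase Q₀
  let R := Localization.AtPrime p₀
  let S := Localization.AtPrime Q₀
  have : Q₀.LiesOver p₀ := ⟨rfl⟩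
  let : Algebra R S := Localization.AtPrime.algebraOfLiesOver p₀ Q₀
  have : Localization.AtPrime.IsLiesOverAlgebra p₀ Q₀ := ⟨rfl⟩
  have : IsScalarTower A₀ R S := IsScalarTower.of_algebraMap_eq fun a => by
    rw [IsScalarTower.algebraMap_apply A₀ (MvPolynomial (Fin n) A₀) S]
    exact (Localization.localRingHom_to_map p₀ Q₀ _ Ideal.LiesOver.over a).symm
  let χ : S →+* Fib Q₀ := IsLocalization.lift (M := Q₀.primeCompl) (g := toFib Q₀) fun y =>
    (isUnit_toFib_iff Q₀ _).2 y.2
  have hmS : (maximalIdeal R).map (algebraMap R S) =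
      ((fibBase Q₀).map (MvPolynomial.C : A₀ →+* MvPolynomial (Fin n) A₀)).map (algebraMap _ S) := by
    rw [← Localization.AtPrime.map_eq_maximalIdeal, Ideal.map_map, Ideal.map_map, ← IsScalarTower.algebraMap_eq,
      IsScalarTower.algebraMap_eq A₀ (MvPolynomial (Fin n) A₀) S]
    rfl
  have hχker : RingHom.ker χ = (maximalIdeal R).map (algebraMap R S) := by
    rw [hmS]
    refine le_antisymm (fun z hz => ?_) (Ideal.map_le_iff_le_comap.2 fun y hy => ?_)
    · obtain ⟨⟨y, t⟩, hyt⟩ := IsLocalization.surj Q₀.primeCompl z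
      refine (Ideal.mul_unit_mem_iff_mem _ (IsLocalization.map_units S t)).1 ?_
      rw [hyt]
      refine Ideal.mem_map_of_mem _ (mem_map_of_toFib_eq_zero Q₀ ?_)
      have := congrArg χ hyt
      rw [map_mul, RingHom.mem_ker.1 hz, zero_mul, IsLocalization.lift_eq] at this
      exact this.symm
    · rw [Ideal.mem_comap, RingHom.mem_ker, IsLocalization.lift_eq]
      exact toFib_eq_zero_of_mem Q₀ hy
  have hχsurj : Function.Surjective χ := by
    intro z
    obtain ⟨y, t, ht, he⟩ := exists_toFib_eq Q₀ z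
    refine ⟨IsLocalization.mk' S y (⟨t, ht⟩ : Q₀.primeCompl), ((isUnit_toFib_iff Q₀ t).2 ht).mul_left_inj.1 ?_⟩
    rw [he, show toFib Q₀ t = χ (algebraMap _ S ((⟨t, ht⟩ : Q₀.primeCompl) : MvPolynomial (Fin n) A₀)) from
      (IsLocalization.lift_eq _ _).symm, ← map_mul, IsLocalization.mk'_spec, IsLocalization.lift_eq]
  let g : Fin k → S := fun i => algebraMap _ S (f₀ i)
  have hq := flat_quotient_of_fibre (R := R) (by
      rw [hmS]
      refine Ideal.map_le_iff_le_comap.2 fun y hy => ?_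
      rw [Ideal.mem_comap, IsLocalization.AtPrime.to_map_mem_maximal_iff S Q₀]
      exact (Ideal.map_le_iff_le_comap.2 le_rfl) hy) g (by
    intro i z hz
    rw [← hχker] at hz ⊢
    have hcm : ∀ w, w ∈ Ideal.span (g '' Set.Iio i) ⊔ RingHom.ker χ ↔
        χ w ∈ Ideal.span ((toFib Q₀ ∘ f₀) '' Set.Iio i) := by
      intro w
      rw [RingHom.ker_eq_comap_bot, ← Ideal.comap_map_of_surjective χ hχsurj, Ideal.mem_comap, Ideal.map_span,
        ← Set.image_comp]
      simp [g, χ, Function.comp_def]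
    rw [hcm] at hz ⊢
    rw [map_mul, show χ (g i) = toFib Q₀ (f₀ i) from IsLocalization.lift_eq _ _] at hz
    have hmapθ : (Ideal.span ((toFib Q₀ ∘ f₀) '' Set.Iio i)).map θ =
        Ideal.span ((toFib Q ∘ fun i => ι (f₀ i)) '' Set.Iio i) := by
      rw [Ideal.map_span, ← Set.image_comp]
      simp [hθ, Function.comp_def]
    have h1 := (isWeaklyRegular_ofFn_iff _).1 h i (θ (χ z)) (by
      rw [← hmapθ, Function.comp_apply, ← hθ, ← map_mul]
      exact Ideal.mem_map_of_mem θ hz)
    rw [← hmapθ] at h1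
    rw [← Ideal.comap_map_eq_self_of_faithfullyFlat (B := Fib Q) (Ideal.span ((toFib Q₀ ∘ f₀) '' Set.Iio i))]
    exact h1)
  refine ⟨(hq i).1, ?_⟩
  have := (hq i).2
  exact Module.Flat.trans A₀ R _

/-- injectivity with flat cokernel survives base change -/
lemma mem_map_includeRight {A A₀ S : Type u} [CommRing A] [CommRing A₀] [CommRing S] [Algebra A₀ A] [Algebra A₀ S]
    {J J₁ : Ideal S} {g : S} (hg : ∀ z, g * z ∈ J → z ∈ J) (hJ₁ : J₁ = Ideal.span {g} ⊔ J)
    [Module.Flat A₀ (S ⧸ J₁)] (x : A ⊗[A₀] S)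
    (hx : (1 : A) ⊗ₜ[A₀] g * x ∈ J.map (Algebra.TensorProduct.includeRight : S →ₐ[A₀] A ⊗[A₀] S)) :
    x ∈ J.map (Algebra.TensorProduct.includeRight : S →ₐ[A₀] A ⊗[A₀] S) := by
  let u : (S ⧸ J) →ₗ[A₀] (S ⧸ J) := LinearMap.mulLeft A₀ (Ideal.Quotient.mk J g)
  have hu : Function.Injective u := by
    rw [injective_iff_map_eq_zero]
    intro z hz
    obtain ⟨z, rfl⟩ := Ideal.Quotient.mk_surjective z
    refine Ideal.Quotient.eq_zero_iff_mem.2 (hg z ?_)
    rw [← Ideal.Quotient.eq_zero_iff_mem, map_mul]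
    exact hz
  have hJJ : J ≤ J₁ := hJ₁ ▸ le_sup_right
  let q : (S ⧸ J) →ₗ[A₀] (S ⧸ J₁) := (Ideal.Quotient.factorₐ A₀ hJJ).toLinearMap
  have hex : Function.Exact u q := by
    intro z
    obtain ⟨z, rfl⟩ := Ideal.Quotient.mk_surjective z
    constructor
    · intro hz
      have hz' : z ∈ J₁ := Ideal.Quotient.eq_zero_iff_mem.1 hz
      rw [hJ₁, Submodule.mem_sup] at hz'
      obtain ⟨y, hy, b, hb, rfl⟩ := hz'
      obtain ⟨a, rfl⟩ := Ideal.mem_span_singleton'.1 hy
      refine ⟨Ideal.Quotient.mk J a, ?_⟩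
      show Ideal.Quotient.mk J g * Ideal.Quotient.mk J a = _
      rw [map_add, Ideal.Quotient.eq_zero_iff_mem.2 hb, add_zero, map_mul, mul_comm]
    · rintro ⟨y, hy⟩
      obtain ⟨y, rfl⟩ := Ideal.Quotient.mk_surjective y
      rw [← hy]
      show Ideal.Quotient.factor hJJ (Ideal.Quotient.mk J g * Ideal.Quotient.mk J y) = 0
      rw [← map_mul, Ideal.Quotient.factor_mk, Ideal.Quotient.eq_zero_iff_mem, hJ₁]
      exact Ideal.mul_mem_right _ _ (Submodule.mem_sup_left (Ideal.mem_span_singleton_self g))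
  have huA : Function.Injective (u.lTensor A) :=
    (LinearMap.lTensor_inj_iff_rTensor_inj _ _).2
      (EtAlg23.rTensor_injective_of_flat_quotient hex (Ideal.Quotient.factor_surjective hJJ) hu A)
  let π : A ⊗[A₀] S →ₐ[A₀] A ⊗[A₀] (S ⧸ J) :=
    Algebra.TensorProduct.map (AlgHom.id A₀ A) (Ideal.Quotient.mkₐ A₀ J)
  have hπker : RingHom.ker π = J.map (Algebra.TensorProduct.includeRight : S →ₐ[A₀] A ⊗[A₀] S) := by
    rw [Algebra.TensorProduct.lTensor_ker _ Ideal.Quotient.mk_surjective]
    congr 1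
    exact Ideal.mk_ker
  have hπu : ∀ x, π ((1 : A) ⊗ₜ[A₀] g * x) = u.lTensor A (π x) := by
    intro x
    induction x using TensorProduct.induction_on with
    | zero => simp
    | add a b ha hb => rw [mul_add, map_add, map_add, map_add, ha, hb]
    | tmul a s => simp [π, u, Algebra.TensorProduct.tmul_mul_tmul]
  rw [← hπker, RingHom.mem_ker] at hx ⊢
  rw [hπu] at hx
  exact huA (hx.trans (map_zero _).symm)

lemma isWeaklyRegular_of_fib_aux {A : Type u} [CommRing A] {A₀ : Type u} [CommRing A₀] [IsNoetherianRing A₀]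
    [Algebra A₀ A] {n : ℕ} (Q : Ideal (MvPolynomial (Fin n) A))
    [Q.IsPrime] {k : ℕ} (f₀ : Fin k → MvPolynomial (Fin n) A₀)
    (h : RingTheory.Sequence.IsWeaklyRegular (Fib Q)
      (List.ofFn (toFib Q ∘ fun i => MvPolynomial.map (algebraMap A₀ A) (f₀ i)))) :
    RingTheory.Sequence.IsWeaklyRegular (Localization.AtPrime Q)
      (List.ofFn (algebraMap (MvPolynomial (Fin n) A) (Localization.AtPrime Q) ∘
        fun i => MvPolynomial.map (algebraMap A₀ A) (f₀ i))) := by
  classical
  rw [isWeaklyRegular_ofFn_iff]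
  intro i z hz
  obtain ⟨hreg, hflat⟩ := regular_and_flat_at_point Q f₀ h i
  let S := Localization.AtPrime (Q.comap (MvPolynomial.map (algebraMap A₀ A)))
  let g : Fin k → S := fun j => algebraMap (MvPolynomial (Fin n) A₀) S (f₀ j)
  let ι : MvPolynomial (Fin n) A₀ →+* MvPolynomial (Fin n) A := MvPolynomial.map (algebraMap A₀ A)
  have hflat' : Module.Flat A₀ (S ⧸ Ideal.span (g '' Set.Iic i)) := hflat
  let σ : S →ₐ[A₀] Localization.AtPrime Q :=
    { toRingHom := Localization.localRingHom _ Q ι rfl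
      commutes' := fun a => by
        show Localization.localRingHom _ Q ι rfl (algebraMap A₀ S a) = _
        rw [IsScalarTower.algebraMap_apply A₀ (MvPolynomial (Fin n) A₀) S, Localization.localRingHom_to_map,
          IsScalarTower.algebraMap_apply A₀ A (Localization.AtPrime Q),
          IsScalarTower.algebraMap_apply A (MvPolynomial (Fin n) A) (Localization.AtPrime Q)]
        simp [ι, MvPolynomial.algebraMap_eq] }
  let θT : A ⊗[A₀] S →ₐ[A] Localization.AtPrime Q :=
    Algebra.TensorProduct.lift (Algebra.ofId A _) σ fun _ _ => Commute.all _ _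
  have hθ : ∀ y, θT ((1 : A) ⊗ₜ[A₀] algebraMap (MvPolynomial (Fin n) A₀) S y) = algebraMap _ _ (ι y) := by
    intro y
    rw [Algebra.TensorProduct.lift_tmul, map_one, one_mul]
    exact Localization.localRingHom_to_map _ Q ι rfl y
  let ψT : MvPolynomial (Fin n) A →ₐ[A] A ⊗[A₀] S :=
    MvPolynomial.aeval fun i => (1 : A) ⊗ₜ[A₀] algebraMap (MvPolynomial (Fin n) A₀) S (X i)
  have hcomp : ∀ y, θT (ψT y) = algebraMap _ (Localization.AtPrime Q) y := by
    have : θT.comp ψT = IsScalarTower.toAlgHom A (MvPolynomial (Fin n) A) (Localization.AtPrime Q) := by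
      refine MvPolynomial.algHom_ext fun l => ?_
      rw [AlgHom.comp_apply, MvPolynomial.aeval_X, hθ]
      simp [ι]
    exact fun y => AlgHom.congr_fun this y
  have hψι : ∀ y, ψT (ι y) = (1 : A) ⊗ₜ[A₀] algebraMap _ S y := by
    have : ψT.toRingHom.comp ι = (Algebra.TensorProduct.includeRight : S →ₐ[A₀] A ⊗[A₀] S).toRingHom.comp
        (algebraMap (MvPolynomial (Fin n) A₀) S) := by
      refine MvPolynomial.ringHom_ext (fun a => ?_) (fun l => ?_)
      · simp only [RingHom.comp_apply, ι, MvPolynomial.map_C, AlgHom.toRingHom_eq_coe, RingHom.coe_coe]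
        rw [← MvPolynomial.algebraMap_eq, AlgHom.commutes, ← MvPolynomial.algebraMap_eq,
          ← IsScalarTower.algebraMap_apply A₀ (MvPolynomial (Fin n) A₀) S,
          ← IsScalarTower.algebraMap_apply A₀ A (A ⊗[A₀] S), AlgHom.commutes]
      · simp [ι, ψT]
    exact fun y => RingHom.congr_fun this y
  rw [Set.image_comp, ← Ideal.map_span] at hz ⊢
  obtain ⟨⟨w, t⟩, hwt⟩ := IsLocalization.surj Q.primeCompl z
  refine (Ideal.mul_unit_mem_iff_mem _ (IsLocalization.map_units _ t)).1 ?_
  rw [hwt]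
  have h1 : algebraMap _ (Localization.AtPrime Q) (ι (f₀ i) * w) ∈
      (Ideal.span ((fun i => ι (f₀ i)) '' Set.Iio i)).map (algebraMap _ _) := by
    rw [map_mul, ← hwt, ← mul_assoc]
    exact Ideal.mul_mem_right _ _ hz
  obtain ⟨c, hc, hcw⟩ := (IsLocalization.algebraMap_mem_map_algebraMap_iff Q.primeCompl _ _ _).1 h1
  let J := Ideal.span (g '' Set.Iio i)
  have h2 : (1 : A) ⊗ₜ[A₀] g i * ψT (c * w) ∈
      J.map (Algebra.TensorProduct.includeRight : S →ₐ[A₀] A ⊗[A₀] S) := by
    have h := Ideal.mem_map_of_mem ψT hcw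
    rw [Ideal.map_span, ← Set.image_comp, mul_left_comm, map_mul ψT, hψι] at h
    rw [Ideal.map_span, ← Set.image_comp]
    refine (Ideal.span_mono ?_) h
    rintro _ ⟨l, hl, rfl⟩
    exact ⟨l, hl, (hψι (f₀ l)).symm⟩
  have h3 := mem_map_includeRight (J₁ := Ideal.span (g '' Set.Iic i)) hreg
    (by rw [← Set.Iio_insert, Set.image_insert_eq, Ideal.span_insert]) _ h2
  have h4 : algebraMap _ (Localization.AtPrime Q) (c * w) ∈
      (Ideal.span ((fun i => ι (f₀ i)) '' Set.Iio i)).map (algebraMap _ _) := by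
    rw [← hcomp]
    have h := Ideal.mem_map_of_mem θT h3
    rw [Ideal.map_span, Ideal.map_span, ← Set.image_comp, ← Set.image_comp] at h
    rw [Ideal.map_span, ← Set.image_comp]
    refine (Ideal.span_mono ?_) h
    rintro _ ⟨l, hl, rfl⟩
    exact ⟨l, hl, (hθ (f₀ l)).symm⟩
  rw [map_mul] at h4
  exact (Ideal.unit_mul_mem_iff_mem _ (IsLocalization.map_units _ ⟨c, hc⟩)).1 h4

/-- regularity on the fibre implies regularity at the point, over any base -/
theorem isWeaklyRegular_of_fib {A : Type u} [CommRing A] {n : ℕ} (Q : Ideal (MvPolynomial (Fin n) A))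
    [Q.IsPrime] {k : ℕ} (f : Fin k → MvPolynomial (Fin n) A)
    (h : RingTheory.Sequence.IsWeaklyRegular (Fib Q) (List.ofFn (toFib Q ∘ f))) :
    RingTheory.Sequence.IsWeaklyRegular (Localization.AtPrime Q)
      (List.ofFn (algebraMap (MvPolynomial (Fin n) A) (Localization.AtPrime Q) ∘ f)) := by
  classical
  let s : Finset A := Finset.univ.biUnion fun i => (f i).coeffs
  let A₀ := Algebra.adjoin ℤ (s : Set A)
  have hft : Algebra.FiniteType ℤ A₀ := Subalgebra.fg_iff_finiteType _ |>.1 (Subalgebra.fg_adjoin_finset s)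
  have : IsNoetherianRing A₀ := Algebra.FiniteType.isNoetherianRing ℤ A₀
  have hf₀ : ∀ i, ∃ g, MvPolynomial.map (algebraMap A₀ A) g = f i := fun i => by
    refine Set.mem_range.1 (MvPolynomial.mem_range_map_iff_coeffs_subset.2 fun c hc => ?_)
    exact ⟨⟨c, Algebra.subset_adjoin (Finset.mem_biUnion.2 ⟨i, Finset.mem_univ _, hc⟩)⟩, rfl⟩
  choose f₀ hf₀ using hf₀
  have hfun : (fun i => MvPolynomial.map (algebraMap A₀ A) (f₀ i)) = f := funext hf₀
  have := isWeaklyRegular_of_fib_aux Q f₀ (by rw [hfun]; exact h)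
  rwa [hfun] at this

end Groth.Agent.LCI19
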