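import Groth.Agent.LCI19.NL
import Mathlib.Algebra.MvPolynomial.PDeriv
import Mathlib.LinearAlgebra.Matrix.Adjugate
import Mathlib.RingTheory.Extension.Cotangent.Basic

/-! The Jacobian determinant annihilates `Ext¹` of the naive cotangent complex. -/

universe u

open CategoryTheory Algebra MvPolynomial

attribute [local instance] HasDerivedCategory.standard

namespace Groth.Agent.LCI19

theorem jacobian_smul (A : Type u) [CommRing A] (B : Type u) [CommRing B] [Algebra A B] (n m : ℕ) (hmn : m ≤ n)
    (f : Fin m → MvPolynomial (Fin n) A) (π : MvPolynomial (Fin n) A →ₐ[A] B) (hπ : Function.Surjective π)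
    (hker : RingHom.ker π.toRingHom = Ideal.span (Set.range f)) :
    (∀ (N : ModuleCat.{u} B) (φ : LCI.NL A B ⟶ ((DerivedCategory.singleFunctor (ModuleCat.{u} B) 0).obj N)⟦(1 : ℤ)⟧),
      π (Matrix.det (Matrix.of fun i j : Fin m => pderiv (Fin.castLE hmn i) (f j))) • φ = 0) ∧
    (n = m → π (Matrix.det (Matrix.of fun i j : Fin m => pderiv (Fin.castLE hmn i) (f j))) • 𝟙 (LCI.NL A B) = 0) := by
  classical
  let P : Generators A B (Fin n) := Generators.ofAlgHom π hπ
  have hval : MvPolynomial.aeval P.val = π := MvPolynomial.algHom_ext fun i => by simp [P, Generators.ofAlgHom]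
  have halg : ∀ x : P.toExtension.Ring, algebraMap P.toExtension.Ring B x = π x := fun x => by
    rw [← hval]; rfl
  have hk : P.toExtension.ker = Ideal.span (Set.range f) := by
    rw [← hker]
    ext x
    simp only [Extension.ker, RingHom.mem_ker]
    rw [halg]
    rfl
  have hf : ∀ j, f j ∈ P.toExtension.ker := fun j => hk ▸ Ideal.subset_span ⟨j, rfl⟩
  let e : Fin m → P.toExtension.Cotangent := fun j => Extension.Cotangent.mk ⟨f j, hf j⟩
  have he : Submodule.span B (Set.range e) = ⊤ := by
    refine eq_top_iff.2 fun z _ => ?_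
    obtain ⟨⟨x, hx⟩, rfl⟩ := Extension.Cotangent.mk_surjective z
    obtain ⟨c, hc⟩ := Ideal.mem_span_range_iff_exists_fun.1 (hk ▸ hx : x ∈ Ideal.span (α := P.toExtension.Ring) (Set.range f))
    rw [show (⟨x, hx⟩ : P.toExtension.ker) = ∑ i, c i • (⟨f i, hf i⟩ : P.toExtension.ker) from
      Subtype.ext (by rw [Submodule.coe_sum]; exact hc.symm), map_sum]
    refine Submodule.sum_mem _ fun i _ => ?_
    rw [map_smul, ← algebraMap_smul B]
    exact Submodule.smul_mem _ _ (Submodule.subset_span ⟨i, rfl⟩)
  let d := P.toExtension.cotangentComplex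
  let b := P.cotangentSpaceBasis
  let J : Matrix (Fin m) (Fin m) B := Matrix.of fun i j => π (pderiv (Fin.castLE hmn i) (f j))
  let g : B := π (Matrix.det (Matrix.of fun i j : Fin m => pderiv (Fin.castLE hmn i) (f j)))
  have hg : g = J.det := by
    simp only [g, J]
    rw [AlgHom.map_det]
    rfl
  have hd : ∀ i j, b.repr (d (e j)) i = π (pderiv i (f j)) := fun i j => by
    rw [← hval]
    exact P.cotangentSpaceBasis_repr_one_tmul (f j) i
  let s : P.toExtension.CotangentSpace →ₗ[B] P.toExtension.Cotangent :=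
    b.constr B fun i => if h : (i : ℕ) < m then ∑ k, J.adjugate k ⟨i, h⟩ • e k else 0
  have hs : ∀ j, s (d (e j)) = g • e j := by
    intro j
    rw [Module.Basis.constr_apply_fintype]
    simp only [Module.Basis.equivFun_apply, hd]
    rw [← Finset.sum_subset (s₁ := Finset.univ.map ⟨Fin.castLE hmn, Fin.castLE_injective hmn⟩) (Finset.subset_univ _)
      (fun i _ hi => by
        rw [dif_neg, smul_zero]
        intro h
        exact hi (Finset.mem_map.2 ⟨⟨i, h⟩, Finset.mem_univ _, rfl⟩)), Finset.sum_map]
    simp only [Function.Embedding.coeFn_mk, Fin.val_castLE, Fin.is_lt, dif_pos, Fin.eta, Finset.smul_sum, smul_smul]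
    rw [Finset.sum_comm]
    simp only [← Finset.sum_smul]
    have : ∀ k, ∑ i, π (pderiv (Fin.castLE hmn i) (f j)) * J.adjugate k i = if k = j then g else 0 := fun k => by
      have h := congrFun (congrFun J.adjugate_mul k) j
      rw [Matrix.mul_apply, Matrix.smul_apply, Matrix.one_apply, ← hg, smul_eq_mul, mul_ite, mul_one, mul_zero] at h
      rw [← h]
      exact Finset.sum_congr rfl fun i _ => mul_comm _ _
    simp [this]
  have hs₁ : s ∘ₗ d = g • LinearMap.id :=
    LinearMap.ext_on_range he fun j => by simpa using hs j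
  have hp : CategoryTheory.Projective (ModuleCat.of B P.toExtension.CotangentSpace) := ModuleCat.projective_of_free b
  have hs' : ModuleCat.ofHom d ≫ ModuleCat.ofHom s = g • 𝟙 (ModuleCat.of B P.toExtension.Cotangent) := by
    apply ModuleCat.hom_ext
    simpa using hs₁
  refine ⟨fun N φ => ?_, fun hnm => ?_⟩
  · show g • φ = 0
    have h := smul_ext_one_eq_zero (ModuleCat.ofHom d) g (ModuleCat.ofHom s) hs' N ((nlIso P).inv ≫ φ)
    rw [← Linear.comp_smul] at h
    exact (cancel_epi (nlIso P).inv).1 (h.trans Limits.comp_zero.symm)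
  · show g • 𝟙 (LCI.NL A B) = 0
    have hd' : ∀ i : Fin n, d (s (b i)) = g • b i := by
      intro i
      subst hnm
      apply b.ext_elem
      intro l
      rw [show s (b i) = ∑ k, J.adjugate k i • e k by simp [s]]
      simp only [map_sum, map_smul, Finsupp.coe_finsetSum, Finset.sum_apply, Finsupp.smul_apply, hd,
        Module.Basis.repr_self, smul_eq_mul, Finsupp.single_apply]
      have h := congrFun (congrFun J.mul_adjugate l) i
      rw [Matrix.mul_apply, Matrix.smul_apply, Matrix.one_apply, ← hg, smul_eq_mul, mul_ite, mul_one, mul_zero] at h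
      rw [mul_ite, mul_one, mul_zero]
      refine Eq.trans ?_ (h.trans (if_congr eq_comm rfl rfl))
      exact Finset.sum_congr rfl fun k _ => mul_comm _ _
    have h := smul_id_eq_zero (ModuleCat.ofHom d) g (ModuleCat.ofHom s) hs' (by
      apply ModuleCat.hom_ext
      refine b.ext fun i => ?_
      simpa using hd' i)
    calc g • 𝟙 (LCI.NL A B) = (nlIso P).hom ≫ (g • 𝟙 _) ≫ (nlIso P).inv := by simp
      _ = 0 := by rw [h, Limits.zero_comp, Limits.comp_zero]

end Groth.Agent.LCI19
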