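import Groth.Agent.LCI19.NLFlat
import Groth.Agent.LCI19.NLPerfect
import Groth.Agent.LCI19.FVascGlobal

/-! Over a Noetherian base: tor amplitude of the naive cotangent complex detects complete intersections. -/

universe u

open CategoryTheory Algebra

attribute [local instance] HasDerivedCategory.standard

namespace Groth.Agent.LCI19

open DR39

variable {A B : Type u} [CommRing A] [CommRing B] [Algebra A B]

/-- the kernel ideal of a presentation with projective conormal module -/
lemma projective_ker_cotangent (P : Extension.{u} A B) (h : Module.Projective B P.Cotangent) :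
    Module.Projective (P.Ring ⧸ P.ker) P.ker.Cotangent := by
  let σ : B ≃+* (P.Ring ⧸ P.ker) := (RingHom.quotientKerEquivOfSurjective P.algebraMap_surjective).symm
  have : RingHomInvPair σ.toRingHom σ.symm.toRingHom := RingHomInvPair.of_ringEquiv σ
  have : RingHomInvPair σ.symm.toRingHom σ.toRingHom := RingHomInvPair.of_ringEquiv_symm σ
  let e : P.Cotangent ≃ₛₗ[σ.toRingHom] P.ker.Cotangent :=
    { toFun := Extension.Cotangent.val
      invFun := Extension.Cotangent.of
      map_add' := fun x y => rfl
      map_smul' := fun r x => by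
        obtain ⟨r, rfl⟩ := P.algebraMap_surjective r
        rw [show σ.toRingHom (algebraMap P.Ring B r) = Ideal.Quotient.mk P.ker r from
          (RingEquiv.symm_apply_eq _).2 rfl, algebraMap_smul, Extension.Cotangent.val_smul']
        rfl }
  exact Module.Projective.of_equiv e

/-- a finite type algebra of finite tor dimension has a kernel of finite projective dimension -/
lemma exists_pd_ker [IsNoetherianRing A] (hB : DRing.HasFiniteTorDim A B) {n : ℕ}
    (f : MvPolynomial (Fin n) A →ₐ[A] B) (hf : Function.Surjective f) :
    ∃ m, HasProjectiveDimensionLT (ModuleCat.of (MvPolynomial (Fin n) A) (RingHom.ker f.toRingHom)) m := by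
  obtain ⟨d, hd⟩ := hB
  let : Algebra (MvPolynomial (Fin n) A) B := f.toRingHom.toAlgebra
  have : IsScalarTower A (MvPolynomial (Fin n) A) B := IsScalarTower.of_algebraMap_eq fun a => (f.commutes a).symm
  let g : MvPolynomial (Fin n) A →ₗ[MvPolynomial (Fin n) A] B := Algebra.linearMap _ B
  have hg : Function.Surjective g := hf
  have : Module.Finite (MvPolynomial (Fin n) A) B := Module.Finite.of_surjective g hg
  have hta := ta_mvPolynomial n B ((hasTorDimLE_iff B d).1 hd)
  have hker : LinearMap.ker g = RingHom.ker f.toRingHom := rfl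
  refine ⟨d + n + 1, ?_⟩
  rw [← hker]
  have hpdB := hasProjectiveDimensionLT_of_ta (d + n) B (by push_cast; exact hta)
  exact pd_ker g hg (d + n) (hasProjectiveDimensionLT_of_ge _ (d + n + 1) (d + n + 1 + 1) (by omega))

theorem nl_ta_iff_isLCI [IsNoetherianRing A] [Algebra.FiniteType A B] (hB : DRing.HasFiniteTorDim A B) :
    DRing.HasTorAmplitudeIn B (-1) 0 (LCI.NL A B) ↔ LCI.IsLCI A B := by
  refine ⟨fun h => ⟨inferInstance, ?_⟩, fun h => (nl_perfect_of_isLCI h).2⟩
  obtain ⟨n, f, hf⟩ := Algebra.FiniteType.iff_quotient_mvPolynomial''.1 ‹Algebra.FiniteType A B›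
  refine ⟨n, f, hf, ?_⟩
  let P : Generators A B (Fin n) := Generators.ofAlgHom f hf
  have hval : MvPolynomial.aeval P.val = f := MvPolynomial.algHom_ext fun i => by simp [P, Generators.ofAlgHom]
  have hk : P.toExtension.ker = RingHom.ker f.toRingHom := by
    ext x
    simp only [Extension.ker, RingHom.mem_ker]
    rw [← hval]
    rfl
  have : IsNoetherianRing P.toExtension.Ring := (inferInstance : IsNoetherianRing (MvPolynomial (Fin n) A))
  have : IsNoetherianRing B := isNoetherianRing_of_surjective _ B f.toRingHom hf
  have : Module.Finite B P.toExtension.Cotangent :=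
    Extension.Cotangent.finite (IsNoetherian.noetherian P.toExtension.ker)
  have := flat_cotangent_of_ta P h
  have := Module.finitePresentation_of_finite B P.toExtension.Cotangent
  have hproj := projective_ker_cotangent P.toExtension Module.Flat.projective_of_finitePresentation
  obtain ⟨m, hm⟩ := exists_pd_ker hB f hf
  rw [← hk] at hm ⊢
  intro p hp
  have : p.asIdeal.IsPrime := p.isPrime
  obtain ⟨g, hg, rs, hrs, hI⟩ := @exists_regular_generators_away _ _ _ P.toExtension.ker m hm hproj p.asIdeal this hp
  exact ⟨g, hg, rs, (Koszul19.kR_iff rs).1 (Koszul19.kR_of_isWeaklyRegular rs hrs.toIsWeaklyRegular), hI.symm⟩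

end Groth.Agent.LCI19
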