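import Groth.Agent.LCI19.Local
import Groth.Agent.Koszul19.Conormal
import Mathlib.RingTheory.Derivation.Basic
import Mathlib.RingTheory.Localization.FractionRing

/-! Dividing a Koszul-regular ideal by a regular element of first order. -/

universe u

namespace Groth.Agent.LCI19

open Koszul19

variable {Q : Type u} [CommRing Q] {P : Type u} [CommRing P] [Algebra Q P]

lemma localize_quotient (hs : Function.Surjective (algebraMap Q P)) {y : Q}
    (hker : RingHom.ker (algebraMap Q P) = Ideal.span {y}) (g : Q)
    (Qg Pg : Type u) [CommRing Qg] [CommRing Pg] [Algebra Q Qg] [Algebra P Pg] [Algebra Qg Pg]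
    [Algebra Q Pg] [IsScalarTower Q P Pg] [IsScalarTower Q Qg Pg]
    [IsLocalization.Away g Qg] [IsLocalization.Away (algebraMap Q P g) Pg] :
    Function.Surjective (algebraMap Qg Pg) ∧
      RingHom.ker (algebraMap Qg Pg) = Ideal.span {algebraMap Q Qg y} := by
  have hsq : ∀ a, algebraMap Qg Pg (algebraMap Q Qg a) = algebraMap P Pg (algebraMap Q P a) := by
    intro a
    rw [← IsScalarTower.algebraMap_apply, ← IsScalarTower.algebraMap_apply]
  have hT : Submonoid.map (algebraMap Q P) (Submonoid.powers g) =
      Submonoid.powers (algebraMap Q P g) := Submonoid.map_powers _ _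
  have hmap : algebraMap Qg Pg = IsLocalization.map Pg (algebraMap Q P)
      (hT ▸ (Submonoid.powers g).le_comap_map) := by
    apply IsLocalization.ringHom_ext (Submonoid.powers g)
    ext a
    rw [RingHom.comp_apply, RingHom.comp_apply, IsLocalization.map_eq, hsq]
  constructor
  · intro z
    obtain ⟨n, b, hb⟩ := IsLocalization.Away.surj (algebraMap Q P g) z
    obtain ⟨a, rfl⟩ := hs b
    obtain ⟨u, hu⟩ := (IsLocalization.Away.algebraMap_isUnit (S := Qg) g).pow n
    refine ⟨algebraMap Q Qg a * ↑u⁻¹, ?_⟩
    have hu' : algebraMap Qg Pg (↑u : Qg) = (algebraMap P Pg (algebraMap Q P g)) ^ n := by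
      rw [hu, map_pow, hsq]
    rw [map_mul, hsq, ← hb, ← hu', mul_assoc, ← map_mul, Units.mul_inv, map_one, mul_one]
  · rw [hmap, IsLocalization.ker_map (S := Qg) Pg (algebraMap Q P) hT, hker, Ideal.map_span,
      Set.image_singleton]

/-- lifting regular generators along a regular quotient -/
lemma isKoszulRegularIdeal_comap (hs : Function.Surjective (algebraMap Q P)) {y : Q}
    (hy : y ∈ nonZeroDivisors Q) (hker : RingHom.ker (algebraMap Q P) = Ideal.span {y})
    {I : Ideal P} (h : LCI.IsKoszulRegularIdeal I) :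
    LCI.IsKoszulRegularIdeal (I.comap (algebraMap Q P)) := by
  rw [isKoszulRegularIdeal_iff] at *
  intro p hp
  have hyI : y ∈ I.comap (algebraMap Q P) := by
    have : algebraMap Q P y = 0 := by
      rw [← RingHom.mem_ker, hker]
      exact Ideal.mem_span_singleton_self y
    simp [this]
  have hkp : RingHom.ker (algebraMap Q P) ≤ p.asIdeal := by
    rw [hker, Ideal.span_singleton_le_iff_mem]
    exact hp hyI
  have hpr : (p.asIdeal.map (algebraMap Q P)).IsPrime :=
    Ideal.map_isPrime_of_surjective hs hkp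
  obtain ⟨g', hg', l, hl, hkr, hI⟩ := h ⟨_, hpr⟩
    ((Ideal.map_comap_of_surjective _ hs I).ge.trans (Ideal.map_mono hp))
  obtain ⟨g, rfl⟩ := hs g'
  refine ⟨g, fun hgp => hg' (Ideal.mem_map_of_mem _ hgp), ?_⟩
  choose li hli using fun x : {x // x ∈ l} => hs x.1
  let L := l.attach.map li
  have hLmap : L.map (algebraMap Q P) = l := by
    rw [List.map_map]
    conv_rhs => rw [← List.attach_map_subtype_val l]
    exact List.map_congr_left fun x _ => hli x
  let Qg := Localization.Away g
  let Pg := Localization.Away (algebraMap Q P g)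
  let : Algebra Qg Pg := (Localization.awayMap (algebraMap Q P) g).toAlgebra
  have : IsScalarTower Q Qg Pg := IsScalarTower.of_algebraMap_eq fun a => by
    rw [IsScalarTower.algebraMap_apply Q P Pg]
    simp [RingHom.algebraMap_toAlgebra, Qg, Pg, Localization.awayMap, IsLocalization.Away.map]
  obtain ⟨hs', hker'⟩ := localize_quotient hs hker g Qg Pg
  have hyreg : algebraMap Q Qg y ∈ nonZeroDivisors Qg :=
    IsLocalization.map_nonZeroDivisors_le (Submonoid.powers g) Qg ⟨y, hy, rfl⟩
  have hLg : (L.map (algebraMap Q Qg)).map (algebraMap Qg Pg) = l.map (algebraMap P Pg) := by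
    rw [List.map_map, ← RingHom.coe_comp, ← IsScalarTower.algebraMap_eq, IsScalarTower.algebraMap_eq Q P Pg,
      RingHom.coe_comp, ← List.map_map, hLmap]
  refine ⟨y :: L, ?_, ?_, ?_⟩
  · intro x hx
    rcases List.mem_cons.1 hx with rfl | hx
    · exact hyI
    · obtain ⟨z, -, rfl⟩ := List.mem_map.1 hx
      rw [Ideal.mem_comap, hli]
      exact hl _ z.2
  · rw [List.map_cons, kR_cons_iff_map hs' hyreg hker', hLg]
    exact hkr
  · rw [List.map_cons, Ideal.ofList_cons, ← hker']
    have h1 : ((I.comap (algebraMap Q P)).map (algebraMap Q Qg)).map (algebraMap Qg Pg) =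
        Ideal.ofList (l.map (algebraMap P Pg)) := by
      rw [Ideal.map_map, ← IsScalarTower.algebraMap_eq, IsScalarTower.algebraMap_eq Q P Pg,
        ← Ideal.map_map, Ideal.map_comap_of_surjective _ hs, hI]
    have h2 : (Ideal.ofList (L.map (algebraMap Q Qg))).map (algebraMap Qg Pg) =
        Ideal.ofList (l.map (algebraMap P Pg)) := by
      rw [map_ofList, hLg]
    have h3 := congrArg (Ideal.comap (algebraMap Qg Pg)) (h1.trans h2.symm)
    rw [Ideal.comap_map_of_surjective _ hs', Ideal.comap_map_of_surjective _ hs',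
      ← RingHom.ker_eq_comap_bot] at h3
    have hle : RingHom.ker (algebraMap Qg Pg) ≤ (I.comap (algebraMap Q P)).map (algebraMap Q Qg) := by
      rw [hker', Ideal.span_singleton_le_iff_mem]
      exact Ideal.mem_map_of_mem _ hyI
    rw [sup_eq_left.2 hle] at h3
    rw [h3, sup_comm]

/-- removing a regular element which is part of a system of generators -/
lemma isKoszulRegularIdeal_of_comap (hs : Function.Surjective (algebraMap Q P)) {y : Q}
    (hy : y ∈ nonZeroDivisors Q) (hker : RingHom.ker (algebraMap Q P) = Ideal.span {y})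
    (D : Derivation ℤ Q Q) {I : Ideal P}
    (hD : ∀ p : PrimeSpectrum Q, I.comap (algebraMap Q P) ≤ p.asIdeal → D y ∉ p.asIdeal)
    (h : LCI.IsKoszulRegularIdeal (I.comap (algebraMap Q P))) :
    LCI.IsKoszulRegularIdeal I := by
  classical
  rw [isKoszulRegularIdeal_iff] at *
  intro p' hp'
  let p := PrimeSpectrum.comap (algebraMap Q P) p'
  have hp : I.comap (algebraMap Q P) ≤ p.asIdeal := Ideal.comap_mono hp'
  obtain ⟨g, hg, l, hl, hkr, hI⟩ := h p hp
  have hyI : y ∈ I.comap (algebraMap Q P) := by
    have : algebraMap Q P y = 0 := by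
      rw [← RingHom.mem_ker, hker]
      exact Ideal.mem_span_singleton_self y
    simp [this]
  -- write a multiple of y in terms of the generators
  obtain ⟨⟨⟨a, ha⟩, s⟩, e⟩ := (IsLocalization.mem_map_algebraMap_iff (Submonoid.powers g)
    (Localization.Away g)).1 (show algebraMap Q (Localization.Away g) y ∈
      (Ideal.ofList l).map (algebraMap Q (Localization.Away g)) by
    rw [map_ofList, ← hI]
    exact Ideal.mem_map_of_mem _ hyI)
  rw [← map_mul] at e
  obtain ⟨⟨t, n, rfl⟩, ht⟩ := IsLocalization.exists_of_eq (M := Submonoid.powers g) e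
  obtain ⟨-, m, rfl⟩ := s
  simp only at ht
  have hmem : g ^ n * (y * g ^ m) ∈ Ideal.ofList l := by
    rw [ht]
    exact Ideal.mul_mem_left _ _ ha
  rw [← List.ofFn_get l, ofList_ofFn, Ideal.mem_span_range_iff_exists_fun] at hmem
  obtain ⟨c, hc⟩ := hmem
  simp only [List.get_eq_getElem] at hc
  have hu : g ^ n * g ^ m ∉ p.asIdeal := by
    intro hh
    rcases p.isPrime.mem_or_mem hh with hh | hh <;> exact hg (p.isPrime.mem_of_pow_mem _ hh)
  have hex : ∃ i, c i ∉ p.asIdeal := by
    by_contra hall
    push Not at hall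
    have hD' := congrArg D hc
    rw [map_sum] at hD'
    have h1 : ∑ i, D (c i * l[(i : ℕ)]) ∈ p.asIdeal := Ideal.sum_mem _ fun i _ => by
      rw [D.leibniz, smul_eq_mul, smul_eq_mul]
      exact add_mem (Ideal.mul_mem_right _ _ (hall i))
        (Ideal.mul_mem_right _ _ (hp (hl _ (List.getElem_mem _))))
    rw [hD', show g ^ n * (y * g ^ m) = (g ^ n * g ^ m) * y by ring, D.leibniz, smul_eq_mul,
      smul_eq_mul, Ideal.add_mem_iff_left _ (Ideal.mul_mem_right _ _ (hp hyI))] at h1
    exact (p.isPrime.mem_or_mem h1).elim hu (hD p hp)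
  obtain ⟨i, hi⟩ := hex
  let g' := g * c i
  have hg' : g' ∉ p.asIdeal := fun hh => (p.isPrime.mem_or_mem hh).elim hg hi
  refine ⟨algebraMap Q P g', hg', ?_⟩
  let Qg := Localization.Away g'
  let Pg := Localization.Away (algebraMap Q P g')
  have hgu : IsUnit (algebraMap Q Qg g) :=
    isUnit_of_dvd_unit (map_dvd _ (dvd_mul_right g (c i))) (IsLocalization.Away.algebraMap_isUnit g')
  have hcu : IsUnit (algebraMap Q Qg (c i)) :=
    isUnit_of_dvd_unit (map_dvd _ (dvd_mul_left (c i) g)) (IsLocalization.Away.algebraMap_isUnit g')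
  have hkr' : KR (l.map (algebraMap Q Qg)) ∧
      (I.comap (algebraMap Q P)).map (algebraMap Q Qg) = Ideal.ofList (l.map (algebraMap Q Qg)) := by
    let : Algebra (Localization.Away g) Qg := (IsLocalization.Away.lift g hgu).toAlgebra
    have : IsScalarTower Q (Localization.Away g) Qg :=
      IsScalarTower.of_algebraMap_eq fun a => (IsLocalization.Away.lift_eq g hgu a).symm
    have := flat_over_localization (Submonoid.powers g) (Localization.Away g) Qg
    constructor
    · have := KR.map (B := Qg) hkr
      rwa [List.map_map, ← RingHom.coe_comp, ← IsScalarTower.algebraMap_eq] at this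
    · rw [IsScalarTower.algebraMap_eq Q (Localization.Away g) Qg, ← Ideal.map_map, hI, map_ofList,
        List.map_map, ← RingHom.coe_comp]
  obtain ⟨hkr', hI'⟩ := hkr'
  let rest := l.eraseIdx i
  have heq : Ideal.ofList ((y :: rest).map (algebraMap Q Qg)) =
      Ideal.ofList (l.map (algebraMap Q Qg)) := by
    refine le_antisymm (Ideal.span_le.2 fun z hz => ?_) (Ideal.span_le.2 fun z hz => ?_)
    · obtain ⟨x, hx, rfl⟩ := List.mem_map.1 hz
      rw [← hI']
      rcases List.mem_cons.1 hx with rfl | hx
      · exact Ideal.mem_map_of_mem _ hyI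
      · exact Ideal.mem_map_of_mem _ (hl _ (List.eraseIdx_subset hx))
    · obtain ⟨x, hx, rfl⟩ := List.mem_map.1 hz
      rw [SetLike.mem_coe, ← map_ofList]
      obtain ⟨j, hj, rfl⟩ := List.getElem_of_mem hx
      by_cases hji : j = i.1
      · subst hji
        obtain ⟨v, hv⟩ := hcu.exists_left_inv
        have hci : c i * l[i.1] ∈ Ideal.ofList (y :: rest) := by
          rw [← Finset.add_sum_erase _ _ (Finset.mem_univ i), ← eq_sub_iff_add_eq] at hc
          rw [hc]
          refine sub_mem (Ideal.mul_mem_left _ _ (Ideal.mul_mem_right _ _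
            (Ideal.subset_span List.mem_cons_self))) (Ideal.sum_mem _ fun k hk =>
              Ideal.mul_mem_left _ _ (Ideal.subset_span (List.mem_cons_of_mem _ ?_)))
          exact List.mem_eraseIdx_iff_getElem.2
            ⟨k.1, k.2, fun h => Finset.ne_of_mem_erase hk (Fin.ext h), rfl⟩
        have := Ideal.mul_mem_left ((Ideal.ofList (y :: rest)).map (algebraMap Q Qg)) v
          (Ideal.mem_map_of_mem _ hci)
        rwa [map_mul, ← mul_assoc, hv, one_mul] at this
      · exact Ideal.mem_map_of_mem _ (Ideal.subset_span (List.mem_cons_of_mem _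
          (List.mem_eraseIdx_iff_getElem.2 ⟨j, hj, hji, rfl⟩)))
  have hkr2 : KR ((y :: rest).map (algebraMap Q Qg)) := by
    refine kR_of_length_le hkr' heq ?_
    have hi2 : i.1 < l.length := i.2
    simp only [List.length_map, List.length_cons, rest, List.length_eraseIdx, if_pos hi2]
    omega
  let : Algebra Qg Pg := (Localization.awayMap (algebraMap Q P) g').toAlgebra
  have : IsScalarTower Q Qg Pg := IsScalarTower.of_algebraMap_eq fun a => by
    rw [IsScalarTower.algebraMap_apply Q P Pg]
    simp [RingHom.algebraMap_toAlgebra, Qg, Pg, Localization.awayMap, IsLocalization.Away.map]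
  obtain ⟨hs', hker'⟩ := localize_quotient hs hker g' Qg Pg
  have hyreg : algebraMap Q Qg y ∈ nonZeroDivisors Qg :=
    IsLocalization.map_nonZeroDivisors_le (Submonoid.powers g') Qg ⟨y, hy, rfl⟩
  rw [List.map_cons, kR_cons_iff_map hs' hyreg hker', List.map_map, ← RingHom.coe_comp,
    ← IsScalarTower.algebraMap_eq] at hkr2
  refine ⟨rest.map (algebraMap Q P), ?_, ?_, ?_⟩
  · intro x hx
    obtain ⟨z, hz, rfl⟩ := List.mem_map.1 hx
    exact hl _ (List.eraseIdx_subset hz)
  · rwa [List.map_map, ← RingHom.coe_comp, ← IsScalarTower.algebraMap_eq]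
  · rw [List.map_map, ← RingHom.coe_comp, ← IsScalarTower.algebraMap_eq,
      ← Ideal.map_comap_of_surjective _ hs I, Ideal.map_map, ← IsScalarTower.algebraMap_eq,
      IsScalarTower.algebraMap_eq Q Qg Pg, ← Ideal.map_map, hI', ← heq, map_ofList,
      List.map_map, ← RingHom.coe_comp, List.map_cons, Ideal.ofList_cons]
    have h0 : (algebraMap Qg Pg).comp (algebraMap Q Qg) y = 0 := by
      rw [RingHom.comp_apply, ← RingHom.mem_ker, hker']
      exact Ideal.mem_span_singleton_self _
    rw [h0, Ideal.span_singleton_zero, bot_sup_eq]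

end Groth.Agent.LCI19
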